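import Cfsg.Agent.Lib.Suz.Final
import Cfsg.Agent.Lib.Zass.InvCentral
import Cfsg.Agent.Lib.Zass.RegField
import Cfsg.Agent.S0738

/-!
# From a Zassenhaus group to the hypotheses of the Suzuki 2-group theorem
-/

set_option autoImplicit false
set_option linter.style.haveILetI false
set_option linter.unusedSectionVars false

namespace Cfsg.Agent.Lib.Suz.Setup

open Cfsg MulAction Finset
open Cfsg.Agent.Lib.Zass.Basic Cfsg.Agent.Lib.Zass.Stab Cfsg.Agent.Lib.Zass.Inv
  Cfsg.Agent.Lib.Zass.InvCount Cfsg.Agent.Lib.Zass.InvCentral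
open Cfsg.Agent.Lib.Suz.Sect

universe u v

/-- The hypotheses of the theorem. -/
structure Hyp (G : Type u) {Ω : Type v} [Group G] [MulAction G Ω] (a b : Ω) (Q : Subgroup G) : Prop where
  hZ : IsZassenhausGroup G Ω
  hab : a ≠ b
  Qa : Q ≤ stabilizer G a
  Qn : ∀ h ∈ stabilizer G a, ∀ u ∈ Q, h * u * h⁻¹ ∈ Q
  Q2 : IsPGroup 2 Q
  Qna : ∃ u ∈ Q, ∃ v ∈ Q, u * v ≠ v * u
  hreg : ∀ c d : Ω, c ≠ a → d ≠ a → ∃! u : Q, (u : G) • c = d

variable {G : Type u} {Ω : Type v} [Group G] [MulAction G Ω] {a b : Ω} {Q : Subgroup G}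

section Basic

variable (hy : Hyp G a b Q)
include hy

theorem Qfix {u : G} (hu : u ∈ Q) (hu1 : u ≠ 1) {c : Ω} (hc : u • c = c) : c = a := by
  by_contra hca
  obtain ⟨v, -, hv⟩ := hy.hreg c c hca hca
  have h1 := hv ⟨u, hu⟩ hc
  have h2 := hv 1 (by simp)
  apply hu1
  have h3 : (⟨u, hu⟩ : Q) = 1 := h1.trans h2.symm
  exact congrArg Subtype.val h3

theorem Qcard [Finite G] [Fintype Ω] : Nat.card Q + 1 = Fintype.card Ω := by
  classical
  have hba : b ≠ a := Ne.symm hy.hab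
  let f : Q → {x : Ω // x ≠ a} := fun u => ⟨(u : G) • b, by
    intro h
    apply hba
    have hu : (u : G) • a = a := hy.Qa u.2
    exact smul_left_cancel _ (h.trans hu.symm)⟩
  have hf : Function.Bijective f := by
    constructor
    · intro u v huv
      have h1 : (u : G) • b = (v : G) • b := congrArg Subtype.val huv
      obtain ⟨w, -, hw⟩ := hy.hreg b ((v : G) • b) hba (f v).2
      exact (hw u h1).trans (hw v rfl).symm
    · rintro ⟨z, hz⟩
      obtain ⟨u, hu, -⟩ := hy.hreg b z hba hz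
      exact ⟨u, Subtype.ext hu⟩
  have h1 := Nat.card_eq_of_bijective f hf
  rw [h1, Nat.card_eq_fintype_card, Fintype.card_subtype_compl, Fintype.card_subtype_eq]
  have : 0 < Fintype.card Ω := Fintype.card_pos_iff.mpr ⟨a⟩
  omega

theorem inter {x : G} (hxE : x ∈ E (G := G) a b) (hxQ : x ∈ Q) : x = 1 := by
  by_contra h1
  exact hy.hab (Qfix hy hxQ h1 hxE.2).symm

theorem fpf : IsFree (E (G := G) a b) Q := by
  intro h hh h1 u hu huh
  by_contra hu1
  have hub : u • b ≠ b := fun h2 => hy.hab (Qfix hy hu hu1 h2).symm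
  have hua : u • a = a := hy.Qa hu
  have hua' : u • b ≠ a := by
    intro h2
    apply hy.hab
    have h3 : u • b = u • a := by rw [h2, hua]
    exact (smul_left_cancel _ h3).symm
  have hhc : h • (u • b) = u • b := by
    rw [← mul_smul, huh, mul_smul]
    have : h • b = b := hh.2
    rw [this]
  exact h1 (fix3 hy.hZ hy.hab hub.symm hua'.symm hh.1 hh.2 hhc)

theorem dec {x : G} (hx : x ∈ stabilizer G a) : ∃ u ∈ Q, ∃ h ∈ E (G := G) a b, x = u * h := by
  have hba : b ≠ a := Ne.symm hy.hab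
  have hxb : x • b ≠ a := by
    intro h
    apply hba
    have hxa : x • a = a := hx
    exact smul_left_cancel _ (h.trans hxa.symm)
  obtain ⟨u, hu, -⟩ := hy.hreg b (x • b) hba hxb
  refine ⟨u, u.2, (u : G)⁻¹ * x, ⟨?_, ?_⟩, by group⟩
  · show ((u : G)⁻¹ * x) • a = a
    have hxa : x • a = a := hx
    have hua : (u : G) • a = a := hy.Qa u.2
    rw [mul_smul, hxa, inv_smul_eq_iff, hua]
  · show ((u : G)⁻¹ * x) • b = b
    rw [mul_smul, inv_smul_eq_iff]
    exact hu.symm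

/-- A fixed-point-free involution inverts, so the kernel has no such involution. -/
theorem odd_E [Finite G] : Odd (Nat.card (E (G := G) a b)) := by
  classical
  by_contra hev
  rw [Nat.not_odd_iff_even] at hev
  haveI : Fact (Nat.Prime 2) := ⟨Nat.prime_two⟩
  obtain ⟨t, ht⟩ := exists_prime_orderOf_dvd_card' (p := 2) (G := E (G := G) a b) (even_iff_two_dvd.1 hev)
  have ht' : orderOf (t : G) = 2 := by
    rw [Subgroup.orderOf_coe, ht]
  have ht1 : (t : G) ≠ 1 := invol_ne_one ht'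
  have htt : (t : G) * t = 1 := invol_mul_self ht'
  have htinv : (t : G)⁻¹ = t := invol_inv ht'
  have htn : ∀ u ∈ Q, (t : G) * u * (t : G)⁻¹ ∈ Q := fun u hu => hy.Qn _ t.2.1 u hu
  -- every element of `Q` is inverted
  let f : Q → Q := fun v => ⟨cm (t : G) (v : G), Q.mul_mem (htn _ v.2) (Q.inv_mem v.2)⟩
  have hf : Function.Injective f := by
    intro v w hvw
    apply Subtype.ext
    have h2 : cm (t : G) (v : G) = cm (t : G) (w : G) := congrArg (fun z : Q => (z : G)) hvw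
    exact cm_inj (fpf hy) t.2 ht1 v.2 w.2 h2
  have hs : Function.Surjective f := Finite.injective_iff_surjective.1 hf
  have hinv : ∀ w ∈ Q, (t : G) * w * (t : G)⁻¹ = w⁻¹ := by
    intro w hw
    obtain ⟨v, hv⟩ := hs ⟨w, hw⟩
    have h2 : cm (t : G) (v : G) = w := congrArg (fun z : Q => (z : G)) hv
    rw [← h2]
    simp only [cm, htinv]
    have h3 : (t : G) * ((t : G) * v * t * (v : G)⁻¹) * t = ((t : G) * t) * v * t * (v : G)⁻¹ * t := by
      group
    have h4 : ((t : G) * v * t * (v : G)⁻¹)⁻¹ = v * t * (v : G)⁻¹ * t := by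
      rw [mul_inv_rev, mul_inv_rev, mul_inv_rev, inv_inv, htinv]
      group
    rw [h3, htt, one_mul, h4]
  obtain ⟨u, hu, v, hv, huv⟩ := hy.Qna
  apply huv
  have h1 := hinv _ (Q.mul_mem hu hv)
  have h2 : (t : G) * (u * v) * (t : G)⁻¹ = ((t : G) * u * (t : G)⁻¹) * ((t : G) * v * (t : G)⁻¹) := by
    group
  rw [h2, hinv u hu, hinv v hv] at h1
  have h3 : u⁻¹ * v⁻¹ = (v * u)⁻¹ := by group
  rw [h3] at h1
  exact (inv_injective h1).symm

theorem lt_card [Finite G] [Fintype Ω] :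
    2 * Nat.card ↥(stabilizer G a ⊓ stabilizer G b : Subgroup G) < Fintype.card Ω - 2 := by
  by_contra h
  have hd : Fintype.card Ω - 2 ≤ 2 * Nat.card ↥(stabilizer G a ⊓ stabilizer G b : Subgroup G) := by
    omega
  have hFn : (Q.subgroupOf (stabilizer G a)).Normal := by
    refine ⟨fun n hn g => ?_⟩
    rw [Subgroup.mem_subgroupOf] at hn ⊢
    exact hy.Qn g g.2 n hn
  have h1 := (Cfsg.Agent.S0738.result hy.hZ hy.hab hd Q hy.Qa hFn hy.hreg).1
  obtain ⟨u, hu, v, hv, huv⟩ := hy.Qna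
  apply huv
  have h2 : (⟨u, hu⟩ : Q) * ⟨v, hv⟩ = ⟨v, hv⟩ * ⟨u, hu⟩ := mul_comm' _ _
  exact congrArg Subtype.val h2

variable [Finite G] [Fintype Ω] [IsSimpleGroup G]

theorem ctx : Ctx G Ω := Ctx.of_simple hy.hZ hy.hab (odd_E hy)

theorem comm_E {x y : G} (hx : x ∈ E (G := G) a b) (hy' : y ∈ E (G := G) a b) : x * y = y * x := by
  haveI := (ctx hy).cyc hy.hab
  have h1 : (⟨x, hx⟩ : E (G := G) a b) * ⟨y, hy'⟩ = ⟨y, hy'⟩ * ⟨x, hx⟩ := mul_comm' _ _
  exact congrArg Subtype.val h1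

theorem eq_one_of_sq {x : G} (hx : x ∈ E (G := G) a b) (h2 : x * x = 1) : x = 1 := by
  by_contra h1
  exact not_invol_of_mem_E (ctx hy) hy.hab hx (orderOf_eq_two_of h1 h2)

theorem mem_Q_of_sq {x : G} (hx : x ∈ stabilizer G a) (h2 : x * x ∈ Q) : x ∈ Q := by
  obtain ⟨u, hu, h, hh, rfl⟩ := dec hy hx
  have hc : h * u * h⁻¹ ∈ Q := hy.Qn h hh.1 u hu
  have h3 : h * h = (u * (h * u * h⁻¹))⁻¹ * (u * h * (u * h)) := by group
  have h4 : h * h ∈ Q := by
    rw [h3]
    exact Q.mul_mem (Q.inv_mem (Q.mul_mem hu hc)) h2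
  have h5 := inter hy ((E (G := G) a b).mul_mem hh hh) h4
  rw [eq_one_of_sq hy hh h5, mul_one]
  exact hu

theorem hsq (s : G) (h1 : s * s ∈ Q) (h2 : s * s ≠ 1) : s ∈ Q := by
  apply mem_Q_of_sq hy _ h1
  have h3 : (s * s) • (s • a) = s • a := by
    have h4 : (s * s) • a = a := hy.Qa h1
    calc (s * s) • (s • a) = (s * (s * s)) • a := by rw [← mul_smul, mul_assoc]
      _ = s • ((s * s) • a) := mul_smul _ _ _
      _ = s • a := by rw [h4]
  exact Qfix hy h1 h2 h3

theorem htwo : ∃ t, Nat.card Q = 2 ^ t := IsPGroup.iff_card.1 hy.Q2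

omit [IsSimpleGroup G] [Fintype Ω] in
theorem card_Q_pos : 2 ≤ Nat.card Q := by
  obtain ⟨u, hu, v, hv, huv⟩ := hy.Qna
  by_contra h
  have h1 : Nat.card Q = 1 := by
    have : 0 < Nat.card Q := Nat.card_pos
    omega
  have h2 : Subsingleton Q := (Nat.card_eq_one_iff_unique.1 h1).1
  apply huv
  have h3 : (⟨u, hu⟩ : Q) * ⟨v, hv⟩ = ⟨v, hv⟩ * ⟨u, hu⟩ := Subsingleton.elim _ _
  exact congrArg Subtype.val h3

theorem even_Q : Even (Nat.card Q) := by
  obtain ⟨t, ht⟩ := htwo hy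
  have h1 := card_Q_pos hy
  rw [ht] at h1 ⊢
  have ht0 : t ≠ 0 := by
    rintro rfl
    simp at h1
  exact (Nat.even_pow' ht0).2 even_two

theorem odd_Ω : Odd (Fintype.card Ω) := by
  rw [← Qcard hy]
  exact (even_Q hy).add_one

/-- The members of `fib a a` are the involutions of `Q`. -/
theorem mem_fib_iff [Fintype G] {t : G} : t ∈ fib (G := G) a a ↔ orderOf t = 2 ∧ t ∈ Q := by
  rw [mem_fib]
  constructor
  · rintro ⟨h1, h2⟩
    refine ⟨h1, mem_Q_of_sq hy h2 ?_⟩
    rw [invol_mul_self h1]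
    exact Q.one_mem
  · rintro ⟨h1, h2⟩
    exact ⟨h1, hy.Qa h2⟩

open scoped Classical in
theorem hcount [Fintype G] :
    (univ.filter (fun s : G => s * s ∈ Q)).card
      = Nat.card Q * (Nat.card (E (G := G) a b) + 1) := by
  have hC := ctx hy
  set e := Nat.card (E (G := G) a b) with he
  set N := Nat.card Q with hN
  have hfib : (fib (G := G) a a).card = e := card_fib_self_of_odd hC (odd_Ω hy) hy.hab
  have hinv : (invs G).card = e * (N + 1) := by
    have h1 := card_invs_eq (G := G) hC hy.hab (Qcard hy).symm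
    rw [if_pos (even_Q hy)] at h1
    exact h1
  have h1 : (univ.filter (fun s : G => s * s ∈ Q))
      = (univ.filter (fun s : G => s ∈ Q)) ∪ ((invs G).filter (fun t => ¬ t • a = a)) := by
    ext s
    simp only [mem_filter, mem_univ, true_and, mem_union, mem_invs]
    constructor
    · intro h2
      by_cases h3 : s * s = 1
      · by_cases h4 : s • a = a
        · left
          exact mem_Q_of_sq hy h4 h2
        · right
          refine ⟨orderOf_eq_two_of ?_ h3, h4⟩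
          rintro rfl
          simp at h4
      · left
        exact hsq hy s h2 h3
    · rintro (h2 | ⟨h2, h3⟩)
      · exact Q.mul_mem h2 h2
      · rw [invol_mul_self h2]
        exact Q.one_mem
  have hdisj : Disjoint (univ.filter (fun s : G => s ∈ Q)) ((invs G).filter (fun t => ¬ t • a = a)) := by
    rw [disjoint_left]
    intro s hs hs'
    simp only [mem_filter, mem_univ, true_and] at hs hs'
    exact hs'.2 (hy.Qa hs)
  have h2 : (univ.filter (fun s : G => s ∈ Q)).card = N := by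
    rw [card_filter_eq]
  have h3 : ((invs G).filter (fun t => t • a = a)).card + ((invs G).filter (fun t => ¬ t • a = a)).card
      = (invs G).card := card_filter_add_card_filter_not _
  have h4 : ((invs G).filter (fun t => t • a = a)).card = e := by
    rw [← hfib]
    rfl
  rw [h1, card_union_of_disjoint hdisj, h2]
  rw [h4, hinv] at h3
  have h5 : ((invs G).filter (fun t => ¬ t • a = a)).card = e * N := by
    have h6 : e * (N + 1) = e + e * N := by ring
    omega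
  rw [h5]
  ring

omit [IsSimpleGroup G] [Fintype Ω] in
/-- A non-trivial `2`-group has a non-trivial homomorphism to `±1`. -/
theorem exists_hom_ne [Fintype Q] : ∃ ν : Q →* ℤˣ, ν ≠ 1 := by
  classical
  obtain ⟨t, ht⟩ := IsPGroup.iff_card.1 hy.Q2
  have h1 := card_Q_pos hy
  have ht0 : t ≠ 0 := by
    rintro rfl
    rw [pow_zero] at ht
    omega
  obtain ⟨r, rfl⟩ : ∃ r, t = r + 1 := ⟨t - 1, by omega⟩
  obtain ⟨K, hK⟩ := Sylow.exists_subgroup_card_pow_prime (G := Q) 2 (n := r)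
    (by rw [ht]; exact pow_dvd_pow 2 (by omega))
  have hidx : K.index = 2 := by
    have h2 := K.index_mul_card
    rw [hK, ht, pow_succ, mul_comm] at h2
    exact Nat.eq_of_mul_eq_mul_left (by positivity) h2
  haveI hKn : K.Normal := Subgroup.normal_of_index_eq_two hidx
  have hsqK : ∀ x, x * x ∈ K := fun x => Subgroup.mul_self_mem_of_index_two hidx x
  obtain ⟨u, hu⟩ : ∃ u, u ∉ K := by
    by_contra hcon
    push Not at hcon
    have h3 : K = ⊤ := by
      ext x
      simp [hcon x]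
    rw [h3, Subgroup.index_top] at hidx
    omega
  obtain ⟨ν, hν⟩ := Cfsg.Agent.Lib.Suz.LinD.exists_hom_of_sq K hsqK hu
  refine ⟨ν, ?_⟩
  rintro rfl
  exact hν rfl

theorem he3 : 3 ≤ Nat.card (E (G := G) a b) := by
  obtain ⟨g, hg1, hg2, hg3⟩ := exists_ne_fix2 hy.hZ hy.hab
  have hmem : g ∈ E (G := G) a b := ⟨hg2, hg3⟩
  have h1 : 1 < Nat.card (E (G := G) a b) := by
    rw [Finite.one_lt_card_iff_nontrivial]
    exact ⟨⟨⟨g, hmem⟩, 1, fun h => hg1 (congrArg Subtype.val h)⟩⟩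
  obtain ⟨k, hk⟩ := odd_E hy (a := a) (b := b)
  omega

theorem Qcomm {x y : G} (hx : x ∈ stabilizer G a) (hy' : y ∈ stabilizer G a) :
    x * y * x⁻¹ * y⁻¹ ∈ Q := by
  obtain ⟨u, hu, h, hh, rfl⟩ := dec hy hx
  obtain ⟨v, hv, k, hk, rfl⟩ := dec hy hy'
  have hc := comm_E hy hh hk
  have h1 : u * h * (v * k) * (u * h)⁻¹ * (v * k)⁻¹
      = u * (h * v * h⁻¹) * (h * k * h⁻¹ * u⁻¹ * k⁻¹) * v⁻¹ := by
    group
  have h2 : h * k * h⁻¹ = k := by rw [hc]; group
  rw [h1, h2]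
  refine Q.mul_mem (Q.mul_mem (Q.mul_mem hu (hy.Qn h hh.1 v hv)) (hy.Qn k hk.1 _ (Q.inv_mem hu))) (Q.inv_mem hv)

theorem sc [Fintype G] : Cfsg.Agent.Lib.Suz.Ind.SC Q (E (G := G) a b) where
  nrm := fun h hh u hu => hy.Qn h hh.1 u hu
  tr := by
    intro u hu hu1 x hx
    have h1 : (x⁻¹ * u * x) • a = a := hy.Qa hx
    have h2 : u • (x • a) = x • a := by
      rw [mul_smul, mul_smul, inv_smul_eq_iff] at h1
      exact h1
    have h3 : x • a = a := Qfix hy hu hu1 h2
    have h4 : x⁻¹ ∈ stabilizer G a := (stabilizer G a).inv_mem h3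
    obtain ⟨v, hv, h, hh, hxe⟩ := dec hy h4
    refine ⟨h⁻¹, (E (G := G) a b).inv_mem hh, v⁻¹, Q.inv_mem hv, ?_⟩
    rw [← mul_inv_rev, ← hxe, inv_inv]
  inter := fun x h1 h2 => inter hy h1 h2
  idx := by
    have h1 := card_G hy.hZ hy.hab
    have h2 := Q.card_mul_index
    have h3 := Qcard hy
    have h4 : Fintype.card Ω - 1 = Nat.card Q := by omega
    rw [h4, ← h3, ← h2] at h1
    have hpos : 0 < Nat.card Q := Nat.card_pos
    have h5 : Nat.card Q * Q.index = Nat.card Q * ((Nat.card Q + 1) * Nat.card (E (G := G) a b)) := by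
      rw [h1]
      ring
    exact Nat.eq_of_mul_eq_mul_left hpos h5

theorem zc [Fintype G] : Cfsg.Agent.Lib.Suz.Spec.ZC G a b Q where
  hZ := hy.hZ
  hab := hy.hab
  Qa := hy.Qa
  Qcard := Qcard hy
  Qfix := fun u hu hu1 c hc => Qfix hy hu hu1 hc
  Qnorm := fun x hx u hu => hy.Qn x hx u hu
  Qcomm := fun x hx y hy' => Qcomm hy hx hy'
  hodd := odd_E hy
  hlt := by
    have h1 := lt_card hy
    omega

theorem cc [Fintype G] [Fintype Q] : Cfsg.Agent.Lib.Suz.Core.CC G a b Q (E (G := G) a b) where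
  z := zc hy
  sc := sc hy
  hF := fpf hy
  hsq := hsq hy
  hcount := hcount hy
  htwo := htwo hy
  hne := exists_hom_ne hy
  hHcard := rfl
  he3 := he3 hy

end Basic

section Field

open Cfsg.Agent.Lib.Suz.PartB

variable (hy : Hyp G a b Q) [Fintype G] [Fintype Ω] [IsSimpleGroup G]
include hy

theorem Zcent {z u : G} (hz : z ∈ Q) (hzz : z * z = 1) (hu : u ∈ Q) : z * u = u * z := by
  by_cases hz1 : z = 1
  · simp [hz1]
  have h1 := central_in_kernel (ctx hy) hy.Qa (Qcard hy) (fun u hu hu1 c hc => Qfix hy hu hu1 hc)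
    (orderOf_eq_two_of hz1 hzz) (hy.Qa hz) hu
  calc z * u = (u * z * u⁻¹) * u := by rw [h1]
    _ = u * z := by group

/-- The involutions of `Q` together with the identity. -/
def ZZ (hy : Hyp G a b Q) : Subgroup G where
  carrier := {u | u ∈ Q ∧ u * u = 1}
  one_mem' := ⟨Q.one_mem, mul_one 1⟩
  mul_mem' := by
    rintro x y ⟨hx, hxx⟩ ⟨hy', hyy⟩
    refine ⟨Q.mul_mem hx hy', ?_⟩
    calc x * y * (x * y) = x * (y * x) * y := by group
      _ = x * (x * y) * y := by rw [Zcent hy hx hxx hy']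
      _ = (x * x) * (y * y) := by group
      _ = 1 := by rw [hxx, hyy, one_mul]
  inv_mem' := by
    rintro x ⟨hx, hxx⟩
    refine ⟨Q.inv_mem hx, ?_⟩
    rw [← mul_inv_rev, hxx, inv_one]

omit [Fintype G] [Fintype Ω] [IsSimpleGroup G] in
theorem mem_ZZ [Fintype G] [Fintype Ω] [IsSimpleGroup G] {u : G} : u ∈ ZZ hy ↔ u ∈ Q ∧ u * u = 1 := Iff.rfl

theorem ZZ_le : ZZ hy ≤ Q := fun _ h => h.1

theorem card_ZZ : Nat.card (ZZ hy) = Nat.card (E (G := G) a b) + 1 := by
  classical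
  have h1 : Nat.card (ZZ hy) = (univ.filter (fun u : G => u ∈ ZZ hy)).card := by
    rw [card_filter_eq]
  have h2 : (univ.filter (fun u : G => u ∈ ZZ hy)) = insert 1 (fib (G := G) a a) := by
    ext u
    simp only [mem_filter, mem_univ, true_and, mem_insert, mem_fib_iff hy]
    constructor
    · rintro ⟨h3, h4⟩
      by_cases h5 : u = 1
      · exact Or.inl h5
      · exact Or.inr ⟨orderOf_eq_two_of h5 h4, h3⟩
    · rintro (rfl | ⟨h3, h4⟩)
      · exact (ZZ hy).one_mem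
      · exact ⟨h4, invol_mul_self h3⟩
  have h3 : (1 : G) ∉ fib (G := G) a a := by
    intro h4
    have := ((mem_fib_iff hy).1 h4).1
    rw [orderOf_one] at this
    omega
  rw [h1, h2, card_insert_of_notMem h3, card_fib_self_of_odd (ctx hy) (odd_Ω hy) hy.hab]

/-- **The field.** -/
theorem exists_PB : ∃ (L : Type u) (_ : Field L) (_ : Fintype L) (lam ζ : G → L) (m : ℕ),
    PB Q (E (G := G) a b) (ZZ hy) lam ζ ∧ Fintype.card L = 2 ^ m ∧ 2 ≤ m ∧
      Nat.card (E (G := G) a b) + 1 = 2 ^ m ∧ Nat.card (ZZ hy) = 2 ^ m := by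
  classical
  have hC := ctx hy
  have hcomm : ∀ x y : ZZ hy, x * y = y * x := by
    intro x y
    apply Subtype.ext
    exact Zcent hy x.2.1 x.2.2 y.2.1
  letI : CommGroup (ZZ hy) := { (inferInstance : Group (ZZ hy)) with mul_comm := hcomm }
  have hinvZ : ∀ h ∈ E (G := G) a b, ∀ z ∈ ZZ hy, h * z * h⁻¹ ∈ ZZ hy := by
    intro h hh z hz
    refine ⟨hy.Qn h hh.1 z hz.1, ?_⟩
    have h1 : h * z * h⁻¹ * (h * z * h⁻¹) = h * (z * z) * h⁻¹ := by group
    rw [h1, hz.2]
    group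
  let c : E (G := G) a b → ZZ hy →* ZZ hy := fun h =>
    { toFun := fun z => ⟨(h : G) * z * (h : G)⁻¹, hinvZ h h.2 z z.2⟩
      map_one' := by apply Subtype.ext; simp
      map_mul' := fun x y => by apply Subtype.ext; simp [mul_assoc] }
  let φ : E (G := G) a b →* AddMonoid.End (Additive (ZZ hy)) :=
    { toFun := fun h => MonoidHom.toAdditive (c h)
      map_one' := by
        refine AddMonoidHom.ext fun v => ?_
        apply Additive.toMul.injective
        apply Subtype.ext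
        show ((1 : E (G := G) a b) : G) * ((Additive.toMul v : ZZ hy) : G) * ((1 : E (G := G) a b) : G)⁻¹ = _
        simp
        rfl
      map_mul' := by
        intro x y
        refine AddMonoidHom.ext fun v => ?_
        apply Additive.toMul.injective
        apply Subtype.ext
        show ((x * y : E (G := G) a b) : G) * ((Additive.toMul v : ZZ hy) : G) * ((x * y : E (G := G) a b) : G)⁻¹
          = (x : G) * ((y : G) * ((Additive.toMul v : ZZ hy) : G) * (y : G)⁻¹) * (x : G)⁻¹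
        push_cast
        group }
  have hφ : ∀ (h : E (G := G) a b) (z : ZZ hy), φ h (Additive.ofMul z)
      = Additive.ofMul (⟨(h : G) * z * (h : G)⁻¹, hinvZ h h.2 z z.2⟩ : ZZ hy) := fun h z => rfl
  have hcZ := card_ZZ hy
  have he3' := he3 hy
  have hnt : Nontrivial (ZZ hy) := by
    rw [← Finite.one_lt_card_iff_nontrivial]
    omega
  obtain ⟨⟨z₀, hz₀Z⟩, hz₀1⟩ := exists_ne (1 : ZZ hy)
  have hz₀1' : z₀ ≠ 1 := fun h => hz₀1 (Subtype.ext h)
  have hinvo : ∀ {z : G}, z ∈ ZZ hy → z ≠ 1 → orderOf z = 2 := fun hz h1 => orderOf_eq_two_of h1 hz.2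
  have hw₀ : Additive.ofMul (⟨z₀, hz₀Z⟩ : ZZ hy) ≠ 0 := by
    intro h
    exact hz₀1 (Additive.ofMul.injective h)
  have hreg : ∀ w : Additive (ZZ hy), w ≠ 0 → ∃ x : E (G := G) a b, φ x (Additive.ofMul ⟨z₀, hz₀Z⟩) = w := by
    intro w hw
    obtain ⟨⟨z, hz⟩, rfl⟩ := Additive.ofMul.surjective w
    have hz1 : z ≠ 1 := by
      rintro rfl
      exact hw rfl
    obtain ⟨x, hx, hxz⟩ := invol_trans hC hy.hab (hinvo hz₀Z hz₀1') (hy.Qa hz₀Z.1) (hinvo hz hz1) (hy.Qa hz.1)
    refine ⟨⟨x, hx⟩, ?_⟩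
    rw [hφ]
    congr 1
    exact Subtype.ext hxz
  obtain ⟨L, instF, instFi, ι, hbij, hφ1, hφ2⟩ := Cfsg.Agent.Lib.Zass.RegField.exists_field φ
    (fun x y => Subtype.ext (comm_E hy x.2 y.2)) hw₀ hreg
  -- the order of `Z`
  obtain ⟨m, hm⟩ : ∃ m, Nat.card (ZZ hy) = 2 ^ m :=
    IsPGroup.iff_card.1 (IsPGroup.to_le hy.Q2 (ZZ_le hy))
  have hm2 : 2 ≤ m := by
    by_contra h
    have h1 : m = 0 ∨ m = 1 := by omega
    rcases h1 with rfl | rfl
    · rw [hcZ, pow_zero] at hm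
      omega
    · rw [hcZ, pow_one] at hm
      omega
  have hL : Fintype.card L = 2 ^ m := by
    rw [← Nat.card_eq_fintype_card, ← hm]
    exact Nat.card_eq_of_bijective _ hbij
  -- the maps
  set w₀ := Additive.ofMul (⟨z₀, hz₀Z⟩ : ZZ hy) with hw₀d
  have hsurj := hbij.2
  let ζ : G → L := fun g => if hg : g ∈ ZZ hy then (hsurj (Additive.ofMul ⟨g, hg⟩)).choose else 0
  have hζ : ∀ {g : G} (hg : g ∈ ZZ hy), ι (ζ g) w₀ = Additive.ofMul ⟨g, hg⟩ := by
    intro g hg
    simp only [ζ, dif_pos hg]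
    exact (hsurj (Additive.ofMul ⟨g, hg⟩)).choose_spec
  let lam : G → L := fun g => if hg : g ∈ E (G := G) a b then (hφ1 ⟨g, hg⟩).choose else 1
  have hlam : ∀ {g : G} (hg : g ∈ E (G := G) a b), ι (lam g) = φ ⟨g, hg⟩ := by
    intro g hg
    simp only [lam, dif_pos hg]
    exact (hφ1 ⟨g, hg⟩).choose_spec
  have hev : ∀ l l' : L, ι l w₀ = ι l' w₀ → l = l' := fun l l' h => hbij.1 h
  refine ⟨L, instF, instFi, lam, ζ, m, ?_, hL, hm2, by rw [← hcZ, hm], hm⟩
  refine
    { Q2 := hy.Q2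
      nrm := fun h hh u hu => hy.Qn h hh.1 u hu
      fpf := fpf hy
      Zle := ZZ_le hy
      Zdef := fun u hu huu => ⟨hu, huu⟩
      Zinv := fun u hu => hu.2
      Zcent := fun z hz u hu => Zcent hy hz.1 hz.2 hu
      ζadd := ?_
      ζinj := ?_
      ζsurj := ?_
      lam0 := ?_
      lams := ?_
      lam1 := ?_
      ζeq := ?_ }
  · intro x hx y hy'
    apply hev
    rw [hζ ((ZZ hy).mul_mem hx hy'), map_add]
    show _ = ι (ζ x) w₀ + ι (ζ y) w₀
    rw [hζ hx, hζ hy']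
    rfl
  · intro x hx h0
    have h1 := hζ hx
    rw [h0, map_zero] at h1
    have h2 : (⟨x, hx⟩ : ZZ hy) = 1 := Additive.ofMul.injective h1.symm
    exact congrArg Subtype.val h2
  · intro l
    obtain ⟨⟨x, hx⟩, hxl⟩ := Additive.ofMul.surjective (ι l w₀)
    refine ⟨x, hx, ?_⟩
    apply hev
    rw [hζ hx]
    exact hxl
  · intro h hh h0
    have h1 := hlam hh
    rw [h0, map_zero] at h1
    have h2 := DFunLike.congr_fun h1 w₀
    rw [hφ] at h2
    have h3 : Additive.ofMul (⟨h * z₀ * h⁻¹, hinvZ h hh z₀ hz₀Z⟩ : ZZ hy) = 0 := h2.symm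
    have h4 : (⟨h * z₀ * h⁻¹, hinvZ h hh z₀ hz₀Z⟩ : ZZ hy) = 1 := Additive.ofMul.injective h3
    have h5 : h * z₀ * h⁻¹ = 1 := congrArg Subtype.val h4
    apply hz₀1'
    have h6 : z₀ = h⁻¹ * (h * z₀ * h⁻¹) * h := by group
    rw [h6, h5]
    group
  · intro l hl
    obtain ⟨x, hx⟩ := hφ2 l hl
    refine ⟨x, x.2, ?_⟩
    apply hev
    rw [hlam x.2, hx]
  · intro h hh hne rfl1
    subst rfl1
    apply hne
    apply hev
    rw [hlam hh, map_one]
    have : (⟨1, hh⟩ : E (G := G) a b) = 1 := rfl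
    rw [this, map_one]
  · intro h hh z hz
    apply hev
    rw [hζ (hinvZ h hh z hz), map_mul]
    show _ = ι (lam h) (ι (ζ z) w₀)
    rw [hζ hz, hlam hh, hφ]

/-- **The theorem on Suzuki 2-groups.** -/
theorem main_thm : ∃ m : ℕ, 2 ≤ m ∧ Nat.card Q = 2 ^ m * 2 ^ m ∧ Nat.card (E (G := G) a b) + 1 = 2 ^ m ∧
    IsSquare (2 * 2 ^ m) := by
  classical
  obtain ⟨L, instF, instFi, lam, ζ, m, pb, hL, hm, hH, hZc⟩ := exists_PB hy
  letI : Fintype Q := Fintype.ofFinite _
  letI : Fintype (E (G := G) a b) := Fintype.ofFinite _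
  haveI : Finite (IrrCharacter G) := Cfsg.Agent.Lib.Char.Ortho.finite_irrCharacter
  letI : Fintype (IrrCharacter G) := Fintype.ofFinite _
  letI : Fintype (Q →* ℤˣ) := Fintype.ofFinite _
  obtain ⟨h1, -, h2⟩ := Cfsg.Agent.Lib.Suz.Final.main (cc hy) pb hL hm hy.Qna hH hZc
    (fun x hx y hy' => comm_E hy hx hy')
  exact ⟨m, hm, h1, hH, h2⟩

end Field

/-- `2 q` is a square only for odd exponents. -/
theorem exists_odd_of_isSquare {m : ℕ} (h : IsSquare (2 * 2 ^ m)) : ∃ l, m = 2 * l + 1 := by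
  obtain ⟨r, hr⟩ := h
  have h1 : r ∣ 2 ^ (m + 1) := by
    rw [pow_succ', hr]
    exact dvd_mul_right _ _
  obtain ⟨j, -, rfl⟩ := (Nat.dvd_prime_pow Nat.prime_two).1 h1
  have h2 : 2 ^ (m + 1) = 2 ^ (j + j) := by
    rw [pow_succ', hr, pow_add]
  have h3 : m + 1 = j + j := Nat.pow_right_injective (le_refl 2) h2
  obtain ⟨l, rfl⟩ : ∃ l, j = l + 1 := ⟨j - 1, by omega⟩
  exact ⟨l, by omega⟩

end Cfsg.Agent.Lib.Suz.Setup
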