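import Mathlib

/-!
# Combinatorics and arithmetic for the Suzuki theorem

* `sunflower`: at least `k + 2` sets of size `k` with pairwise intersections of size `k - 1`
  contain a common subset of size `k - 1`.
* `div_bound`: bound for divisors of `(q - 1) M + 2`.
* `arith_A1`, `arith_A2`: the contradictions.
-/

set_option autoImplicit false
set_option linter.style.haveILetI false
set_option linter.unusedSectionVars false

namespace Cfsg.Agent.Lib.Suz.Arith

open Finset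

variable {I : Type*} [DecidableEq I]

/-- A `k`-set with a `(k-1)`-subset is that subset with one more point. -/
theorem exists_insert {S C : Finset I} {k : ℕ} (hS : S.card = k) (hC : C.card + 1 = k) (hCS : C ⊆ S) :
    ∃ x, x ∉ C ∧ S = insert x C := by
  have h1 : (S \ C).card = 1 := by
    rw [card_sdiff_of_subset hCS]
    omega
  obtain ⟨x, hx⟩ := card_eq_one.1 h1
  have hxS : x ∈ S \ C := by rw [hx]; exact mem_singleton_self x
  refine ⟨x, (mem_sdiff.1 hxS).2, ?_⟩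
  ext y
  constructor
  · intro hy
    by_cases hyC : y ∈ C
    · exact mem_insert_of_mem hyC
    · have : y ∈ S \ C := mem_sdiff.2 ⟨hy, hyC⟩
      rw [hx, mem_singleton] at this
      rw [this]
      exact mem_insert_self _ _
  · intro hy
    rcases mem_insert.1 hy with rfl | hy
    · exact (mem_sdiff.1 hxS).1
    · exact hCS hy

/-- **The sunflower lemma.** -/
theorem sunflower (𝓕 : Finset (Finset I)) {k : ℕ} (hk : 1 ≤ k) (hs : k + 2 ≤ 𝓕.card)
    (hc : ∀ S ∈ 𝓕, S.card = k)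
    (hi : ∀ S ∈ 𝓕, ∀ S' ∈ 𝓕, S ≠ S' → (S ∩ S').card + 1 = k) :
    ∃ C : Finset I, C.card + 1 = k ∧ ∀ S ∈ 𝓕, C ⊆ S := by
  obtain ⟨S₁, hS₁, S₂, hS₂, hne⟩ : ∃ S₁ ∈ 𝓕, ∃ S₂ ∈ 𝓕, S₁ ≠ S₂ :=
    one_lt_card.1 (by omega)
  set C := S₁ ∩ S₂ with hC
  have hCc : C.card + 1 = k := hi S₁ hS₁ S₂ hS₂ hne
  refine ⟨C, hCc, ?_⟩
  obtain ⟨x₁, hx₁, hS₁x⟩ := exists_insert (hc S₁ hS₁) hCc inter_subset_left
  obtain ⟨x₂, hx₂, hS₂x⟩ := exists_insert (hc S₂ hS₂) hCc inter_subset_right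
  have hx₁₂ : x₁ ≠ x₂ := by
    rintro rfl
    exact hne (by rw [hS₁x, hS₂x])
  set E := insert x₁ (insert x₂ C) with hE
  have hEc : E.card = k + 1 := by
    rw [hE, card_insert_of_notMem, card_insert_of_notMem hx₂, hCc]
    simp [hx₁₂, hx₁]
  -- a set not containing `C` contains `x₁`, `x₂` and lies in `E`
  have hbad : ∀ S ∈ 𝓕, ¬ C ⊆ S → x₁ ∈ S ∧ x₂ ∈ S ∧ (S ∩ C).card + 2 = k ∧ S ⊆ E := by
    intro S hS hCS
    have hSne₁ : S ≠ S₁ := by
      rintro rfl
      exact hCS inter_subset_left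
    have hSne₂ : S ≠ S₂ := by
      rintro rfl
      exact hCS inter_subset_right
    have hi₁ := hi S hS S₁ hS₁ hSne₁
    have hi₂ := hi S hS S₂ hS₂ hSne₂
    have hSC : (S ∩ C).card < C.card := by
      apply card_lt_card
      refine ⟨inter_subset_right, fun h => hCS ?_⟩
      intro y hy
      exact (mem_inter.1 (h hy)).1
    have key : ∀ x, x ∉ C → (S ∩ insert x C).card + 1 = k → x ∈ S ∧ (S ∩ C).card + 2 = k := by
      intro x hx hcard
      by_cases hxS : x ∈ S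
      · rw [inter_insert_of_mem hxS, card_insert_of_notMem (fun h => hx (mem_inter.1 h).2)] at hcard
        exact ⟨hxS, by omega⟩
      · rw [inter_insert_of_notMem hxS] at hcard
        omega
    rw [hS₁x] at hi₁
    rw [hS₂x] at hi₂
    obtain ⟨h1, h2⟩ := key x₁ hx₁ hi₁
    obtain ⟨h3, -⟩ := key x₂ hx₂ hi₂
    refine ⟨h1, h3, h2, ?_⟩
    -- `S` has the `k` elements `x₁, x₂, S ∩ C` inside `E`
    have hsub : insert x₁ (insert x₂ (S ∩ C)) ⊆ S := by
      intro y hy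
      rcases mem_insert.1 hy with rfl | hy
      · exact h1
      rcases mem_insert.1 hy with rfl | hy
      · exact h3
      · exact (mem_inter.1 hy).1
    have hcard : (insert x₁ (insert x₂ (S ∩ C))).card = k := by
      rw [card_insert_of_notMem, card_insert_of_notMem (fun h => hx₂ (mem_inter.1 h).2)]
      · omega
      · simp only [mem_insert, mem_inter, not_or, not_and]
        exact ⟨hx₁₂, fun _ => hx₁⟩
    have heq : insert x₁ (insert x₂ (S ∩ C)) = S :=
      eq_of_subset_of_card_le hsub (by rw [hcard, hc S hS])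
    rw [← heq]
    intro y hy
    rcases mem_insert.1 hy with rfl | hy
    · exact mem_insert_self _ _
    rcases mem_insert.1 hy with rfl | hy
    · exact mem_insert_of_mem (mem_insert_self _ _)
    · exact mem_insert_of_mem (mem_insert_of_mem (mem_inter.1 hy).2)
  by_contra hno
  push Not at hno
  obtain ⟨S₃, hS₃, hCS₃⟩ := hno
  obtain ⟨hb1, hb2, hb3, hb4⟩ := hbad S₃ hS₃ hCS₃
  -- all sets lie in `E`
  have hall : ∀ S ∈ 𝓕, S ⊆ E := by
    intro S hS
    by_cases hCS : C ⊆ S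
    · obtain ⟨y, hy, hSy⟩ := exists_insert (hc S hS) hCc hCS
      have hSne : S ≠ S₃ := by
        rintro rfl
        exact hCS₃ hCS
      have hi₃ := hi S hS S₃ hS₃ hSne
      by_cases hyE : y ∈ S₃
      · rw [hSy] at hi₃ ⊢
        intro z hz
        rcases mem_insert.1 hz with rfl | hz
        · exact hb4 hyE
        · exact mem_insert_of_mem (mem_insert_of_mem hz)
      · exfalso
        rw [hSy, insert_inter_of_notMem hyE, inter_comm] at hi₃
        omega
    · exact (hbad S hS hCS).2.2.2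
  have hle : 𝓕 ⊆ E.powersetCard k := by
    intro S hS
    exact mem_powersetCard.2 ⟨hall S hS, hc S hS⟩
  have h1 := card_le_card hle
  rw [card_powersetCard, hEc] at h1
  have h2 : (k + 1).choose k = k + 1 := by simp
  omega

/-- **The divisor bound.** -/
theorem div_bound {q M F F' : ℤ} (hq : 4 ≤ q) (hM : 1 ≤ M) (hF : 0 < F) (hF' : 0 < F')
    (hprod : F * F' = (q - 1) * M + 2) (hev : Even (F' - (q - 1))) :
    2 * (M - 1) ≤ (q + 1) * |F - M| := by
  set t := F' - (q - 1) with ht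
  set Y := F - M with hY
  have hF'e : F' = q - 1 + t := by rw [ht]; ring
  have hFe : F = M + Y := by rw [hY]; ring
  have hrel : M * t + Y * F' = 2 := by
    rw [hFe, hF'e] at hprod
    rw [hF'e]
    nlinarith
  have ht0 : t ≠ 0 := by
    intro h0
    rw [h0, add_zero] at hF'e
    rw [h0, mul_zero, zero_add, hF'e] at hrel
    have h3 : (q - 1) ∣ 2 := ⟨Y, by linarith⟩
    have h4 := Int.le_of_dvd (by norm_num) h3
    omega
  obtain ⟨u, hu⟩ := hev
  have hu0 : u ≠ 0 := by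
    rintro rfl
    apply ht0
    simpa using hu
  have hF'pos : 0 < q - 1 + t := by rw [← hF'e]; exact hF'
  rcases lt_or_gt_of_ne hu0 with hneg | hpos
  · -- `t ≤ -2`
    have ht2 : t ≤ -2 := by omega
    have hYpos : 0 < Y := by
      by_contra hle
      have h5 : Y * F' ≤ 0 := mul_nonpos_of_nonpos_of_nonneg (not_lt.1 hle) hF'.le
      nlinarith
    rw [abs_of_pos hYpos]
    by_contra hlt
    have hlt' := not_le.1 hlt
    have h6 : (q + 1) * Y * F' < 2 * (M - 1) * F' := mul_lt_mul_of_pos_right hlt' hF'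
    have h7 : Y * F' = 2 - M * t := by linarith
    have h8 : (q + 1) * (2 - M * t) < 2 * (M - 1) * (q - 1 + t) := by
      rw [← h7, ← hF'e]
      linarith
    nlinarith
  · -- `t ≥ 2`
    have ht2 : 2 ≤ t := by omega
    have hYneg : Y ≤ 0 := by
      by_contra hge
      have h5 : 0 < Y * F' := mul_pos (not_le.1 hge) hF'
      nlinarith
    rw [abs_of_nonpos hYneg]
    by_contra hlt
    have hlt' := not_le.1 hlt
    have h6 : (q + 1) * (-Y) * F' < 2 * (M - 1) * F' := mul_lt_mul_of_pos_right hlt' hF'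
    have h7 : (-Y) * F' = M * t - 2 := by linarith
    have h8 : (q + 1) * (M * t - 2) < 2 * (M - 1) * (q - 1 + t) := by
      rw [← h7, ← hF'e]
      linarith
    -- expand
    have h9 : (t - 2) * ((q - 1) * M + 2) ≥ 0 := by
      apply mul_nonneg
      · omega
      · nlinarith
    nlinarith

/-- The multiplicity `r θ`: the number of sets in `𝓕` that contain `θ`. -/
def rr (𝓕 : Finset (Finset I)) (θ : I) : ℕ := (𝓕.filter (fun S => θ ∈ S)).card

/-- Integer inequalities of the case `k ≥ 3`. -/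
theorem ineq_big {q M s c T2 : ℤ} (hq : 6 ≤ q) (hM : 1 ≤ M) (hc : 2 * c = q - 2)
    (hs : q + 1 ≤ s)
    (hT : s * T2 ≤ M * (M - s))
    (hlow : 4 * (M - 1) ^ 2 * c ≤ (q + 1) ^ 2 * T2) : False := by
  have h0 : 0 ≤ T2 := by
    have hcpos : 0 < c := by linarith
    have h1 : 0 ≤ 4 * (M - 1) ^ 2 * c := by positivity
    have h2 : 0 ≤ (q + 1) ^ 2 * T2 := le_trans h1 hlow
    have h3 : 0 < (q + 1) ^ 2 := by positivity
    exact nonneg_of_mul_nonneg_right h2 h3
  have h1 : (q + 1) * T2 ≤ s * T2 := mul_le_mul_of_nonneg_right hs h0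
  have h2 : M * (M - s) ≤ M * (M - (q + 1)) := mul_le_mul_of_nonneg_left (by linarith) (by linarith)
  have h3 : (q + 1) * T2 ≤ M * (M - (q + 1)) := by linarith
  have h4 : (q + 1) ^ 2 * T2 ≤ (q + 1) * (M * (M - (q + 1))) := by
    have : (q + 1) * ((q + 1) * T2) ≤ (q + 1) * (M * (M - (q + 1))) :=
      mul_le_mul_of_nonneg_left h3 (by linarith)
    nlinarith
  have h5 : 4 * (M - 1) ^ 2 * c ≤ (q + 1) * (M * (M - (q + 1))) := le_trans hlow h4
  have h6 : 2 * (q - 2) * (M - 1) ^ 2 ≤ (q + 1) * (M * (M - (q + 1))) := by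
    have : 4 * (M - 1) ^ 2 * c = 2 * (q - 2) * (M - 1) ^ 2 := by
      have : 4 * (M - 1) ^ 2 * c = 2 * (2 * c) * (M - 1) ^ 2 := by ring
      rw [this, hc]
    linarith
  have h7 : 0 < (q - 5) * M ^ 2 + M * (q ^ 2 - 2 * q + 9) + 2 * q - 4 := by
    have h8 : 0 ≤ (q - 5) * M ^ 2 := by
      apply mul_nonneg (by linarith) (by positivity)
    have h9 : 0 ≤ M * (q ^ 2 - 2 * q + 9) := by
      apply mul_nonneg (by linarith)
      nlinarith [sq_nonneg (q - 1)]
    linarith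
  nlinarith

/-- Integer inequalities of the case `k = 2`. -/
theorem ineq_small {M s D : ℤ} (hD : 0 ≤ D) (hs : 5 ≤ s) (hMD : 2 * (M - 1) ≤ 5 * D)
    (h : D ^ 2 + s * (1 + D) ^ 2 ≤ M * (1 + 2 * D)) : False := by
  have h1 : 5 * (1 + D) ^ 2 ≤ s * (1 + D) ^ 2 := mul_le_mul_of_nonneg_right hs (by positivity)
  have h2 : 2 * M * (1 + 2 * D) ≤ (5 * D + 2) * (1 + 2 * D) :=
    mul_le_mul_of_nonneg_right (by linarith) (by linarith)
  nlinarith

/-- **First arithmetic contradiction**: the number of sets cannot exceed `q`. -/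
theorem arith_A1 (𝓕 : Finset (Finset I)) (F : I → ℕ) {q k M s : ℕ}
    (hq : q = 2 * k) (hk : 2 ≤ k) (hMo : Odd M) (hso : Odd s) (hs : q + 1 ≤ s)
    (h𝓕 : 𝓕.card = s) (hc : ∀ S ∈ 𝓕, S.card = k)
    (hi : ∀ S ∈ 𝓕, ∀ S' ∈ 𝓕, S ≠ S' → (S ∩ S').card + 1 = k)
    (hpos : ∀ S ∈ 𝓕, ∀ θ ∈ S, 0 < F θ)
    (hpar : ∀ S ∈ 𝓕, ∀ θ ∈ S, Even (F θ + rr 𝓕 θ))
    (hdvd : ∀ S ∈ 𝓕, ∀ θ ∈ S, Odd (F θ) → F θ ∣ (q - 1) * M + 2)
    (hsum : ∀ S ∈ 𝓕, ∑ θ ∈ S, F θ = M * (k - 1) + 1)
    (hnorm : ∑ θ ∈ 𝓕.biUnion id, ((s : ℤ) * F θ - M * rr 𝓕 θ) ^ 2 ≤ (s : ℤ) * M * (M - s)) :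
    False := by
  have hs1 : 1 ≤ s := hso.pos
  have hMpos : 1 ≤ M := hMo.pos
  have hq4 : 4 ≤ q := by omega
  obtain ⟨C, hCc, hC⟩ := sunflower 𝓕 (by omega : 1 ≤ k) (by omega) hc hi
  have hex : ∀ S ∈ 𝓕, ∃ x, x ∉ C ∧ S = insert x C := fun S hS =>
    exists_insert (hc S hS) hCc (hC S hS)
  have hne : 𝓕.Nonempty := by
    rw [← card_pos]; omega
  obtain ⟨S₀, hS₀⟩ := hne
  haveI : Nonempty I := by
    have h1 : S₀.Nonempty := by
      rw [← card_pos, hc S₀ hS₀]; omega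
    exact ⟨h1.choose⟩
  choose! p hpC hpS using hex
  -- `r` on the core and off it
  have hpmem : ∀ S ∈ 𝓕, p S ∈ S := by
    intro S hS
    have h : p S ∈ insert (p S) C := mem_insert_self _ _
    rwa [← hpS S hS] at h
  have hrC : ∀ θ ∈ C, rr 𝓕 θ = s := by
    intro θ hθ
    rw [rr, filter_true_of_mem (fun S hS => hC S hS hθ), h𝓕]
  have hrp : ∀ S ∈ 𝓕, rr 𝓕 (p S) = 1 := by
    intro S hS
    rw [rr, card_eq_one]
    refine ⟨S, ?_⟩
    ext S'
    simp only [mem_filter, mem_singleton]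
    constructor
    · rintro ⟨hS', hmem⟩
      rw [hpS S' hS', mem_insert] at hmem
      rcases hmem with h | h
      · by_contra hne
        have h1 : S' = S := by
          rw [hpS S' hS', hpS S hS, ← h]
        exact hne h1
      · exact absurd h (hpC S hS)
    · intro h
      rw [h]
      exact ⟨hS, hpmem S hS⟩
  have hpinj : Set.InjOn p (𝓕 : Set (Finset I)) := by
    intro S hS S' hS' h
    rw [hpS S hS, hpS S' hS', h]
  -- the deviations
  set Y : I → ℤ := fun θ => (F θ : ℤ) - M with hY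
  set D : ℤ := - ∑ θ ∈ C, Y θ with hD
  have hcore : ∀ θ ∈ C, (2 : ℤ) * (M - 1) ≤ (q + 1) * |Y θ| := by
    intro θ hθ
    have hSθ := hC S₀ hS₀ hθ
    have hFo : Odd (F θ) := by
      have h1 := hpar S₀ hS₀ θ hSθ
      rw [hrC θ hθ] at h1
      rw [← Nat.not_even_iff_odd]
      intro hev
      exact Nat.not_even_iff_odd.2 hso ((Nat.even_add.1 h1).1 hev)
    obtain ⟨F', hF'⟩ := hdvd S₀ hS₀ θ hSθ hFo
    have hF'pos : 0 < F' := by
      apply Nat.pos_of_ne_zero
      rintro rfl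
      omega
    have hqo : Odd (q - 1) := by
      rw [hq]
      exact Nat.Even.sub_odd (by omega) (even_two_mul k) odd_one
    have hF'o : Odd F' := by
      by_contra hev
      rw [Nat.not_odd_iff_even] at hev
      have h1 : Even ((q - 1) * M + 2) := by
        rw [hF']
        exact hev.mul_left _
      have h2 : Odd ((q - 1) * M) := hqo.mul hMo
      have h3 : Odd ((q - 1) * M + 2) := h2.add_even (by decide)
      exact (Nat.not_even_iff_odd.2 h3) h1
    have hq1 : ((q - 1 : ℕ) : ℤ) = (q : ℤ) - 1 := by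
      push_cast [Nat.cast_sub (by omega : 1 ≤ q)]
      ring
    apply div_bound (q := q) (M := M) (F := F θ) (F' := F') (by exact_mod_cast hq4)
      (by exact_mod_cast hMpos) (by exact_mod_cast hpos S₀ hS₀ θ hSθ) (by exact_mod_cast hF'pos)
    · have : ((q - 1) * M + 2 : ℕ) = F θ * F' := hF'
      have h1 : (((q - 1) * M + 2 : ℕ) : ℤ) = ((F θ * F' : ℕ) : ℤ) := by rw [this]
      push_cast at h1
      rw [hq1] at h1
      linarith
    · have h1 : Odd (F' : ℤ) := by exact_mod_cast hF'o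
      have h2 : Odd ((q : ℤ) - 1) := by
        rw [← hq1]
        exact_mod_cast hqo
      exact h1.sub_odd h2
  -- the value of `F` off the core
  have hFp : ∀ S ∈ 𝓕, (F (p S) : ℤ) = 1 + D := by
    intro S hS
    have h1 : ∑ θ ∈ insert (p S) C, F θ = M * (k - 1) + 1 := by
      rw [← hpS S hS]
      exact hsum S hS
    rw [sum_insert (hpC S hS)] at h1
    have h2 : ((F (p S) + ∑ θ ∈ C, F θ : ℕ) : ℤ) = ((M * (k - 1) + 1 : ℕ) : ℤ) := by rw [h1]
    have h3 : ((k - 1 : ℕ) : ℤ) = (C.card : ℤ) := by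
      have : k - 1 = C.card := by omega
      rw [this]
    push_cast at h2
    rw [h3] at h2
    have h4 : ∑ θ ∈ C, Y θ = ∑ θ ∈ C, (F θ : ℤ) - C.card * (M : ℤ) := by
      simp only [hY, sum_sub_distrib, sum_const, nsmul_eq_mul]
    rw [hD, h4]
    linarith
  have hD0 : 0 ≤ D := by
    have h1 := hFp S₀ hS₀
    have h2 : (0 : ℤ) < F (p S₀) := by
      have := hpos S₀ hS₀ (p S₀) (hpmem S₀ hS₀)
      exact_mod_cast this
    linarith
  -- the norm inequality
  have hsub : C ∪ 𝓕.image p ⊆ 𝓕.biUnion id := by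
    intro θ hθ
    rw [mem_biUnion]
    rcases mem_union.1 hθ with h | h
    · exact ⟨S₀, hS₀, hC S₀ hS₀ h⟩
    · obtain ⟨S, hS, rfl⟩ := mem_image.1 h
      refine ⟨S, hS, ?_⟩
      exact hpmem S hS
  have hdisj : Disjoint C (𝓕.image p) := by
    rw [disjoint_left]
    intro θ hθ h
    obtain ⟨S, hS, rfl⟩ := mem_image.1 h
    exact hpC S hS hθ
  have hle : ∑ θ ∈ C ∪ 𝓕.image p, ((s : ℤ) * F θ - M * rr 𝓕 θ) ^ 2 ≤ (s : ℤ) * M * (M - s) :=
    le_trans (sum_le_sum_of_subset_of_nonneg hsub fun _ _ _ => sq_nonneg _) hnorm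
  rw [sum_union hdisj, sum_image hpinj] at hle
  have hsC : ∑ θ ∈ C, ((s : ℤ) * F θ - M * rr 𝓕 θ) ^ 2 = (s : ℤ) ^ 2 * ∑ θ ∈ C, Y θ ^ 2 := by
    rw [mul_sum]
    apply sum_congr rfl
    intro θ hθ
    rw [hrC θ hθ]
    simp only [hY]
    ring
  have hsP : ∑ S ∈ 𝓕, ((s : ℤ) * F (p S) - M * rr 𝓕 (p S)) ^ 2
      = (s : ℤ) * ((s : ℤ) * (1 + D) - M) ^ 2 := by
    have : ∀ S ∈ 𝓕, ((s : ℤ) * F (p S) - M * rr 𝓕 (p S)) ^ 2 = ((s : ℤ) * (1 + D) - M) ^ 2 := by
      intro S hS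
      rw [hFp S hS, hrp S hS]
      push_cast
      ring
    rw [sum_congr rfl this, sum_const, h𝓕, nsmul_eq_mul]
  rw [hsC, hsP] at hle
  have hspos : (0 : ℤ) < s := by exact_mod_cast hs1
  set T2 := ∑ θ ∈ C, Y θ ^ 2 with hT2
  -- divide by `s`
  have hle2 : (s : ℤ) * T2 + ((s : ℤ) * (1 + D) - M) ^ 2 ≤ M * (M - s) := by
    have : (s : ℤ) * ((s : ℤ) * T2 + ((s : ℤ) * (1 + D) - M) ^ 2) ≤ (s : ℤ) * (M * (M - s)) := by
      nlinarith
    exact le_of_mul_le_mul_left this hspos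
  have hqZ : (q : ℤ) = 2 * k := by rw [hq]; push_cast; ring
  have hMZ : (1 : ℤ) ≤ M := by exact_mod_cast hMpos
  have hsZ : (q : ℤ) + 1 ≤ s := by exact_mod_cast hs
  have hCZ : (C.card : ℤ) + 1 = k := by exact_mod_cast hCc
  by_cases hk3 : 3 ≤ k
  · -- large `q`
    apply ineq_big (q := q) (M := M) (s := s) (c := C.card) (T2 := T2)
    · have : (3 : ℤ) ≤ k := by exact_mod_cast hk3
      linarith
    · exact hMZ
    · linarith
    · exact hsZ
    · nlinarith [sq_nonneg ((s : ℤ) * (1 + D) - M)]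
    · -- lower bound for the sum of squares
      have h1 : ∀ θ ∈ C, 4 * ((M : ℤ) - 1) ^ 2 ≤ ((q : ℤ) + 1) ^ 2 * Y θ ^ 2 := by
        intro θ hθ
        have h2 := hcore θ hθ
        have h3 : 0 ≤ 2 * ((M : ℤ) - 1) := by linarith
        have h4 : (2 * ((M : ℤ) - 1)) ^ 2 ≤ (((q : ℤ) + 1) * |Y θ|) ^ 2 :=
          pow_le_pow_left₀ h3 h2 2
        rw [mul_pow ((q : ℤ) + 1) |Y θ| 2, sq_abs] at h4
        nlinarith
      have h2 := sum_le_sum h1
      rw [sum_const, ← mul_sum, nsmul_eq_mul] at h2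
      linarith
  · -- `k = 2`
    have hk2 : k = 2 := by omega
    have hC1 : C.card = 1 := by omega
    obtain ⟨θ₀, hθ₀⟩ := card_eq_one.1 hC1
    have hq4' : (q : ℤ) = 4 := by rw [hqZ, hk2]; norm_num
    have hDY : D = - Y θ₀ := by
      rw [hD, hθ₀, sum_singleton]
    have hTY : T2 = D ^ 2 := by
      rw [hT2, hθ₀, sum_singleton, hDY]
      ring
    have hbound := hcore θ₀ (by rw [hθ₀]; exact mem_singleton_self _)
    have habs : |Y θ₀| = D := by
      have : Y θ₀ = - D := by rw [hDY]; ring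
      rw [this, abs_neg, abs_of_nonneg hD0]
    rw [habs, hq4'] at hbound
    apply ineq_small (M := M) (s := s) hD0 (by rw [hq4'] at hsZ; linarith) (by linarith)
    rw [hTY] at hle2
    have h5 : (s : ℤ) * ((D : ℤ) ^ 2 + s * (1 + D) ^ 2) ≤ (s : ℤ) * (M * (1 + 2 * D)) := by
      nlinarith
    exact le_of_mul_le_mul_left h5 hspos

/-- **Second arithmetic contradiction**: forces `2 q` to be a square. -/
theorem arith_A2 (S : Finset I) (F : I → ℕ) {q k : ℕ} (hq : q = 2 * k) (hk : 2 ≤ k)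
    (hc : S.card = k) (hodd : ∀ θ ∈ S, Odd (F θ)) (hdvd : ∀ θ ∈ S, F θ ∣ q ^ 2 + 1)
    (hnorm : ∑ θ ∈ S, ((F θ : ℤ) - (q + 1)) ^ 2 ≤ (q : ℤ) * (q + 1)) :
    IsSquare (2 * q) := by
  by_contra hns
  have hq4 : (4 : ℤ) ≤ q := by
    have : 4 ≤ q := by omega
    exact_mod_cast this
  have hqe : (q : ℤ) = 2 * k := by rw [hq]; push_cast; ring
  have hkey : ∀ θ ∈ S, 2 * (q : ℤ) + 3 ≤ ((F θ : ℤ) - (q + 1)) ^ 2 := by
    intro θ hθ
    by_contra hlt
    have hlt' : ((F θ : ℤ) - (q + 1)) ^ 2 ≤ 2 * (q : ℤ) + 2 := by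
      have := not_le.1 hlt
      omega
    set Y : ℤ := (F θ : ℤ) - (q + 1) with hY
    have hne : Y ^ 2 - 2 * (q : ℤ) ≠ 0 := by
      intro h0
      apply hns
      refine ⟨Y.natAbs, ?_⟩
      have h1 : ((Y.natAbs * Y.natAbs : ℕ) : ℤ) = 2 * (q : ℤ) := by
        push_cast
        rw [← pow_two, sq_abs]
        linarith
      have h2 : ((Y.natAbs * Y.natAbs : ℕ) : ℤ) = ((2 * q : ℕ) : ℤ) := by
        rw [h1]; push_cast; ring
      exact_mod_cast h2.symm
    have hFo : Odd (F θ : ℤ) := by exact_mod_cast hodd θ hθ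
    have hFpos : (0 : ℤ) < F θ := by
      have := (hodd θ hθ).pos
      exact_mod_cast this
    have hFdvd : (F θ : ℤ) ∣ (q : ℤ) ^ 2 + 1 := by
      have := hdvd θ hθ
      exact_mod_cast this
    have hFe : (F θ : ℤ) = q + 1 + Y := by rw [hY]; ring
    have hdv2 : (F θ : ℤ) ∣ Y ^ 2 - 2 * (q : ℤ) := by
      have h1 : Y ^ 2 - 2 * (q : ℤ) = ((q : ℤ) ^ 2 + 1) - (F θ : ℤ) * ((q : ℤ) + 1 - Y) := by
        rw [hFe]; ring
      rw [h1]
      exact dvd_sub hFdvd (dvd_mul_right _ _)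
    obtain ⟨c, hcF⟩ := hdv2
    have hc0 : c ≠ 0 := by
      rintro rfl
      apply hne
      rw [hcF, mul_zero]
    have hYe : Even Y := by
      rw [hY]
      have h1 : Odd ((q : ℤ) + 1) := by
        rw [hqe]
        exact ⟨k, by ring⟩
      exact hFo.sub_odd h1
    have hce : Even c := by
      have h1 : Even (Y ^ 2 - 2 * (q : ℤ)) := by
        apply Even.sub
        · rw [pow_two]; exact hYe.mul_left _
        · exact even_two_mul _
      rw [hcF] at h1
      rcases Int.even_mul.1 h1 with h | h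
      · exact absurd h (Int.not_even_iff_odd.2 hFo)
      · exact h
    obtain ⟨c', hc'⟩ := hce
    have hc'0 : c' ≠ 0 := by
      rintro rfl
      apply hc0
      rw [hc']; ring
    rcases lt_or_gt_of_ne hc'0 with hneg | hpos'
    · -- `c ≤ -2`
      have hc2 : c ≤ -2 := by omega
      have h1 : (F θ : ℤ) * c ≤ (F θ : ℤ) * (-2) := mul_le_mul_of_nonneg_left hc2 hFpos.le
      rw [← hcF, hFe] at h1
      nlinarith [sq_nonneg (Y + 1)]
    · -- `c ≥ 2`
      have hc2 : 2 ≤ c := by omega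
      have h1 : (F θ : ℤ) * 2 ≤ (F θ : ℤ) * c := mul_le_mul_of_nonneg_left hc2 hFpos.le
      rw [← hcF] at h1
      have hF1 : (F θ : ℤ) = 1 := by
        have : (F θ : ℤ) * 2 ≤ 2 := by linarith
        omega
      have hYq : Y = - (q : ℤ) := by
        rw [hF1] at hFe
        linarith
      rw [hYq] at hlt'
      nlinarith
  have h1 := sum_le_sum hkey
  rw [sum_const, hc, nsmul_eq_mul] at h1
  have h2 : (k : ℤ) * (2 * (q : ℤ) + 3) ≤ (q : ℤ) * (q + 1) := le_trans h1 hnorm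
  rw [hqe] at h2
  have hk2 : (2 : ℤ) ≤ k := by exact_mod_cast hk
  nlinarith

end Cfsg.Agent.Lib.Suz.Arith
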