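import Cfsg.Agent.Lib.Suz.NonSp

/-!
# The norm computation

A virtual combination of the regular character, the principal character and the non-principal real
linear characters of `Q`, of degree zero and invariant under `H`.
-/

set_option autoImplicit false
set_option linter.style.haveILetI false
set_option linter.unusedSectionVars false

namespace Cfsg.Agent.Lib.Suz.NormT

open Cfsg Finset Module
open Cfsg.Agent.Lib.Char.Induced Cfsg.Agent.Lib.Char.Complete Cfsg.Agent.Lib.Char.Basic
  Cfsg.Agent.Lib.Char.Ortho Cfsg.Agent.Lib.Char.Linear Cfsg.Agent.Lib.Char.Conj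
  Cfsg.Agent.Lib.Char.Degree
open Cfsg.Agent.Lib.Suz.Ind Cfsg.Agent.Lib.Suz.LinD Cfsg.Agent.Lib.Suz.Sect
  Cfsg.Agent.Lib.Suz.Mult
open scoped ComplexConjugate

universe u

variable {G : Type u} [Group G] [Fintype G] {Q H : Subgroup G} [Fintype Q] [Fintype H]
  [Fintype (IrrCharacter G)]

open scoped Classical in
/-- The regular character. -/
noncomputable def dl (Q : Subgroup G) : Q → ℂ := fun u => if u = 1 then (Nat.card Q : ℂ) else 0

theorem inner_dl_right (f : Q → ℂ) : classInner f (dl Q) = f 1 := by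
  classical
  have hN := card_subgroup_ne_zero Q
  rw [classInner_subgroup_eq, Finset.sum_eq_single (1 : Q)]
  · simp only [dl, if_true, map_natCast]
    field_simp
  · intro u _ hu
    simp [dl, hu]
  · intro h
    exact absurd (mem_univ _) h

theorem inner_dl_left (g : Q → ℂ) : classInner (dl Q) g = conj (g 1) := by
  classical
  have hN := card_subgroup_ne_zero Q
  rw [classInner_subgroup_eq, Finset.sum_eq_single (1 : Q)]
  · simp only [dl, if_true]
    field_simp
  · intro u _ hu
    simp [dl, hu]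
  · intro h
    exact absurd (mem_univ _) h

theorem dl_class : IsClassFunction Q (dl Q) := by
  classical
  intro g h
  by_cases hg : g = 1
  · simp [hg]
  · have h1 : h * g * h⁻¹ ≠ 1 := by
      intro h2
      apply hg
      have h3 : g = h⁻¹ * (h * g * h⁻¹) * h := by group
      rw [h3, h2]
      group
    simp [dl, hg, h1]

/-- The sum of the linear characters. -/
noncomputable def P0 (D : Finset (Q →* ℤˣ)) : Q → ℂ := ∑ ν ∈ D, hat ν

/-- The virtual character. -/
noncomputable def tau (D : Finset (Q →* ℤˣ)) (s M : ℕ) : Q → ℂ :=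
  (s : ℂ) • dl Q - (s : ℂ) • hat (1 : Q →* ℤˣ) - (M : ℂ) • P0 D

theorem tau_one (D : Finset (Q →* ℤˣ)) (s M : ℕ) :
    tau D s M 1 = (s : ℂ) * ((Nat.card Q : ℂ) - 1) - (M : ℂ) * D.card := by
  simp [tau, dl, P0, Finset.sum_apply]
  ring

theorem tau_class (D : Finset (Q →* ℤˣ)) (s M : ℕ) : IsClassFunction Q (tau D s M) := by
  intro g h
  simp only [tau, Pi.sub_apply, Pi.smul_apply, P0, Finset.sum_apply]
  rw [dl_class g h, isClass_hat _ g h]
  congr 2
  exact sum_congr rfl fun ν _ => isClass_hat ν g h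

theorem tau_cq (sc : SC Q H) {D : Finset (Q →* ℤˣ)} (hD : ∀ h : H, ∀ ν ∈ D, act sc h ν ∈ D) (s M : ℕ)
    (h : H) : tau D s M ∘ cq sc h = tau D s M := by
  classical
  funext u
  simp only [Function.comp, tau, Pi.sub_apply, Pi.smul_apply, P0, Finset.sum_apply]
  have h1 : dl Q (cq sc h u) = dl Q u := by
    by_cases hu : u = 1
    · simp [hu]
    · have : cq sc h u ≠ 1 := fun h2 => hu ((map_eq_one_iff _ (cq sc h).injective).1 h2)
      simp [dl, hu, this]
  have h2 : hat (1 : Q →* ℤˣ) (cq sc h u) = hat (1 : Q →* ℤˣ) u := by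
    simp [hat]
  have h3 : ∑ ν ∈ D, hat ν (cq sc h u) = ∑ ν ∈ D, hat ν u := by
    have h4 : ∀ ν, hat ν (cq sc h u) = hat (act sc h ν) u := fun ν => rfl
    simp only [h4]
    refine Finset.sum_nbij' (fun ν => act sc h ν) (fun ν => act sc h⁻¹ ν) (fun ν hν => hD h ν hν)
      (fun ν hν => hD h⁻¹ ν hν) ?_ ?_ ?_
    · intro ν _
      rw [← act_mul, inv_mul_cancel, act_one]
    · intro ν _
      rw [← act_mul, mul_inv_cancel, act_one]
    · intro ν _
      rfl
  rw [h1, h2, h3]

/-- The inner product with a restricted character. -/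
theorem inner_tau_res (D : Finset (Q →* ℤˣ)) (s M : ℕ) (θ : IrrCharacter G) :
    classInner (tau D s M) (res θ : Q → ℂ) = (s : ℂ) * conj ((θ : G → ℂ) 1)
      - (s : ℂ) * mc θ (1 : Q →* ℤˣ) - (M : ℂ) * ∑ ν ∈ D, mc θ ν := by
  rw [tau, classInner_sub_left, classInner_sub_left, classInner_smul_left, classInner_smul_left,
    classInner_smul_left, inner_dl_left, P0, classInner_sum_left]
  rfl

/-- The norm of the virtual character. -/
theorem inner_tau_tau {D : Finset (Q →* ℤˣ)} (hD : ∀ ν ∈ D, ν ≠ 1) (s M : ℕ) :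
    classInner (tau D s M) (tau D s M)
      = (s : ℂ) * (tau D s M 1) + (M : ℂ) * D.card * ((M : ℂ) - s) := by
  classical
  have h1 : classInner (tau D s M) (hat (1 : Q →* ℤˣ)) = 0 := by
    rw [tau, classInner_sub_left, classInner_sub_left, classInner_smul_left, classInner_smul_left,
      classInner_smul_left, inner_dl_left, P0, classInner_sum_left, inner_hat]
    have h2 : ∑ i ∈ D, classInner (hat i) (hat (1 : Q →* ℤˣ)) = 0 := by
      refine sum_eq_zero fun ν hν => ?_
      rw [inner_hat, if_neg (hD ν hν)]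
    rw [h2]
    simp
  have h2 : ∀ ν' ∈ D, classInner (tau D s M) (hat ν') = (s : ℂ) - M := by
    intro ν' hν'
    rw [tau, classInner_sub_left, classInner_sub_left, classInner_smul_left, classInner_smul_left,
      classInner_smul_left, inner_dl_left, P0, classInner_sum_left, inner_hat]
    have h3 : ∑ i ∈ D, classInner (hat i) (hat ν') = 1 := by
      simp only [inner_hat]
      rw [Finset.sum_ite_eq' D ν', if_pos hν']
    rw [h3, if_neg (hD ν' hν').symm]
    simp
  have h3 : classInner (tau D s M) (P0 D) = D.card * ((s : ℂ) - M) := by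
    rw [P0, classInner_sum_right, sum_congr rfl h2]
    simp
    ring
  have h4 : classInner (tau D s M) (tau D s M) = classInner (tau D s M)
      ((s : ℂ) • dl Q - (s : ℂ) • hat (1 : Q →* ℤˣ) - (M : ℂ) • P0 D) := rfl
  rw [h4, classInner_sub_right, classInner_sub_right, classInner_smul_right, classInner_smul_right,
    classInner_smul_right, inner_dl_right, h1, h3]
  simp only [map_natCast]
  ring

/-- **The norm inequality.** -/
theorem norm_bound (sc : SC Q H) {D : Finset (Q →* ℤˣ)} (hD : ∀ ν ∈ D, ν ≠ 1)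
    (hDa : ∀ h : H, ∀ ν ∈ D, act sc h ν ∈ D) {s M : ℕ}
    (hN : Nat.card Q = Nat.card H * M + 1) (hd : D.card = s * Nat.card H)
    (T : Finset (IrrCharacter G)) (F r : IrrCharacter G → ℕ)
    (hT0 : ∀ θ ∈ T, mc θ (1 : Q →* ℤˣ) = 0)
    (hT1 : ∀ θ ∈ T, (θ : G → ℂ) 1 = (Nat.card H : ℂ) * F θ)
    (hT2 : ∀ θ ∈ T, ∑ ν ∈ D, mc θ ν = (Nat.card H : ℂ) * r θ) :
    ∑ θ ∈ T, ((s : ℤ) * F θ - M * r θ) ^ 2 ≤ (s : ℤ) * M * (M - s) := by
  classical
  set e := Nat.card H with he
  have he0 : (e : ℂ) ≠ 0 := by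
    rw [he]
    exact_mod_cast Nat.card_pos.ne'
  have hτ1 : tau D s M 1 = 0 := by
    rw [tau_one, hN, hd]
    push_cast
    ring
  have h1 := mackey sc (tau D s M) (tau_class D s M)
  rw [parseval] at h1
  have h2 : ∀ h : H, classInner (tau D s M) (tau D s M ∘ cq sc h) = classInner (tau D s M) (tau D s M) := by
    intro h
    rw [tau_cq sc hDa]
  simp only [h2, sum_const, card_univ, nsmul_eq_mul, hτ1, map_zero, mul_zero, add_zero] at h1
  rw [inner_tau_tau hD, hτ1, mul_zero, zero_add, hd, ← Nat.card_eq_fintype_card, ← he] at h1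
  -- the terms on the set `T`
  have h3 : ∀ θ ∈ T, classInner (tau D s M) (fun u : Q => (θ : G → ℂ) u)
      = (((e * ((s : ℤ) * F θ - M * r θ) : ℤ) : ℝ) : ℂ) := by
    intro θ hθ
    have h4 := inner_tau_res (Q := Q) D s M θ
    rw [hT0 θ hθ, hT2 θ hθ, hT1 θ hθ] at h4
    show classInner (tau D s M) (res θ) = _
    rw [h4]
    simp only [map_mul, map_natCast]
    push_cast
    ring
  -- pass to real numbers
  have h5 : ∑ θ : IrrCharacter G, Complex.normSq (classInner (tau D s M) (fun u : Q => (θ : G → ℂ) u))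
      = (e : ℝ) * ((M : ℝ) * (s * e) * ((M : ℝ) - s)) := by
    apply Complex.ofReal_injective
    push_cast
    simp only [← Complex.mul_conj]
    rw [h1]
    push_cast
    ring
  have h6 : ∑ θ ∈ T, Complex.normSq (classInner (tau D s M) (fun u : Q => (θ : G → ℂ) u))
      ≤ (e : ℝ) * ((M : ℝ) * (s * e) * ((M : ℝ) - s)) := by
    rw [← h5]
    apply Finset.sum_le_sum_of_subset_of_nonneg (subset_univ _)
    intro θ _ _
    exact Complex.normSq_nonneg _
  have h7 : ∀ θ ∈ T, Complex.normSq (classInner (tau D s M) (fun u : Q => (θ : G → ℂ) u))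
      = (e : ℝ) ^ 2 * ((((s : ℤ) * F θ - M * r θ) ^ 2 : ℤ) : ℝ) := by
    intro θ hθ
    rw [h3 θ hθ, Complex.normSq_ofReal]
    push_cast
    ring
  rw [sum_congr rfl h7, ← mul_sum] at h6
  have hepos : (0 : ℝ) < (e : ℝ) ^ 2 := by
    have : 0 < e := Nat.card_pos
    positivity
  have h8 : ∑ θ ∈ T, ((((s : ℤ) * F θ - M * r θ) ^ 2 : ℤ) : ℝ) ≤ (s : ℝ) * M * ((M : ℝ) - s) := by
    have h9 : (e : ℝ) ^ 2 * ∑ θ ∈ T, ((((s : ℤ) * F θ - M * r θ) ^ 2 : ℤ) : ℝ)
        ≤ (e : ℝ) ^ 2 * ((s : ℝ) * M * ((M : ℝ) - s)) := by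
      calc _ ≤ _ := h6
        _ = _ := by ring
    exact le_of_mul_le_mul_left h9 hepos
  exact_mod_cast h8

end Cfsg.Agent.Lib.Suz.NormT
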