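import Cfsg.Agent.Lib.Suz.Spec
import Cfsg.Agent.Lib.Suz.NormT
import Cfsg.Agent.Lib.Suz.Arith

/-!
# Assembling the arithmetic data from the character theory
-/

set_option autoImplicit false
set_option linter.style.haveILetI false
set_option linter.unusedSectionVars false

namespace Cfsg.Agent.Lib.Suz.Core

open Cfsg Finset Module MulAction
open Cfsg.Agent.Lib.Char.Induced Cfsg.Agent.Lib.Char.Complete Cfsg.Agent.Lib.Char.Basic
  Cfsg.Agent.Lib.Char.Ortho Cfsg.Agent.Lib.Char.Linear Cfsg.Agent.Lib.Char.Conj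
  Cfsg.Agent.Lib.Char.Degree
open Cfsg.Agent.Lib.Suz.Ind Cfsg.Agent.Lib.Suz.LinD Cfsg.Agent.Lib.Suz.Sect
  Cfsg.Agent.Lib.Suz.Mult Cfsg.Agent.Lib.Suz.NonSp Cfsg.Agent.Lib.Suz.Spec
  Cfsg.Agent.Lib.Suz.NormT Cfsg.Agent.Lib.Suz.Arith
open scoped ComplexConjugate

universe u v

variable {G : Type u} {Ω : Type v} [Group G] [Fintype G] [MulAction G Ω] [Fintype Ω]
  {Q H : Subgroup G} [Fintype Q] [Fintype H] [Fintype (IrrCharacter G)] {a b : Ω}

open scoped Classical in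
/-- The hypotheses. -/
structure CC (G : Type u) {Ω : Type v} [Group G] [Fintype G] [MulAction G Ω] [Fintype Ω] (a b : Ω)
    (Q H : Subgroup G) : Prop where
  z : ZC G a b Q
  sc : SC Q H
  hF : IsFree H Q
  hsq : ∀ s : G, s * s ∈ Q → s * s ≠ 1 → s ∈ Q
  hcount : (univ.filter (fun s : G => s * s ∈ Q)).card = Nat.card Q * (Nat.card H + 1)
  htwo : ∃ t, Nat.card Q = 2 ^ t
  hne : ∃ ν : Q →* ℤˣ, ν ≠ 1
  hHcard : Nat.card H = Nat.card ↥(stabilizer G a ⊓ stabilizer G b : Subgroup G)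
  he3 : 3 ≤ Nat.card H

open scoped Classical in
/-- The characters containing `ν`. -/
noncomputable def SS (ν : Q →* ℤˣ) : Finset (IrrCharacter G) := univ.filter (fun θ => mn θ ν = 1)

theorem mem_SS {ν : Q →* ℤˣ} {θ : IrrCharacter G} : θ ∈ SS ν ↔ mn θ ν = 1 := by
  simp [SS]

open scoped Classical in
/-- The special characters. -/
noncomputable def Sp (z : ZC G a b Q) : Finset (IrrCharacter G) := insert (chi0 z) (setA G Q)

open scoped Classical in
/-- The non-special characters containing `ν`. -/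
noncomputable def S0 (z : ZC G a b Q) (ν : Q →* ℤˣ) : Finset (IrrCharacter G) := SS ν \ Sp z

/-! ### Special characters -/

theorem mn_of_mc {θ : IrrCharacter G} {ν : Q →* ℤˣ} {n : ℕ} (h : mc θ ν = n) : mn θ ν = n := by
  rw [mc_eq] at h
  exact_mod_cast h

theorem card_ne : (Nat.card Q : ℂ) ≠ 0 := card_subgroup_ne_zero Q

theorem mn_chi0 (z : ZC G a b Q) (ν : Q →* ℤˣ) : mn (chi0 z) ν = 1 := by
  apply mn_of_mc
  rw [mc_of_values (c := 0) (chi0_one z) (fun u hu hu1 => chi0_ker z hu hu1) ν (by simp) (by simp)]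
  have := card_ne (Q := Q)
  simp [this]

theorem mn_A {θ : IrrCharacter G} (hθ : θ ∈ setA G Q) {ν : Q →* ℤˣ} (hν : ν ≠ 1) : mn θ ν = 1 := by
  obtain ⟨h1, h2⟩ := mem_setA.1 hθ
  apply mn_of_mc
  rw [mc_of_values (c := 1) h1 h2 ν (by simp) (by simp)]
  have := card_ne (Q := Q)
  simp [this, hν]

theorem mn_A_one {θ : IrrCharacter G} (hθ : θ ∈ setA G Q) : mn θ (1 : Q →* ℤˣ) = 2 := by
  obtain ⟨h1, h2⟩ := mem_setA.1 hθ
  apply mn_of_mc
  rw [mc_of_values (c := 1) h1 h2 1 (by simp) (by simp)]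
  have := card_ne (Q := Q)
  simp only [add_sub_cancel_right, if_true, mul_one]
  rw [inv_mul_cancel₀ this]
  norm_num

theorem mn_oneI_one : mn (oneI G) (1 : Q →* ℤˣ) = 1 := by
  apply mn_of_mc
  rw [mc_of_values (d := 1) (c := 1) rfl (fun _ _ _ => rfl) 1 (by simp) (by simp)]
  simp

theorem mn_oneI {ν : Q →* ℤˣ} (hν : ν ≠ 1) : mn (oneI G) ν = 0 := by
  apply mn_of_mc
  rw [mc_of_values (d := 1) (c := 1) rfl (fun _ _ _ => rfl) ν (by simp) (by simp)]
  simp [hν]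

variable [IsSimpleGroup G]

theorem card_Q_ge (z : ZC G a b Q) : 2 ≤ Nat.card Q := by
  have h1 := z.hlt
  have h2 := z.Qcard
  omega

theorem chi0_ne_one (z : ZC G a b Q) : chi0 z ≠ oneI G := by
  intro h
  have h1 := chi0_one z
  rw [h] at h1
  have h2 : (1 : ℂ) = (Nat.card Q : ℂ) := h1
  have h3 : (1 : ℕ) = Nat.card Q := by exact_mod_cast h2
  have := card_Q_ge z
  omega

theorem chi0_notMem (z : ZC G a b Q) : chi0 z ∉ setA G Q := by
  intro h
  have h1 := (mem_setA.1 h).1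
  rw [chi0_one] at h1
  have h2 : (Nat.card Q : ℂ) = ((Nat.card Q + 1 : ℕ) : ℂ) := by
    push_cast
    exact h1
  have h3 : Nat.card Q = Nat.card Q + 1 := by exact_mod_cast h2
  omega

theorem oneI_notMem (z : ZC G a b Q) : oneI G ∉ setA G Q := by
  intro h
  have h1 := (mem_setA.1 h).1
  have h2 : (1 : ℂ) = (Nat.card Q : ℂ) + 1 := h1
  have h3 : (Nat.card Q : ℂ) = 0 := by linear_combination -h2
  exact card_ne h3

/-- **The count of the induced characters.** -/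
theorem card_setA (sc : SC Q H) (z : ZC G a b Q) : 2 * (setA G Q).card + 1 = Nat.card H := by
  classical
  have h1 := sum_mn_mul sc (1 : Q →* ℤˣ) (1 : Q →* ℤˣ)
  have h2 : (univ.filter (fun h : H => (1 : Q →* ℤˣ) = act sc h (1 : Q →* ℤˣ))).card = Nat.card H := by
    rw [filter_true_of_mem, Nat.card_eq_fintype_card]
    · rfl
    · intro h _
      ext u
      simp
  rw [h2] at h1
  set T := insert (oneI G) (insert (chi0 z) (setA G Q)) with hT
  have h3 : ∑ θ : IrrCharacter G, mn θ (1 : Q →* ℤˣ) * mn θ (1 : Q →* ℤˣ)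
      = ∑ θ ∈ T, mn θ (1 : Q →* ℤˣ) * mn θ (1 : Q →* ℤˣ) := by
    symm
    apply Finset.sum_subset (subset_univ _)
    intro θ _ hθ
    have h4 : mn θ (1 : Q →* ℤˣ) = 0 := by
      by_contra h5
      apply hθ
      rcases hall z θ h5 with h6 | h6 | h6
      · rw [h6, hT]; exact mem_insert_self _ _
      · rw [h6, hT]; exact mem_insert_of_mem (mem_insert_self _ _)
      · rw [hT]; exact mem_insert_of_mem (mem_insert_of_mem h6)
    rw [h4, mul_zero]
  have hn1 : oneI G ∉ insert (chi0 z) (setA G Q) := by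
    intro h
    rcases mem_insert.1 h with h | h
    · exact chi0_ne_one z h.symm
    · exact oneI_notMem z h
  rw [h3, hT, sum_insert hn1, sum_insert (chi0_notMem z), mn_oneI_one, mn_chi0] at h1
  have h4 : ∑ θ ∈ setA G Q, mn θ (1 : Q →* ℤˣ) * mn θ (1 : Q →* ℤˣ) = (setA G Q).card * 4 := by
    rw [sum_congr rfl (fun θ hθ => by rw [mn_A_one hθ]), sum_const, smul_eq_mul]
  rw [h4] at h1
  omega

/-! ### The sets -/

section Sets

variable (cc : CC G a b Q H)
include cc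

theorem mn01 {ν : Q →* ℤˣ} (hν : ν ≠ 1) (θ : IrrCharacter G) : mn θ ν = 0 ∨ mn θ ν = 1 :=
  (mn_cases cc.sc cc.hF cc.hsq cc.hcount hν θ).imp_right (·.1)

theorem fz_of_mem {ν : Q →* ℤˣ} (hν : ν ≠ 1) {θ : IrrCharacter G} (hθ : θ ∈ SS ν) : fz θ = 1 := by
  rcases mn_cases cc.sc cc.hF cc.hsq cc.hcount hν θ with h | h
  · rw [mem_SS] at hθ
    omega
  · exact h.2

open scoped Classical in
theorem card_inter {ν ν' : Q →* ℤˣ} (hν : ν ≠ 1) (hν' : ν' ≠ 1) :
    (SS ν ∩ SS ν').card = Nat.card H + (univ.filter (fun h : H => ν = act cc.sc h ν')).card := by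
  rw [← sum_mn_mul cc.sc ν ν']
  have h1 : ∀ θ : IrrCharacter G, mn θ ν * mn θ ν' = if θ ∈ SS ν ∩ SS ν' then 1 else 0 := by
    intro θ
    simp only [mem_inter, mem_SS]
    rcases mn01 cc hν θ with h2 | h2 <;> rcases mn01 cc hν' θ with h3 | h3 <;> simp [h2, h3]
  simp only [h1]
  rw [Finset.sum_boole, Finset.filter_mem_eq_inter, univ_inter]
  simp

open scoped Classical in
theorem filter_self {ν : Q →* ℤˣ} (hν : ν ≠ 1) :
    (univ.filter (fun h : H => ν = act cc.sc h ν)).card = 1 := by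
  rw [card_eq_one]
  refine ⟨1, ?_⟩
  ext h
  simp only [mem_filter, mem_univ, true_and, mem_singleton]
  constructor
  · intro h3
    by_contra h4
    exact hν (act_free cc.sc cc.hF h4 h3.symm)
  · rintro rfl
    rw [act_one]

theorem card_SS {ν : Q →* ℤˣ} (hν : ν ≠ 1) : (SS ν : Finset (IrrCharacter G)).card = Nat.card H + 1 := by
  classical
  have h1 := card_inter cc hν hν
  rw [inter_self, filter_self cc hν] at h1
  exact h1

theorem Sp_sub {ν : Q →* ℤˣ} (hν : ν ≠ 1) : Sp cc.z ⊆ (SS ν : Finset (IrrCharacter G)) := by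
  classical
  intro θ hθ
  rw [mem_SS]
  rcases mem_insert.1 hθ with h | h
  · rw [h, mn_chi0]
  · exact mn_A h hν

theorem card_Sp : (Sp cc.z).card = (setA G Q).card + 1 := by
  classical
  rw [Sp, card_insert_of_notMem (chi0_notMem cc.z)]

theorem card_S0 {ν : Q →* ℤˣ} (hν : ν ≠ 1) : (S0 cc.z ν).card = (setA G Q).card + 1 := by
  classical
  have h1 := card_SS cc hν
  have h2 := card_sdiff_of_subset (Sp_sub cc hν)
  have h3 := card_setA cc.sc cc.z
  have h4 := card_Sp cc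
  rw [S0, h2, h1, h4]
  omega

theorem card_S0_inter {ν ν' : Q →* ℤˣ} (hν : ν ≠ 1) (hν' : ν' ≠ 1) (hno : ∀ h : H, ν ≠ act cc.sc h ν') :
    (S0 cc.z ν ∩ S0 cc.z ν').card + 1 = (setA G Q).card + 1 := by
  classical
  have h1 := card_inter cc hν hν'
  have h2 : (univ.filter (fun h : H => ν = act cc.sc h ν')).card = 0 := by
    rw [card_eq_zero, filter_eq_empty_iff]
    exact fun h _ => hno h
  rw [h2, add_zero] at h1
  have h3 : S0 cc.z ν ∩ S0 cc.z ν' = (SS ν ∩ SS ν') \ Sp cc.z := by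
    ext θ
    simp only [S0, mem_inter, mem_sdiff]
    tauto
  have h4 : Sp cc.z ⊆ SS ν ∩ SS ν' := subset_inter (Sp_sub cc hν) (Sp_sub cc hν')
  rw [h3, card_sdiff_of_subset h4, h1, card_Sp cc]
  have h5 := card_setA cc.sc cc.z
  omega

theorem SS_act (h : H) (ν : Q →* ℤˣ) : (SS (act cc.sc h ν) : Finset (IrrCharacter G)) = SS ν := by
  ext θ
  rw [mem_SS, mem_SS, mn_act]

theorem S0_act (h : H) (ν : Q →* ℤˣ) : S0 cc.z (act cc.sc h ν) = S0 cc.z ν := by
  rw [S0, S0, SS_act cc]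

theorem exists_act_of_S0_eq {ν ν' : Q →* ℤˣ} (hν : ν ≠ 1) (hν' : ν' ≠ 1)
    (h : S0 cc.z ν = S0 cc.z ν') : ∃ k : H, ν = act cc.sc k ν' := by
  classical
  by_contra hno
  push Not at hno
  have h1 := card_S0_inter cc hν hν' hno
  rw [← h, inter_self, card_S0 cc hν] at h1
  omega

theorem act_ne_one {ν : Q →* ℤˣ} (hν : ν ≠ 1) (h : H) : act cc.sc h ν ≠ 1 := by
  intro h1
  apply hν
  have h2 := congrArg (act cc.sc h⁻¹) h1
  rw [← act_mul, inv_mul_cancel, act_one] at h2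
  rw [h2]
  ext u
  simp

theorem act_inj {ν : Q →* ℤˣ} (hν : ν ≠ 1) {h k : H} (hk : act cc.sc h ν = act cc.sc k ν) : h = k := by
  by_contra hne
  have h1 : k⁻¹ * h ≠ 1 := by
    intro h2
    exact hne (inv_mul_eq_one.1 h2).symm
  apply hν
  apply act_free cc.sc cc.hF h1
  rw [act_mul, hk, ← act_mul, inv_mul_cancel, act_one]

variable [Fintype (Q →* ℤˣ)]

open scoped Classical in
/-- The family of sets. -/
noncomputable def family (z : ZC G a b Q) : Finset (Finset (IrrCharacter G)) :=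
  (univ.erase (1 : Q →* ℤˣ)).image (S0 z)

theorem mem_family {S : Finset (IrrCharacter G)} :
    S ∈ family cc.z ↔ ∃ ν : Q →* ℤˣ, ν ≠ 1 ∧ S0 cc.z ν = S := by
  classical
  simp [family]

open scoped Classical in
theorem card_fiber {ν : Q →* ℤˣ} (hν : ν ≠ 1) :
    ((univ.erase (1 : Q →* ℤˣ)).filter (fun ν' => S0 cc.z ν' = S0 cc.z ν)).card = Nat.card H := by
  have h1 : (univ.erase (1 : Q →* ℤˣ)).filter (fun ν' => S0 cc.z ν' = S0 cc.z ν)
      = (univ : Finset H).image (fun h => act cc.sc h ν) := by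
    ext ν'
    simp only [mem_filter, mem_erase, mem_univ, and_true, mem_image, true_and]
    constructor
    · rintro ⟨h2, h3⟩
      obtain ⟨k, hk⟩ := exists_act_of_S0_eq cc h2 hν h3
      exact ⟨k, hk.symm⟩
    · rintro ⟨k, rfl⟩
      exact ⟨act_ne_one cc hν k, S0_act cc k ν⟩
  rw [h1, card_image_of_injective _ (fun h k hk => act_inj cc hν hk), Nat.card_eq_fintype_card]
  rfl

open scoped Classical in
theorem card_D : (univ.erase (1 : Q →* ℤˣ)).card = (family cc.z).card * Nat.card H := by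
  have h1 := Finset.card_eq_sum_card_image (S0 cc.z) (univ.erase (1 : Q →* ℤˣ))
  rw [h1, family]
  have h2 : ∀ S ∈ (univ.erase (1 : Q →* ℤˣ)).image (S0 cc.z),
      ((univ.erase (1 : Q →* ℤˣ)).filter (fun ν' => S0 cc.z ν' = S)).card = Nat.card H := by
    intro S hS
    obtain ⟨ν, hν, rfl⟩ := mem_image.1 hS
    exact card_fiber cc (mem_erase.1 hν).1
  rw [sum_congr rfl h2, sum_const, smul_eq_mul]

/-- Outside the special characters, the number of `ν` with a given character in `S0`. -/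
theorem sum_mn_D {θ : IrrCharacter G} (hθ : θ ∉ Sp cc.z) :
    ∑ ν ∈ univ.erase (1 : Q →* ℤˣ), mn θ ν = Nat.card H * rr (family cc.z) θ := by
  classical
  have h1 : ∑ ν ∈ univ.erase (1 : Q →* ℤˣ), mn θ ν
      = ((univ.erase (1 : Q →* ℤˣ)).filter (fun ν => θ ∈ S0 cc.z ν)).card := by
    rw [card_filter]
    refine sum_congr rfl fun ν hν => ?_
    have hν1 := (mem_erase.1 hν).1
    by_cases h2 : θ ∈ S0 cc.z ν
    · rw [if_pos h2]
      exact mem_SS.1 (mem_sdiff.1 h2).1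
    · rw [if_neg h2]
      rcases mn01 cc hν1 θ with h3 | h3
      · exact h3
      · exfalso
        exact h2 (mem_sdiff.2 ⟨mem_SS.2 h3, hθ⟩)
  rw [h1]
  have h2 := Finset.card_eq_sum_card_fiberwise
    (s := (univ.erase (1 : Q →* ℤˣ)).filter (fun ν => θ ∈ S0 cc.z ν))
    (t := (family cc.z).filter (fun S => θ ∈ S)) (f := S0 cc.z) (by
      intro ν hν
      have hν' := mem_filter.1 (Finset.mem_coe.1 hν)
      refine Finset.mem_coe.2 (mem_filter.2 ⟨?_, hν'.2⟩)
      exact mem_family cc |>.2 ⟨ν, (mem_erase.1 hν'.1).1, rfl⟩)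
  rw [h2, rr]
  have h3 : ∀ S ∈ (family cc.z).filter (fun S => θ ∈ S),
      (((univ.erase (1 : Q →* ℤˣ)).filter (fun ν => θ ∈ S0 cc.z ν)).filter
        (fun ν => S0 cc.z ν = S)).card = Nat.card H := by
    intro S hS
    obtain ⟨hS1, hS2⟩ := mem_filter.1 hS
    obtain ⟨ν, hν, rfl⟩ := (mem_family cc).1 hS1
    rw [← card_fiber cc hν, filter_filter]
    congr 1
    ext ν'
    simp only [mem_filter]
    constructor
    · rintro ⟨h4, -, h5⟩
      exact ⟨h4, h5⟩
    · rintro ⟨h4, h5⟩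
      exact ⟨h4, by rw [h5]; exact hS2, h5⟩
  rw [sum_congr rfl h3, sum_const, smul_eq_mul, mul_comm]

/-! ### Degrees -/

/-- The degree. -/
noncomputable def dg (θ : IrrCharacter G) : ℕ := charDegree (θ : G → ℂ)

omit [IsSimpleGroup G] [Fintype (Q →* ℤˣ)] cc in
theorem dg_eq (θ : IrrCharacter G) : (dg θ : ℂ) = (θ : G → ℂ) 1 :=
  charDegree_natCast (isCharacter_of_isIrrCharacter θ.2)

omit [IsSimpleGroup G] [Fintype (Q →* ℤˣ)] cc in
/-- The degree of the induced character. -/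
theorem deg_sum (sc : SC Q H) (ν : Q →* ℤˣ) :
    ∑ θ : IrrCharacter G, mn θ ν * dg θ = (Nat.card Q + 1) * Nat.card H := by
  have h1 := congrFun (classFunction_eq_sum (isClassFunction_indFun Q (hat ν))) 1
  rw [Finset.sum_apply, indFun_one, hat_one, mul_one, sc.idx] at h1
  have h2 : ∀ θ : IrrCharacter G, (classInner (indFun Q (hat ν)) (θ : G → ℂ) • (θ : G → ℂ)) 1
      = ((mn θ ν * dg θ : ℕ) : ℂ) := by
    intro θ
    rw [Pi.smul_apply, smul_eq_mul, classInner_indFun_left Q _ _ (isClassFunction_of_isIrrCharacter θ.2)]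
    have h3 := mc_eq θ ν
    rw [mc] at h3
    have h4 : classInner (hat ν) (fun h : Q => (θ : G → ℂ) h) = (mn θ ν : ℂ) := h3
    rw [h4, ← dg_eq]
    push_cast
    rfl
  simp only [h2] at h1
  exact_mod_cast h1.symm

theorem deg_SS {ν : Q →* ℤˣ} (hν : ν ≠ 1) :
    ∑ θ ∈ SS ν, dg θ = (Nat.card Q + 1) * Nat.card H := by
  classical
  rw [← deg_sum cc.sc ν, SS, sum_filter]
  refine sum_congr rfl fun θ _ => ?_
  rcases mn01 cc hν θ with h | h
  · rw [h]
    simp
  · rw [h]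
    simp

omit [IsSimpleGroup G] [Fintype (Q →* ℤˣ)] cc in
theorem dg_chi0 (z : ZC G a b Q) : dg (chi0 z) = Nat.card Q := by
  have h1 := dg_eq (chi0 z)
  rw [chi0_one] at h1
  exact_mod_cast h1

omit [IsSimpleGroup G] [Fintype (Q →* ℤˣ)] cc in
theorem dg_A {θ : IrrCharacter G} (hθ : θ ∈ setA G Q) : dg θ = Nat.card Q + 1 := by
  have h1 := dg_eq θ
  rw [(mem_setA.1 hθ).1] at h1
  exact_mod_cast h1

theorem deg_Sp : ∑ θ ∈ Sp cc.z, dg θ = Nat.card Q + (setA G Q).card * (Nat.card Q + 1) := by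
  classical
  rw [Sp, sum_insert (chi0_notMem cc.z), dg_chi0, sum_congr rfl (fun θ hθ => dg_A hθ), sum_const,
    smul_eq_mul]

theorem deg_S0 {ν : Q →* ℤˣ} (hν : ν ≠ 1) :
    Nat.card Q + (setA G Q).card * (Nat.card Q + 1) + ∑ θ ∈ S0 cc.z ν, dg θ
      = (Nat.card Q + 1) * Nat.card H := by
  classical
  rw [← deg_SS cc hν, ← deg_Sp cc, S0, add_comm, sum_sdiff (Sp_sub cc hν)]

/-- Members of the sets have no `Q`-fixed vectors. -/
theorem mn_one_of_mem {ν : Q →* ℤˣ} (hν : ν ≠ 1) {θ : IrrCharacter G} (hθ : θ ∈ S0 cc.z ν) :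
    mn θ (1 : Q →* ℤˣ) = 0 := by
  classical
  by_contra h
  obtain ⟨h1, h2⟩ := mem_sdiff.1 hθ
  rcases hall cc.z θ h with h3 | h3 | h3
  · rw [mem_SS, h3, mn_oneI hν] at h1
    omega
  · exact h2 (by rw [h3, Sp]; exact mem_insert_self _ _)
  · exact h2 (by rw [Sp]; exact mem_insert_of_mem h3)

/-- The reduced degree. -/
noncomputable def FF (H : Subgroup G) (θ : IrrCharacter G) : ℕ := dg θ / Nat.card H

theorem dg_eq_mul {θ : IrrCharacter G} (h0 : mn θ (1 : Q →* ℤˣ) = 0) :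
    dg θ = Nat.card H * FF H θ := by
  obtain ⟨F, hF⟩ := exists_deg_eq cc.hF cc.sc.nrm θ h0
  have h1 : dg θ = Nat.card H * F := by
    have h2 := dg_eq θ
    rw [hF] at h2
    exact_mod_cast h2
  have hH : 0 < Nat.card H := Nat.card_pos
  rw [FF, h1, Nat.mul_div_cancel_left _ hH]

/-- The sum of reduced degrees. -/
theorem sum_FF {ν : Q →* ℤˣ} (hν : ν ≠ 1) :
    Nat.card Q + (setA G Q).card * (Nat.card Q + 1) + Nat.card H * ∑ θ ∈ S0 cc.z ν, FF H θ
      = (Nat.card Q + 1) * Nat.card H := by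
  rw [← deg_S0 cc hν, mul_sum]
  congr 1
  refine sum_congr rfl fun θ hθ => ?_
  exact (dg_eq_mul cc (mn_one_of_mem cc hν hθ)).symm

/-- The number `M`. -/
theorem exists_M : ∃ M : ℕ, Nat.card Q = Nat.card H * M + 1 := by
  obtain ⟨ν, hν⟩ := cc.hne
  have h1 := sum_FF cc hν
  have h2 := card_setA cc.sc cc.z
  have hQ2 := card_Q_ge cc.z
  have hH : 0 < Nat.card H := Nat.card_pos
  set X := ∑ θ ∈ S0 cc.z ν, FF H θ
  set w := (setA G Q).card
  set e := Nat.card H
  set N := Nat.card Q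
  have h3 : (N : ℤ) - 1 = e * ((N : ℤ) + 1 - 2 * X) := by
    have h4 : (N : ℤ) + w * (N + 1) + e * X = (N + 1) * e := by exact_mod_cast h1
    have h5 : (e : ℤ) = 2 * w + 1 := by exact_mod_cast h2.symm
    rw [h5] at h4 ⊢
    nlinarith
  have h6 : 0 < (N : ℤ) + 1 - 2 * X := by
    by_contra h7
    have h8 : (e : ℤ) * ((N : ℤ) + 1 - 2 * X) ≤ 0 :=
      mul_nonpos_of_nonneg_of_nonpos (by positivity) (not_lt.1 h7)
    have h9 : (2 : ℤ) ≤ N := by exact_mod_cast hQ2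
    linarith
  refine ⟨((N : ℤ) + 1 - 2 * X).toNat, ?_⟩
  have h10 : ((((N : ℤ) + 1 - 2 * X).toNat : ℕ) : ℤ) = (N : ℤ) + 1 - 2 * X := Int.toNat_of_nonneg h6.le
  have h11 : (N : ℤ) = e * (((N : ℤ) + 1 - 2 * X).toNat : ℕ) + 1 := by
    rw [h10]
    linarith
  exact_mod_cast h11

theorem sum_FF_eq {M : ℕ} (hM : Nat.card Q = Nat.card H * M + 1) {ν : Q →* ℤˣ} (hν : ν ≠ 1) :
    ∑ θ ∈ S0 cc.z ν, FF H θ = M * (setA G Q).card + 1 := by
  have h1 := sum_FF cc hν
  have h2 := card_setA cc.sc cc.z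
  have hH : 0 < Nat.card H := Nat.card_pos
  set X := ∑ θ ∈ S0 cc.z ν, FF H θ
  set w := (setA G Q).card
  set e := Nat.card H
  set N := Nat.card Q
  have h4 : (N : ℤ) + w * (N + 1) + e * X = (N + 1) * e := by exact_mod_cast h1
  have h5 : (e : ℤ) = 2 * w + 1 := by exact_mod_cast h2.symm
  have h6 : (N : ℤ) = e * M + 1 := by exact_mod_cast hM
  have h7 : (e : ℤ) * X = e * (M * w + 1) := by
    rw [h6] at h4
    have h8 : (e : ℤ) * X = ((e : ℤ) * M + 1 + 1) * e - ((e : ℤ) * M + 1) - w * ((e : ℤ) * M + 1 + 1) := by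
      linarith
    rw [h8]
    have h9 : (w : ℤ) = ((e : ℤ) - 1) / 2 := by omega
    have h10 : 2 * (w : ℤ) = (e : ℤ) - 1 := by omega
    nlinarith
  have h8 : (X : ℤ) = M * w + 1 := mul_left_cancel₀ (by positivity) h7
  exact_mod_cast h8

/-! ### Parity and divisibility -/

theorem mem_family_exists {S : Finset (IrrCharacter G)} (hS : S ∈ family cc.z) {θ : IrrCharacter G}
    (hθ : θ ∈ S) : ∃ ν : Q →* ℤˣ, ν ≠ 1 ∧ θ ∈ S0 cc.z ν := by
  obtain ⟨ν, hν, rfl⟩ := (mem_family cc).1 hS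
  exact ⟨ν, hν, hθ⟩

theorem card_H_odd : Odd (Nat.card H) := by
  have h := card_setA cc.sc cc.z
  exact ⟨_, h.symm⟩

theorem notMem_Sp {ν : Q →* ℤˣ} {θ : IrrCharacter G} (hθ : θ ∈ S0 cc.z ν) : θ ∉ Sp cc.z := by
  classical
  exact (mem_sdiff.1 hθ).2

theorem parity_FF {ν : Q →* ℤˣ} (hν : ν ≠ 1) {θ : IrrCharacter G} (hθ : θ ∈ S0 cc.z ν) :
    Even (FF H θ + rr (family cc.z) θ) := by
  classical
  haveI : Finite (IrrCharacter Q) := finite_irrCharacter
  letI : Fintype (IrrCharacter Q) := Fintype.ofFinite _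
  obtain ⟨t, ht⟩ := cc.htwo
  have hfz := fz_of_mem cc hν (mem_sdiff.1 hθ).1
  have hreal : ∀ g : G, conj ((θ : G → ℂ) g) = (θ : G → ℂ) g := by
    intro g
    rw [Complex.conj_eq_iff_im]
    by_contra hne
    have h1 := (fz_eq_zero_iff θ).2 ⟨g, hne⟩
    omega
  have h1 := parity_real ht (isCharacter_res (Q := Q) θ) (fun u => hreal u) (fun ν => mn θ ν)
    (fun ν => by
      rw [← classInner_conj]
      have h2 := mc_eq θ ν
      rw [mc] at h2
      rw [h2]
      simp)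
    (d := dg θ) (by rw [dg_eq]; rfl)
  have h2 : ∑ ν, mn θ ν = mn θ (1 : Q →* ℤˣ) + ∑ ν ∈ univ.erase (1 : Q →* ℤˣ), mn θ ν :=
    (Finset.add_sum_erase _ _ (mem_univ _)).symm
  rw [h2, mn_one_of_mem cc hν hθ, zero_add, sum_mn_D cc (notMem_Sp cc hθ),
    dg_eq_mul cc (mn_one_of_mem cc hν hθ), ← mul_add] at h1
  rcases Nat.even_mul.1 h1 with h3 | h3
  · exact absurd h3 (Nat.not_even_iff_odd.2 (card_H_odd cc))
  · exact h3

theorem dvd_FF {ν : Q →* ℤˣ} (hν : ν ≠ 1) {θ : IrrCharacter G} (hθ : θ ∈ S0 cc.z ν)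
    (hodd : Odd (FF H θ)) : FF H θ ∣ Nat.card Q + 1 := by
  obtain ⟨t, ht⟩ := cc.htwo
  have h1 : dg θ ∣ Nat.card G := charDegree_dvd_card θ.2
  have h2 : Nat.card G = Nat.card H * ((Nat.card Q + 1) * Nat.card Q) := by
    rw [← Subgroup.card_mul_index Q, cc.sc.idx]
    ring
  rw [h2, dg_eq_mul cc (mn_one_of_mem cc hν hθ)] at h1
  have h3 := Nat.dvd_of_mul_dvd_mul_left Nat.card_pos h1
  have h4 : Nat.Coprime (FF H θ) (Nat.card Q) := by
    rw [ht]
    exact Nat.Coprime.pow_right t (Nat.coprime_two_right.2 hodd)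
  exact h4.dvd_of_dvd_mul_right h3

theorem FF_pos {ν : Q →* ℤˣ} (hν : ν ≠ 1) {θ : IrrCharacter G} (hθ : θ ∈ S0 cc.z ν) : 0 < FF H θ := by
  have h1 : 0 < dg θ := charDegree_pos θ.2
  rw [dg_eq_mul cc (mn_one_of_mem cc hν hθ)] at h1
  exact Nat.pos_of_mul_pos_left h1 |> fun h => by
    rcases Nat.eq_zero_or_pos (FF H θ) with h2 | h2
    · rw [h2, mul_zero] at h1
      omega
    · exact h2

/-- **The norm inequality for the family.** -/
theorem norm_family {s M : ℕ} (hM : Nat.card Q = Nat.card H * M + 1) (hs : (family cc.z).card = s) :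
    ∑ θ ∈ (family cc.z).biUnion id, ((s : ℤ) * FF H θ - M * rr (family cc.z) θ) ^ 2
      ≤ (s : ℤ) * M * (M - s) := by
  classical
  apply norm_bound cc.sc (D := univ.erase (1 : Q →* ℤˣ)) (fun ν hν => (mem_erase.1 hν).1)
  · intro h ν hν
    exact mem_erase.2 ⟨act_ne_one cc (mem_erase.1 hν).1 h, mem_univ _⟩
  · exact hM
  · rw [card_D cc, hs]
  · intro θ hθ
    obtain ⟨S, hS, hθS⟩ := mem_biUnion.1 hθ
    obtain ⟨ν, hν, hθν⟩ := mem_family_exists cc hS hθS
    rw [mc_eq, mn_one_of_mem cc hν hθν]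
    simp
  · intro θ hθ
    obtain ⟨S, hS, hθS⟩ := mem_biUnion.1 hθ
    obtain ⟨ν, hν, hθν⟩ := mem_family_exists cc hS hθS
    rw [← dg_eq, dg_eq_mul cc (mn_one_of_mem cc hν hθν)]
    push_cast
    rfl
  · intro θ hθ
    obtain ⟨S, hS, hθS⟩ := mem_biUnion.1 hθ
    obtain ⟨ν, hν, hθν⟩ := mem_family_exists cc hS hθS
    simp only [mc_eq]
    have h1 := sum_mn_D cc (notMem_Sp cc hθν)
    have h2 : ((∑ ν ∈ univ.erase (1 : Q →* ℤˣ), mn θ ν : ℕ) : ℂ)
        = ((Nat.card H * rr (family cc.z) θ : ℕ) : ℂ) := by rw [h1]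
    push_cast at h2
    exact h2

/-- Sizes of the sets. -/
theorem family_card {S : Finset (IrrCharacter G)} (hS : S ∈ family cc.z) :
    S.card = (setA G Q).card + 1 := by
  obtain ⟨ν, hν, rfl⟩ := (mem_family cc).1 hS
  exact card_S0 cc hν

theorem family_inter {S S' : Finset (IrrCharacter G)} (hS : S ∈ family cc.z) (hS' : S' ∈ family cc.z)
    (hne : S ≠ S') : (S ∩ S').card + 1 = (setA G Q).card + 1 := by
  obtain ⟨ν, hν, rfl⟩ := (mem_family cc).1 hS
  obtain ⟨ν', hν', rfl⟩ := (mem_family cc).1 hS'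
  apply card_S0_inter cc hν hν'
  intro h hact
  apply hne
  rw [hact, S0_act cc]

/-- The data of the first arithmetic contradiction. -/
theorem card_bound (hM : ∃ M, Nat.card Q = Nat.card H * M + 1 ∧ Odd M) (hs : Odd (family cc.z).card) :
    (family cc.z).card ≤ Nat.card H + 1 := by
  classical
  obtain ⟨M, hM, hMo⟩ := hM
  by_contra hlt
  have he := card_setA cc.sc cc.z
  have he3 := cc.he3
  apply arith_A1 (family cc.z) (FF H) (q := Nat.card H + 1) (k := (setA G Q).card + 1) (M := M)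
    (s := (family cc.z).card)
  · omega
  · omega
  · exact hMo
  · exact hs
  · omega
  · rfl
  · exact fun S hS => family_card cc hS
  · exact fun S hS S' hS' hne => family_inter cc hS hS' hne
  · intro S hS θ hθ
    obtain ⟨ν, hν, hθν⟩ := mem_family_exists cc hS hθ
    exact FF_pos cc hν hθν
  · intro S hS θ hθ
    obtain ⟨ν, hν, hθν⟩ := mem_family_exists cc hS hθ
    exact parity_FF cc hν hθν
  · intro S hS θ hθ hodd
    obtain ⟨ν, hν, hθν⟩ := mem_family_exists cc hS hθ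
    have h1 := dvd_FF cc hν hθν hodd
    have h2 : (Nat.card H + 1 - 1) * M + 2 = Nat.card Q + 1 := by
      rw [hM]
      simp
    rw [h2]
    exact h1
  · intro S hS
    obtain ⟨ν, hν, rfl⟩ := (mem_family cc).1 hS
    rw [sum_FF_eq cc hM hν]
    simp
  · exact norm_family cc hM rfl

end Sets

end Cfsg.Agent.Lib.Suz.Core
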