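import Mathlib

/-!
# Additive self-maps of a finite field of characteristic two

Every additive map of a field with `2 ^ m` elements is, in a unique way, an `L`-combination of
the powers `y ↦ y ^ 2 ^ i` for `i < m`.
-/

set_option autoImplicit false
set_option linter.style.haveILetI false
set_option linter.unusedSectionVars false

namespace Cfsg.Agent.Lib.Suz.Expand

open scoped BigOperators

variable {L : Type*} [Field L] [Fintype L]

theorem charP_two {m : ℕ} (hcard : Fintype.card L = 2 ^ m) (_hm : 0 < m) : CharP L 2 := by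
  obtain ⟨p, hp⟩ := CharP.exists L
  obtain ⟨n, hpp, hn⟩ := FiniteField.card L p
  haveI := Fact.mk hpp
  have h1 : p ∣ 2 ^ m := by
    rw [← hcard, hn]
    exact dvd_pow_self p (PNat.ne_zero n)
  have h2 : p = 2 := (Nat.prime_dvd_prime_iff_eq hpp Nat.prime_two).1 (hpp.dvd_of_dvd_pow h1)
  rwa [h2] at hp

theorem exists_generator {m : ℕ} (hcard : Fintype.card L = 2 ^ m) :
    ∃ g : Lˣ, orderOf g = 2 ^ m - 1 := by
  classical
  obtain ⟨g, hg⟩ := IsCyclic.exists_generator (α := Lˣ)
  refine ⟨g, ?_⟩
  rw [orderOf_eq_card_of_forall_mem_zpowers hg, Nat.card_eq_fintype_card, Fintype.card_units, hcard]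

/-- The powers `2 ^ i`, `i < m`, are distinct as functions. -/
theorem frob_injective {m : ℕ} (hcard : Fintype.card L = 2 ^ m) :
    Function.Injective (fun i : Fin m => (powMonoidHom (2 ^ (i : ℕ)) : L →* L)) := by
  classical
  obtain ⟨g, hg⟩ := exists_generator hcard
  have key : ∀ i j : ℕ, i < j → j < m → (g : L) ^ 2 ^ i ≠ (g : L) ^ 2 ^ j := by
    intro i j hij hjm h
    have h1 : g ^ 2 ^ i = g ^ 2 ^ j := Units.ext (by simpa using h)
    have h2 : 2 ^ i < 2 ^ j := Nat.pow_lt_pow_right (by norm_num) hij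
    have h3 : g ^ (2 ^ j - 2 ^ i) = 1 := by
      have h4 : 2 ^ j = (2 ^ j - 2 ^ i) + 2 ^ i := by omega
      rw [h4, pow_add] at h1
      exact (mul_eq_right.1 h1.symm)
    have h5 := orderOf_dvd_of_pow_eq_one h3
    rw [hg] at h5
    have h6 : 2 ^ j - 2 ^ i = 2 ^ i * (2 ^ (j - i) - 1) := by
      rw [Nat.mul_sub, mul_one, ← pow_add]
      congr 2
      omega
    rw [h6] at h5
    have hcop : Nat.Coprime (2 ^ m - 1) (2 ^ i) := by
      apply Nat.Coprime.pow_right
      have : 2 ^ m - 1 = 2 * (2 ^ (m - 1) - 1) + 1 := by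
        obtain ⟨t, rfl⟩ : ∃ t, m = t + 1 := ⟨m - 1, by omega⟩
        have h7 : 1 ≤ 2 ^ t := Nat.one_le_two_pow
        simp only [Nat.add_sub_cancel]
        rw [pow_succ]
        omega
      rw [this]
      simp
    have h7 := hcop.dvd_of_dvd_mul_left h5
    have h8 : 2 ^ (j - i) ≤ 2 ^ j := Nat.pow_le_pow_right (by norm_num) (by omega)
    have h9 : 2 ^ j < 2 ^ m := Nat.pow_lt_pow_right (by norm_num) hjm
    have h10 : 2 ≤ 2 ^ (j - i) := by
      calc 2 = 2 ^ 1 := by norm_num
        _ ≤ 2 ^ (j - i) := Nat.pow_le_pow_right (by norm_num) (by omega)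
    have h11 := Nat.le_of_dvd (by omega) h7
    omega
  intro i j hij
  have h1 : (g : L) ^ 2 ^ (i : ℕ) = (g : L) ^ 2 ^ (j : ℕ) := by
    have := DFunLike.congr_fun hij (g : L)
    simpa using this
  rcases lt_trichotomy (i : ℕ) (j : ℕ) with h | h | h
  · exact absurd h1 (key _ _ h j.2)
  · exact Fin.ext h
  · exact absurd h1.symm (key _ _ h i.2)

/-- Independence of the Frobenius powers. -/
theorem linearIndependent_frob {m : ℕ} (hcard : Fintype.card L = 2 ^ m) :
    LinearIndependent L (fun (i : Fin m) (y : L) => y ^ 2 ^ (i : ℕ)) := by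
  exact (linearIndependent_monoidHom L L).comp _ (frob_injective hcard)

/-- Uniqueness of the coefficients. -/
theorem coeff_unique {m : ℕ} (hcard : Fintype.card L = 2 ^ m) {c c' : Fin m → L}
    (h : ∀ y : L, ∑ i, c i * y ^ 2 ^ (i : ℕ) = ∑ i, c' i * y ^ 2 ^ (i : ℕ)) : c = c' := by
  have hli := linearIndependent_frob hcard
  rw [Fintype.linearIndependent_iff] at hli
  funext i
  have h1 := hli (fun i => c i - c' i) (by
    funext y
    have := h y
    simp only [Finset.sum_apply, Pi.smul_apply, smul_eq_mul, sub_mul, Pi.zero_apply,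
      Finset.sum_sub_distrib]
    rw [this, sub_self]) i
  exact sub_eq_zero.1 h1

/-- Existence of the coefficients. -/
theorem exists_coeff {m : ℕ} (hcard : Fintype.card L = 2 ^ m) (hm : 0 < m) (f : L → L)
    (hf : ∀ x y, f (x + y) = f x + f y) :
    ∃ c : Fin m → L, ∀ y, f y = ∑ i, c i * y ^ 2 ^ (i : ℕ) := by
  classical
  haveI := charP_two hcard hm
  haveI : Fact (Nat.Prime 2) := ⟨Nat.prime_two⟩
  letI : Algebra (ZMod 2) L := ZMod.algebra L 2
  -- the target space
  let E := L →ₗ[ZMod 2] L
  have hfr : Module.finrank (ZMod 2) L = m := by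
    have h1 := Module.card_eq_pow_finrank (K := ZMod 2) (V := L)
    rw [ZMod.card, hcard] at h1
    exact (Nat.pow_right_injective (le_refl 2) h1).symm
  have hE : Module.finrank L E = m := by
    have := Module.finrank_linearMap_self (R := ZMod 2) (S := L) (M := L)
    rw [hfr] at this
    exact this
  -- Frobenius powers are linear
  have hfrob : ∀ (i : ℕ) (x y : L), (x + y) ^ 2 ^ i = x ^ 2 ^ i + y ^ 2 ^ i :=
    fun i x y => add_pow_char_pow x y 2 i
  let b : Fin m → E := fun i => AddMonoidHom.toZModLinearMap 2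
    { toFun := fun y => y ^ 2 ^ (i : ℕ)
      map_zero' := by simp
      map_add' := hfrob i }
  have hb : LinearIndependent L b := by
    have hli := linearIndependent_frob hcard
    let coe : E →ₗ[L] (L → L) :=
      { toFun := fun e y => e y
        map_add' := fun _ _ => rfl
        map_smul' := fun _ _ => rfl }
    exact LinearIndependent.of_comp coe hli
  have hspan : Submodule.span L (Set.range b) = ⊤ :=
    hb.span_eq_top_of_card_eq_finrank' (by simp [hE])
  let e : E := AddMonoidHom.toZModLinearMap 2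
    { toFun := f
      map_zero' := by
        have := hf 0 0
        simpa using this
      map_add' := hf }
  have he : e ∈ Submodule.span L (Set.range b) := by rw [hspan]; trivial
  obtain ⟨c, hc⟩ := (Submodule.mem_span_range_iff_exists_fun L).1 he
  refine ⟨c, fun y => ?_⟩
  have h1 := DFunLike.congr_fun hc y
  have h2 : f y = e y := rfl
  rw [h2, ← h1, LinearMap.sum_apply]
  rfl

end Cfsg.Agent.Lib.Suz.Expand
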