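import Cfsg.Agent.Lib.Suz.Sect

/-!
# Minimal invariant sections

A commutative group `K` of exponent dividing `2 ^ m - 1` acting irreducibly on a finite elementary
abelian `2`-group `W` has `|W| ≤ 2 ^ m`.
-/

set_option autoImplicit false
set_option linter.style.haveILetI false
set_option linter.unusedSectionVars false

namespace Cfsg.Agent.Lib.Suz.Module

open Cfsg.Agent.Lib.Suz.Sect

section Abstract

universe u

/-- Counting elements of a finite domain with `r ^ q = r`. -/
theorem card_le_of_frob {R : Type*} [CommRing R] [IsDomain R] [Fintype R] {q : ℕ} (hq : 1 < q)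
    (h : ∀ r : R, r ^ q = r) : Fintype.card R ≤ q := by
  classical
  let P : Polynomial R := Polynomial.X ^ q - Polynomial.X
  have hdeg : P.natDegree = q := by
    have h1 : (Polynomial.X : Polynomial R).natDegree < (Polynomial.X ^ q : Polynomial R).natDegree := by
      rw [Polynomial.natDegree_X, Polynomial.natDegree_X_pow]
      exact hq
    have h2 := Polynomial.natDegree_sub_eq_left_of_natDegree_lt h1
    rw [Polynomial.natDegree_X_pow] at h2
    exact h2
  have hP : P ≠ 0 := by
    intro h0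
    rw [h0, Polynomial.natDegree_zero] at hdeg
    omega
  have hsub : (Finset.univ : Finset R) ⊆ P.roots.toFinset := by
    intro r _
    rw [Multiset.mem_toFinset, Polynomial.mem_roots hP, Polynomial.IsRoot.def]
    simp [P, h r]
  calc Fintype.card R = (Finset.univ : Finset R).card := rfl
    _ ≤ P.roots.toFinset.card := Finset.card_le_card hsub
    _ ≤ Multiset.card P.roots := Multiset.toFinset_card_le _
    _ ≤ P.natDegree := Polynomial.card_roots' P
    _ = q := hdeg

variable {K W : Type*} [Group K] [AddCommGroup W]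

/-- An irreducible commutative group of exponent dividing `2 ^ m - 1` on an elementary abelian
group. -/
theorem card_le_of_irr [Finite W] (φ : K →* AddMonoid.End W) (hcomm : ∀ x y : K, x * y = y * x)
    {m : ℕ} (hm : 1 ≤ m) (h2 : ∀ w : W, w + w = 0) (hpow : ∀ x : K, x ^ (2 ^ m - 1) = 1)
    (hirr : ∀ W' : AddSubgroup W, (∀ x, ∀ w ∈ W', φ x w ∈ W') → W' = ⊥ ∨ W' = ⊤)
    {w₀ : W} (hw₀ : w₀ ≠ 0) : Nat.card W ≤ 2 ^ m := by
  classical
  let S0 : Set (AddMonoid.End W) := Set.range φ
  have hS : ∀ x ∈ S0, ∀ y ∈ S0, x * y = y * x := by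
    rintro _ ⟨a, rfl⟩ _ ⟨b, rfl⟩
    rw [← map_mul, hcomm, map_mul]
  letI R : CommRing (Subring.closure S0) := Subring.closureCommRingOfComm hS
  haveI hE : Finite (AddMonoid.End W) := by
    have : Function.Injective (fun f : AddMonoid.End W => (f : W → W)) := DFunLike.coe_injective
    exact Finite.of_injective _ this
  letI : Fintype (Subring.closure S0) := Fintype.ofFinite _
  let emb : K → Subring.closure S0 := fun x => ⟨φ x, Subring.subset_closure ⟨x, rfl⟩⟩
  have hc : ∀ (l : Subring.closure S0) (x : K), ((l : AddMonoid.End W)) * φ x = φ x * l := by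
    intro l x
    have := mul_comm l (emb x)
    exact congrArg Subtype.val this
  -- characteristic two
  have htwo : (1 : Subring.closure S0) + 1 = 0 := by
    apply Subtype.ext
    ext w
    exact h2 w
  haveI : Fact (Nat.Prime 2) := ⟨Nat.prime_two⟩
  haveI hnt : Nontrivial (Subring.closure S0) := by
    refine ⟨⟨0, 1, ?_⟩⟩
    intro h
    have h1 : (((0 : Subring.closure S0) : AddMonoid.End W)) w₀
        = ((1 : Subring.closure S0) : AddMonoid.End W) w₀ := by rw [h]
    exact hw₀ h1.symm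
  haveI hchar : CharP (Subring.closure S0) 2 := by
    apply CharTwo.of_one_ne_zero_of_two_eq_zero one_ne_zero
    rw [← one_add_one_eq_two]
    exact htwo
  -- nonzero elements are injective
  have hinj : ∀ l : Subring.closure S0, l ≠ 0 → ∀ w, (l : AddMonoid.End W) w = 0 → w = 0 := by
    intro l hl w hw
    let W' : AddSubgroup W := (l : AddMonoid.End W).ker
    have hW' : ∀ x, ∀ v ∈ W', φ x v ∈ W' := by
      intro x v hv
      have h1 := DFunLike.congr_fun (hc l x) v
      have h2' : (l : AddMonoid.End W) (φ x v) = φ x ((l : AddMonoid.End W) v) := h1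
      show (l : AddMonoid.End W) (φ x v) = 0
      rw [h2', show (l : AddMonoid.End W) v = 0 from hv, map_zero]
    rcases hirr W' hW' with h | h
    · have : w ∈ W' := hw
      rw [h] at this
      exact this
    · exfalso
      apply hl
      apply Subtype.ext
      ext v
      have : v ∈ W' := by rw [h]; trivial
      exact this
  haveI : IsDomain (Subring.closure S0) := by
    haveI : NoZeroDivisors (Subring.closure S0) := by
      refine ⟨fun {a b} hab => ?_⟩
      by_contra hcon
      push Not at hcon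
      obtain ⟨ha, hb⟩ := hcon
      have : b = 0 := by
        apply Subtype.ext
        ext v
        apply hinj a ha
        have h1 := congrArg (fun z : Subring.closure S0 => (z : AddMonoid.End W) v) hab
        exact h1
      exact hb this
    exact NoZeroDivisors.to_isDomain _
  -- every element satisfies `r ^ q = r`
  have hfrob : ∀ r : Subring.closure S0, r ^ 2 ^ m = r := by
    rintro ⟨r, hr⟩
    induction hr using Subring.closure_induction with
    | mem x hx =>
      obtain ⟨a, rfl⟩ := hx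
      apply Subtype.ext
      change (φ a) ^ 2 ^ m = φ a
      rw [← map_pow]
      congr 1
      have h1 : 1 ≤ 2 ^ m := Nat.one_le_two_pow
      have h3 : 2 ^ m = (2 ^ m - 1) + 1 := by omega
      rw [h3, pow_succ, hpow, one_mul]
    | zero =>
      have : (2 ^ m : ℕ) ≠ 0 := by positivity
      exact zero_pow this
    | one => exact one_pow _
    | add x y hx hy ihx ihy =>
      have : (⟨x + y, Subring.add_mem _ hx hy⟩ : Subring.closure S0) = ⟨x, hx⟩ + ⟨y, hy⟩ := rfl
      rw [this, add_pow_char_pow, ihx, ihy]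
    | neg x hx ih =>
      have : (⟨-x, Subring.neg_mem _ hx⟩ : Subring.closure S0) = ⟨x, hx⟩ := by
        have h1 : (⟨-x, Subring.neg_mem _ hx⟩ : Subring.closure S0) = -⟨x, hx⟩ := rfl
        rw [h1]
        exact CharTwo.neg_eq _
      rw [this, ih]
    | mul x y hx hy ihx ihy =>
      have : (⟨x * y, Subring.mul_mem _ hx hy⟩ : Subring.closure S0) = ⟨x, hx⟩ * ⟨y, hy⟩ := rfl
      rw [this, mul_pow, ihx, ihy]
  -- count
  have hcardS : Fintype.card (Subring.closure S0) ≤ 2 ^ m :=
    card_le_of_frob (Nat.one_lt_two_pow (by omega)) hfrob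
  -- evaluation is onto
  let ev : Subring.closure S0 →+ W :=
    { toFun := fun r => (r : AddMonoid.End W) w₀
      map_zero' := rfl
      map_add' := fun _ _ => rfl }
  have hrange : ev.range = ⊤ := by
    have h1 : ev.range = ⊥ ∨ ev.range = ⊤ := by
      apply hirr
      rintro x _ ⟨r, rfl⟩
      refine ⟨emb x * r, ?_⟩
      rfl
    rcases h1 with h | h
    · exfalso
      have : w₀ ∈ ev.range := ⟨1, rfl⟩
      rw [h] at this
      exact hw₀ this
    · exact h
  have hsurj : Function.Surjective ev := AddMonoidHom.range_eq_top.1 hrange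
  have h3 : Nat.card W ≤ Nat.card (Subring.closure S0) := Nat.card_le_card_of_surjective ev hsurj
  rw [Nat.card_eq_fintype_card (α := Subring.closure S0)] at h3
  exact le_trans h3 hcardS

end Abstract

section Section

variable {Γ : Type*} [Group Γ] [Finite Γ]

/-- A minimal section has order at most `q`. -/
theorem section_card_le {Q H X T : Subgroup Γ} (hS : IsSect Q H X T) (hXinv : IsInv H X)
    (hmin : ∀ T' : Subgroup Γ, X ≤ T' → T' ≤ T → IsInv H T' → T' = X ∨ T' = T) (hne : X ≠ T)
    (hcomm : ∀ a ∈ H, ∀ b ∈ H, a * b = b * a) {m : ℕ} (hm : 1 ≤ m)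
    (hpow : ∀ h ∈ H, h ^ (2 ^ m - 1) = 1) : Nat.card T ≤ 2 ^ m * Nat.card X := by
  classical
  have hXT := hS.le
  have hTQ := hS.leQ
  let X' : Subgroup T := X.subgroupOf T
  haveI hX'n : X'.Normal := by
    refine ⟨fun n hn g => ?_⟩
    rw [Subgroup.mem_subgroupOf] at hn ⊢
    have h1 := hS.comm g g.2 n (hTQ n.2)
    have h2 : (g : Γ) * n * (g : Γ)⁻¹ = cm (g : Γ) (n : Γ) * n := by
      simp only [cm]; group
    show (g : Γ) * n * (g : Γ)⁻¹ ∈ X
    rw [h2]
    exact X.mul_mem (hS.comm g g.2 n (hTQ n.2)) hn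
  have hab : ∀ a b : T ⧸ X', a * b = b * a := by
    intro a b
    induction a using QuotientGroup.induction_on with
    | H a =>
    induction b using QuotientGroup.induction_on with
    | H b =>
    rw [← QuotientGroup.mk_mul, ← QuotientGroup.mk_mul, QuotientGroup.eq]
    show (((a * b)⁻¹ * (b * a) : T) : Γ) ∈ X
    have h1 := hS.comm _ (T.inv_mem b.2) _ (hTQ (T.inv_mem a.2))
    have h2 : (((a * b)⁻¹ * (b * a) : T) : Γ) = cm ((b : Γ)⁻¹) ((a : Γ)⁻¹) := by
      simp only [cm]
      push_cast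
      group
    rw [h2]
    exact h1
  letI : CommGroup (T ⧸ X') := { (inferInstance : Group (T ⧸ X')) with mul_comm := hab }
  -- conjugation on the quotient
  let c : H → T →* T := fun h =>
    { toFun := fun t => ⟨(h : Γ) * t * (h : Γ)⁻¹, hS.inv h h.2 t t.2⟩
      map_one' := by apply Subtype.ext; simp
      map_mul' := fun a b => by apply Subtype.ext; simp [mul_assoc] }
  have hc : ∀ (h : H), X' ≤ X'.comap (c h) := by
    intro h t ht
    rw [Subgroup.mem_comap]
    exact hXinv h h.2 t ht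
  let ψ : H → (T ⧸ X') →* (T ⧸ X') := fun h => QuotientGroup.map X' X' (c h) (hc h)
  have hψ : ∀ (h : H) (t : T), ψ h (t : T ⧸ X') = (c h t : T ⧸ X') := fun h t => rfl
  let φ : H →* AddMonoid.End (Additive (T ⧸ X')) :=
    { toFun := fun h => MonoidHom.toAdditive (ψ h)
      map_one' := by
        refine AddMonoidHom.ext fun v => ?_
        apply Additive.toMul.injective
        obtain ⟨t, ht⟩ := QuotientGroup.mk_surjective (Additive.toMul v)
        have hv : v = Additive.ofMul (t : T ⧸ X') := by rw [ht]; rfl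
        rw [hv]
        show ψ 1 (t : T ⧸ X') = (t : T ⧸ X')
        rw [hψ]
        congr 1
        apply Subtype.ext
        show (((1 : H) : Γ)) * t * ((1 : H) : Γ)⁻¹ = t
        simp
      map_mul' := by
        intro a b
        refine AddMonoidHom.ext fun v => ?_
        apply Additive.toMul.injective
        obtain ⟨t, ht⟩ := QuotientGroup.mk_surjective (Additive.toMul v)
        have hv : v = Additive.ofMul (t : T ⧸ X') := by rw [ht]; rfl
        rw [hv]
        show ψ (a * b) (t : T ⧸ X') = ψ a (ψ b (t : T ⧸ X'))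
        rw [hψ, hψ, hψ]
        congr 1
        apply Subtype.ext
        show (((a * b : H) : Γ)) * t * ((a * b : H) : Γ)⁻¹ = (a : Γ) * ((b : Γ) * t * (b : Γ)⁻¹) * (a : Γ)⁻¹
        push_cast
        group }
  have hφ : ∀ (h : H) (t : T), φ h (Additive.ofMul (t : T ⧸ X'))
      = Additive.ofMul ((c h t : T) : T ⧸ X') := fun h t => rfl
  obtain ⟨x₀, hx₀T, hx₀X⟩ : ∃ x ∈ T, x ∉ X := by
    by_contra hcon
    push Not at hcon
    exact hne (le_antisymm hXT hcon)
  have hmkX : ∀ t : T, (t : T ⧸ X') = 1 ↔ (t : Γ) ∈ X := by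
    intro t
    rw [QuotientGroup.eq_one_iff]
    rfl
  have hw₀ : Additive.ofMul (((⟨x₀, hx₀T⟩ : T)) : T ⧸ X') ≠ 0 := by
    intro h
    have h1 : ((⟨x₀, hx₀T⟩ : T) : T ⧸ X') = 1 := h
    exact hx₀X ((hmkX _).1 h1)
  haveI : Finite (Additive (T ⧸ X')) := inferInstanceAs (Finite (T ⧸ X'))
  have hcard := card_le_of_irr φ (fun x y => Subtype.ext (hcomm x x.2 y y.2)) hm
    (by
      intro w
      obtain ⟨t, ht⟩ := QuotientGroup.mk_surjective (Additive.toMul w)
      have hv : w = Additive.ofMul (t : T ⧸ X') := by rw [ht]; rfl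
      rw [hv]
      show ((t : T ⧸ X') * (t : T ⧸ X')) = 1
      rw [← QuotientGroup.mk_mul, hmkX]
      exact hS.sq t t.2)
    (fun x => Subtype.ext (by simpa using hpow x x.2))
    (by
      intro W' hW'
      -- the preimage
      let T' : Subgroup Γ :=
        { carrier := {t | ∃ ht : t ∈ T, Additive.ofMul (((⟨t, ht⟩ : T)) : T ⧸ X') ∈ W'}
          one_mem' := ⟨T.one_mem, W'.zero_mem⟩
          mul_mem' := by
            rintro a b ⟨ha, ha'⟩ ⟨hb, hb'⟩
            exact ⟨T.mul_mem ha hb, W'.add_mem ha' hb'⟩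
          inv_mem' := by
            rintro a ⟨ha, ha'⟩
            exact ⟨T.inv_mem ha, W'.neg_mem ha'⟩ }
      have hXT' : X ≤ T' := by
        intro x hx
        refine ⟨hXT hx, ?_⟩
        have h1 : (((⟨x, hXT hx⟩ : T)) : T ⧸ X') = 1 := (hmkX _).2 hx
        have h2 : Additive.ofMul (((⟨x, hXT hx⟩ : T)) : T ⧸ X') = 0 := by
          rw [h1]; rfl
        rw [h2]
        exact W'.zero_mem
      have hT'T : T' ≤ T := fun t ht => ht.1
      have hT'inv : IsInv H T' := by
        rintro h hh t ⟨ht, ht'⟩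
        refine ⟨hS.inv h hh t ht, ?_⟩
        exact hW' ⟨h, hh⟩ _ ht'
      rcases hmin T' hXT' hT'T hT'inv with h | h
      · left
        rw [eq_bot_iff]
        intro w hw
        obtain ⟨t, ht⟩ := QuotientGroup.mk_surjective (Additive.toMul w)
        have hv : w = Additive.ofMul (t : T ⧸ X') := by rw [ht]; rfl
        rw [hv] at hw
        have h1 : (t : Γ) ∈ T' := ⟨t.2, hw⟩
        rw [h] at h1
        rw [AddSubgroup.mem_bot, hv]
        exact (hmkX t).2 h1
      · right
        rw [eq_top_iff]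
        intro w _
        obtain ⟨t, ht⟩ := QuotientGroup.mk_surjective (Additive.toMul w)
        have hv : w = Additive.ofMul (t : T ⧸ X') := by rw [ht]; rfl
        have h1 : (t : Γ) ∈ T' := by rw [h]; exact t.2
        obtain ⟨_, h2⟩ := h1
        rw [hv]
        exact h2)
    hw₀
  have h1 : Nat.card T = Nat.card (T ⧸ X') * Nat.card X' :=
    Subgroup.card_eq_card_quotient_mul_card_subgroup X'
  have h2 : Nat.card X' = Nat.card X :=
    Nat.card_congr (Subgroup.subgroupOfEquivOfLe hXT).toEquiv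
  have h3 : Nat.card (Additive (T ⧸ X')) = Nat.card (T ⧸ X') := rfl
  rw [h1, h2]
  rw [h3] at hcard
  exact Nat.mul_le_mul_right _ hcard

/-- **Minimal sections have order exactly `q`.** -/
theorem exists_section {Q H X C : Subgroup Γ} (hQ : IsPGroup 2 Q) (hXC : X ≤ C) (hCQ : C ≤ Q)
    (hXn : ∀ u ∈ Q, ∀ x ∈ X, u * x * u⁻¹ ∈ X) (hCn : ∀ u ∈ Q, ∀ x ∈ C, u * x * u⁻¹ ∈ C)
    (hQinv : IsInv H Q) (hX : IsInv H X) (hC : IsInv H C) (hne : X ≠ C) (hF : IsFree H Q)
    (hcomm : ∀ a ∈ H, ∀ b ∈ H, a * b = b * a) {m : ℕ} (hm : 1 ≤ m)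
    (hcard : Nat.card H + 1 = 2 ^ m) :
    ∃ T, T ≤ C ∧ X ≠ T ∧ IsSect Q H X T ∧ Nat.card T = 2 ^ m * Nat.card X := by
  obtain ⟨T, hTC, hXT, hS, hmin⟩ := exists_minimal_section hQ hXC hCQ hXn hCn hQinv hX hC hne
  refine ⟨T, hTC, hXT, hS, le_antisymm ?_ ?_⟩
  · apply section_card_le hS hX hmin hXT hcomm hm
    intro h hh
    have h1 : Nat.card H = 2 ^ m - 1 := by omega
    rw [← h1]
    exact orderOf_dvd_iff_pow_eq_one.1 (Subgroup.orderOf_dvd_natCard H hh)
  · obtain ⟨x, hxT, hxX⟩ : ∃ x ∈ T, x ∉ X := by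
      by_contra hcon
      push Not at hcon
      exact hXT (le_antisymm hS.le hcon)
    rw [← hcard]
    exact card_le hF (hXC.trans hCQ) hX hXn hS.le hS.leQ hS.inv hxT hxX

/-- **The index of an invariant normal subgroup is `q` or at least `q²`.** -/
theorem index_dichotomy {Q H X : Subgroup Γ} (hQ : IsPGroup 2 Q) (hXQ : X ≤ Q)
    (hXn : ∀ u ∈ Q, ∀ x ∈ X, u * x * u⁻¹ ∈ X) (hQinv : IsInv H Q) (hX : IsInv H X) (hne : X ≠ Q)
    (hF : IsFree H Q) (hcomm : ∀ a ∈ H, ∀ b ∈ H, a * b = b * a) {m : ℕ} (hm : 1 ≤ m)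
    (hcard : Nat.card H + 1 = 2 ^ m) :
    Nat.card Q = 2 ^ m * Nat.card X ∨ 2 ^ m * 2 ^ m * Nat.card X ≤ Nat.card Q := by
  have hQn : ∀ u ∈ Q, ∀ x ∈ Q, u * x * u⁻¹ ∈ Q := fun u hu x hx =>
    Q.mul_mem (Q.mul_mem hu hx) (Q.inv_mem hu)
  obtain ⟨T, hTQ, hXT, hS, hT⟩ := exists_section hQ hXQ le_rfl hXn hQn hQinv hX hQinv hne hF hcomm hm hcard
  by_cases hTe : T = Q
  · left
    rw [← hTe, hT]
  · right
    obtain ⟨T₂, hT₂Q, -, -, hT₂⟩ := exists_section hQ hTQ le_rfl
      (fun u hu x hx => hS.normal hu hx) hQn hQinv hS.inv hQinv hTe hF hcomm hm hcard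
    have h1 : Nat.card T₂ ≤ Nat.card Q := Subgroup.card_le_of_le hT₂Q
    rw [hT₂, hT] at h1
    calc 2 ^ m * 2 ^ m * Nat.card X = 2 ^ m * (2 ^ m * Nat.card X) := by ring
      _ ≤ _ := h1

end Section

end Cfsg.Agent.Lib.Suz.Module
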