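import Cfsg.Agent.Lib.Suz.Expand

/-!
# A nonvanishing lemma for equivariant biadditive maps

`L` is a field with `2 ^ m` elements, `V` is a group with operators, `A ≤ V` is such that the
operators act irreducibly and fixed-point-freely on `V / A`; `P : V × L → L` is biadditive, vanishes
on `A × L` and `P (t x, λ y) = λ P (x, y)`.  Either `P = 0`, or `P (x, y) ≠ 0` for `x ∉ A, y ≠ 0`.
-/

set_option autoImplicit false
set_option linter.style.haveILetI false
set_option linter.unusedSectionVars false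

namespace Cfsg.Agent.Lib.Suz.Nonvanish

open Cfsg.Agent.Lib.Suz.Expand
open scoped BigOperators

variable {L : Type*} [Field L] [Fintype L]

/-- The arithmetic of the exponents. -/
theorem exp_arith {m i' k K : ℕ} (hi' : i' < m) (hk : k < m) (hK : K < m) (hi'0 : 0 < i')
    (h : (2 ^ k + 2 ^ i') ≡ (1 + 2 ^ K) [MOD 2 ^ m - 1]) : k = 0 ∧ i' = K := by
  obtain ⟨t, rfl⟩ : ∃ t, m = t + 1 := ⟨m - 1, by omega⟩
  have h1 : 2 ^ k ≤ 2 ^ t := Nat.pow_le_pow_right (by norm_num) (by omega)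
  have h2 : 2 ^ i' ≤ 2 ^ t := Nat.pow_le_pow_right (by norm_num) (by omega)
  have h3 : 2 ^ K ≤ 2 ^ t := Nat.pow_le_pow_right (by norm_num) (by omega)
  have h4 : 2 ≤ 2 ^ i' := by
    calc 2 = 2 ^ 1 := by norm_num
      _ ≤ 2 ^ i' := Nat.pow_le_pow_right (by norm_num) hi'0
  have h5 : 1 ≤ 2 ^ k := Nat.one_le_two_pow
  have h6 : 1 ≤ 2 ^ K := Nat.one_le_two_pow
  have h7 : 2 ^ (t + 1) = 2 * 2 ^ t := by rw [pow_succ, mul_comm]
  have h8 := (Nat.modEq_iff_dvd.1 h)
  have h9 : ((1 + 2 ^ K : ℕ) : ℤ) - ((2 ^ k + 2 ^ i' : ℕ) : ℤ) = 0 := by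
    apply Int.eq_zero_of_abs_lt_dvd h8
    rw [abs_lt]
    have h10 : (2 : ℕ) ≤ 2 ^ t := by
      by_contra hlt
      have : 2 ^ t = 1 := by omega
      omega
    have h11 : ((2 ^ (t + 1) - 1 : ℕ) : ℤ) = 2 * ((2 ^ t : ℕ) : ℤ) - 1 := by
      rw [h7]
      have : 1 ≤ 2 * 2 ^ t := by omega
      push_cast [Nat.cast_sub this]
      ring
    rw [h11]
    push_cast
    constructor <;> linarith
  have h10 : 1 + 2 ^ K = 2 ^ k + 2 ^ i' := by
    have : ((1 + 2 ^ K : ℕ) : ℤ) = ((2 ^ k + 2 ^ i' : ℕ) : ℤ) := by linarith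
    exact_mod_cast this
  have hKpos : 0 < K := by
    rcases Nat.eq_zero_or_pos K with h0 | h0
    · rw [h0, pow_zero] at h10
      omega
    · exact h0
  have hev1 : Even (2 ^ K) := (Nat.even_pow.2 ⟨even_two, by omega⟩)
  have hev2 : Even (2 ^ i') := (Nat.even_pow.2 ⟨even_two, by omega⟩)
  have hk0 : k = 0 := by
    by_contra hne
    have hev3 : Even (2 ^ k) := (Nat.even_pow.2 ⟨even_two, hne⟩)
    have h11 : Even (2 ^ k + 2 ^ i') := hev3.add hev2
    rw [← h10] at h11
    have h12 : Odd (1 + 2 ^ K) := by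
      rw [add_comm]
      exact hev1.add_one
    exact (Nat.not_even_iff_odd.2 h12) h11
  refine ⟨hk0, ?_⟩
  rw [hk0, pow_zero] at h10
  have h11 : 2 ^ K = 2 ^ i' := by omega
  exact (Nat.pow_right_injective (le_refl 2) h11).symm

theorem pow_two_period {m : ℕ} (hcard : Fintype.card L = 2 ^ m) (x : L) (n : ℕ) :
    x ^ 2 ^ n = x ^ 2 ^ (n % m) := by
  have hfrob : ∀ z : L, z ^ 2 ^ m = z := by
    intro z
    rw [← hcard]
    exact FiniteField.pow_card z
  have hper : ∀ (t n : ℕ), x ^ 2 ^ (n + m * t) = x ^ 2 ^ n := by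
    intro t n
    induction t with
    | zero => simp
    | succ t ih =>
      rw [mul_add, mul_one, ← add_assoc, pow_add, pow_mul, hfrob, ih]
  have := hper (n / m) (n % m)
  rwa [Nat.mod_add_div] at this

section Main

variable {m : ℕ} (hcard : Fintype.card L = 2 ^ m) (hm : 2 ≤ m)
  {V T : Type*} [Group V] (act : T → V → V) (lam : T → L)
  (hlam0 : ∀ t, lam t ≠ 0) (hlams : ∀ l, l ≠ 0 → ∃ t, lam t = l)
  (P : V → L → L)
  (hP1 : ∀ x x' y, P (x * x') y = P x y + P x' y)
  (hP2 : ∀ x y y', P x (y + y') = P x y + P x y')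
  (hPeq : ∀ t x y, P (act t x) (lam t * y) = lam t * P x y)
  (A : Subgroup V) (hA : ∀ a ∈ A, ∀ y, P a y = 0)
  (hirr : ∀ V' : Subgroup V, A ≤ V' → (∀ t, ∀ x ∈ V', act t x ∈ V') → V' = A ∨ V' = ⊤)
  (hfree : ∀ t, lam t ≠ 1 → ∀ x, act t x * x⁻¹ ∈ A → x ∈ A)

include hcard hm hlam0 hlams hP1 hP2 hPeq hA hirr hfree

theorem nonvanishing_aux : (∀ x y, P x y = 0) ∨ (∀ x, x ∉ A → ∀ y, y ≠ 0 → P x y ≠ 0) := by
  classical
  have hm0 : 0 < m := by omega
  choose c hc using fun x => exists_coeff hcard hm0 (P x) (hP2 x)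
  have cadd : ∀ x x', c (x * x') = c x + c x' := by
    intro x x'
    apply coeff_unique hcard
    intro y
    rw [← hc, hP1, hc x, hc x']
    simp only [Pi.add_apply, add_mul, Finset.sum_add_distrib]
  have czero : ∀ a ∈ A, c a = 0 := by
    intro a ha
    apply coeff_unique hcard
    intro y
    rw [← hc, hA a ha]
    simp
  have cone : c 1 = 0 := czero 1 A.one_mem
  have cinv : ∀ x, c x⁻¹ = - c x := by
    intro x
    have := cadd x⁻¹ x
    rw [inv_mul_cancel, cone] at this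
    exact (neg_eq_of_add_eq_zero_left this.symm).symm
  have ceq : ∀ t x (i : Fin m), c (act t x) i * lam t ^ 2 ^ (i : ℕ) = lam t * c x i := by
    intro t x
    have : (fun i : Fin m => c (act t x) i * lam t ^ 2 ^ (i : ℕ)) = fun i => lam t * c x i := by
      apply coeff_unique hcard
      intro y
      have h1 := hc (act t x) (lam t * y)
      rw [hPeq, hc x y, Finset.mul_sum] at h1
      calc ∑ i, c (act t x) i * lam t ^ 2 ^ (i : ℕ) * y ^ 2 ^ (i : ℕ)
          = ∑ i, c (act t x) i * (lam t * y) ^ 2 ^ (i : ℕ) := by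
            refine Finset.sum_congr rfl fun i _ => ?_
            rw [mul_pow, mul_assoc]
        _ = ∑ i, lam t * (c x i * y ^ 2 ^ (i : ℕ)) := h1.symm
        _ = ∑ i, lam t * c x i * y ^ 2 ^ (i : ℕ) :=
            Finset.sum_congr rfl fun i _ => (mul_assoc _ _ _).symm
    exact fun i => congrFun this i
  -- kernels
  let ker (i : Fin m) : Subgroup V :=
    { carrier := {x | c x i = 0}
      mul_mem' := by
        intro a b ha hb
        change c (a * b) i = 0
        rw [cadd, Pi.add_apply, show c a i = 0 from ha, show c b i = 0 from hb, add_zero]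
      one_mem' := by
        change c 1 i = 0
        rw [cone]
        rfl
      inv_mem' := by
        intro a ha
        change c a⁻¹ i = 0
        rw [cinv, Pi.neg_apply, show c a i = 0 from ha, neg_zero] }
  have hker : ∀ (i : Fin m), (∀ x, c x i = 0) ∨ (∀ x, c x i = 0 → x ∈ A) := by
    intro i
    have hle : A ≤ ker i := by
      intro a ha
      change c a i = 0
      rw [czero a ha]
      rfl
    have hinv : ∀ t, ∀ x ∈ ker i, act t x ∈ ker i := by
      intro t x hx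
      have h1 := ceq t x i
      rw [show c x i = 0 from hx, mul_zero] at h1
      exact (mul_eq_zero.1 h1).resolve_right (pow_ne_zero _ (hlam0 t))
    rcases hirr (ker i) hle hinv with h | h
    · right
      intro x hx
      have : x ∈ ker i := hx
      rwa [h] at this
    · left
      intro x
      have : x ∈ ker i := by rw [h]; trivial
      exact this
  have hsub : ∀ x x' (i : Fin m), c (x * x'⁻¹) i = c x i - c x' i := by
    intro x x' i
    rw [cadd, cinv, Pi.add_apply, Pi.neg_apply, sub_eq_add_neg]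
  -- an element different from `0, 1`
  obtain ⟨l₀, hl₀0, hl₀1⟩ : ∃ l : L, l ≠ 0 ∧ l ≠ 1 := by
    by_contra hno
    push Not at hno
    have h1 : (Finset.univ : Finset L) ⊆ {0, 1} := by
      intro l _
      by_cases hl : l = 0
      · simp [hl]
      · simp [hno l hl]
    have h2 := Finset.card_le_card h1
    have h3 : Finset.card ({0, 1} : Finset L) ≤ 2 := Finset.card_le_two
    rw [Finset.card_univ, hcard] at h2
    have h4 : 2 ^ 2 ≤ 2 ^ m := Nat.pow_le_pow_right (by norm_num) hm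
    omega
  -- the zeroth coefficient vanishes
  have hc0 : ∀ x, c x ⟨0, hm0⟩ = 0 := by
    rcases hker ⟨0, hm0⟩ with h | h
    · exact h
    intro x
    by_contra hne
    obtain ⟨t, ht⟩ := hlams l₀ hl₀0
    have h1 := ceq t x ⟨0, hm0⟩
    simp only [pow_zero, pow_one] at h1
    rw [mul_comm] at h1
    have h2 := mul_left_cancel₀ (hlam0 t) h1
    have h3 : act t x * x⁻¹ ∈ A := h _ (by rw [hsub, h2, sub_self])
    have h4 : x ∈ A := hfree t (by rw [ht]; exact hl₀1) x h3
    apply hne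
    rw [czero x h4]
    rfl
  by_cases hall : ∀ i x, c x i = 0
  · left
    intro x y
    rw [hc]
    exact Finset.sum_eq_zero fun i _ => by rw [hall i x, zero_mul]
  right
  push Not at hall
  obtain ⟨i₀, x₀, hx₀⟩ := hall
  have hker₀ : ∀ x, c x i₀ = 0 → x ∈ A := by
    rcases hker i₀ with h | h
    · exact absurd (h x₀) hx₀
    · exact h
  have hx₀A : x₀ ∉ A := fun h => hx₀ (by rw [czero x₀ h]; rfl)
  -- surjectivity of the coefficient
  have hsurj : ∀ z, ∃ x, c x i₀ = z := by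
    intro z
    by_cases hz : z = 0
    · exact ⟨1, by rw [hz, cone]; rfl⟩
    let μ : Lˣ →* Lˣ :=
      { toFun := fun u => u * (u ^ 2 ^ (i₀ : ℕ))⁻¹
        map_one' := by simp
        map_mul' := by
          intro u v
          simp only [mul_pow, mul_inv]
          exact mul_mul_mul_comm _ _ _ _ }
    have hμinj : Function.Injective μ := by
      rw [injective_iff_map_eq_one]
      intro u hu
      by_contra hu1
      have hu' : (u : L) ≠ 1 := fun h => hu1 (Units.ext h)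
      obtain ⟨t, ht⟩ := hlams u u.ne_zero
      have h1 := ceq t x₀ i₀
      have h2 : u ^ 2 ^ (i₀ : ℕ) = u := by
        have : u * (u ^ 2 ^ (i₀ : ℕ))⁻¹ = 1 := hu
        exact (mul_inv_eq_one.1 this).symm
      have h3 : (u : L) ^ 2 ^ (i₀ : ℕ) = u := by
        have := congrArg Units.val h2
        simpa using this
      rw [ht, h3, mul_comm] at h1
      have h4 := mul_left_cancel₀ u.ne_zero h1
      have h5 : act t x₀ * x₀⁻¹ ∈ A := hker₀ _ (by rw [hsub, h4, sub_self])
      exact hx₀A (hfree t (by rw [ht]; exact hu') x₀ h5)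
    have hμsurj : Function.Surjective μ := Finite.injective_iff_surjective.1 hμinj
    obtain ⟨u, hu⟩ := hμsurj (Units.mk0 (z * (c x₀ i₀)⁻¹) (mul_ne_zero hz (inv_ne_zero hx₀)))
    obtain ⟨t, ht⟩ := hlams u u.ne_zero
    refine ⟨act t x₀, ?_⟩
    have h1 := ceq t x₀ i₀
    rw [ht] at h1
    have h2 : (u : L) * ((u : L) ^ 2 ^ (i₀ : ℕ))⁻¹ = z * (c x₀ i₀)⁻¹ := by
      have := congrArg Units.val hu
      simpa [μ] using this
    have h3 : (u : L) ^ 2 ^ (i₀ : ℕ) ≠ 0 := pow_ne_zero _ u.ne_zero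
    have h5 : c (act t x₀) i₀ = (u : L) * c x₀ i₀ * ((u : L) ^ 2 ^ (i₀ : ℕ))⁻¹ := by
      rw [eq_mul_inv_iff_mul_eq₀ h3]
      exact h1
    rw [h5]
    calc (u : L) * c x₀ i₀ * ((u : L) ^ 2 ^ (i₀ : ℕ))⁻¹
        = ((u : L) * ((u : L) ^ 2 ^ (i₀ : ℕ))⁻¹) * c x₀ i₀ := by ring
      _ = z * (c x₀ i₀)⁻¹ * c x₀ i₀ := by rw [h2]
      _ = z := inv_mul_cancel_right₀ hx₀ z
  -- uniqueness of the non-zero coefficient
  have huniq : ∀ i', (∃ x, c x i' ≠ 0) → i' = i₀ := by
    rintro i' ⟨x₁, hx₁⟩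
    by_contra hne
    have hi'0 : 0 < (i' : ℕ) := by
      rcases Nat.eq_zero_or_pos (i' : ℕ) with h | h
      · exfalso
        apply hx₁
        have : i' = ⟨0, hm0⟩ := Fin.ext h
        rw [this]
        exact hc0 x₁
      · exact h
    have hwell : ∀ x x', c x i₀ = c x' i₀ → c x i' = c x' i' := by
      intro x x' h
      have h1 : x * x'⁻¹ ∈ A := hker₀ _ (by rw [hsub, h, sub_self])
      have h2 := hsub x x' i'
      rw [czero _ h1] at h2
      exact (sub_eq_zero.1 h2.symm)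
    choose σ hσ using hsurj
    let f : L → L := fun z => c (σ z) i'
    have hf : ∀ z z', f (z + z') = f z + f z' := by
      intro z z'
      have h1 : c (σ z * σ z') i' = c (σ z) i' + c (σ z') i' := by
        rw [cadd, Pi.add_apply]
      change c (σ (z + z')) i' = c (σ z) i' + c (σ z') i'
      rw [← h1]
      apply hwell
      rw [hσ, cadd, Pi.add_apply, hσ, hσ]
    obtain ⟨d, hd⟩ := exists_coeff hcard hm0 f hf
    have hrel : ∀ (u : Lˣ) (z : L), f ((u : L) * ((u : L) ^ 2 ^ (i₀ : ℕ))⁻¹ * z) * (u : L) ^ 2 ^ (i' : ℕ)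
        = u * f z := by
      intro u z
      obtain ⟨t, ht⟩ := hlams u u.ne_zero
      have h1 := ceq t (σ z) i₀
      have h2 := ceq t (σ z) i'
      rw [ht] at h1 h2
      rw [hσ] at h1
      have h3 : (u : L) ^ 2 ^ (i₀ : ℕ) ≠ 0 := pow_ne_zero _ u.ne_zero
      have h4 : c (act t (σ z)) i₀ = (u : L) * ((u : L) ^ 2 ^ (i₀ : ℕ))⁻¹ * z := by
        have : c (act t (σ z)) i₀ = (u : L) * z * ((u : L) ^ 2 ^ (i₀ : ℕ))⁻¹ := by
          rw [eq_mul_inv_iff_mul_eq₀ h3]
          exact h1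
        rw [this]
        ring
      have h5 : f ((u : L) * ((u : L) ^ 2 ^ (i₀ : ℕ))⁻¹ * z) = c (act t (σ z)) i' := by
        apply hwell
        rw [hσ, h4]
      rw [h5, h2]
    have hcoef : ∀ (u : Lˣ) (k : Fin m),
        d k * ((u : L) * ((u : L) ^ 2 ^ (i₀ : ℕ))⁻¹) ^ 2 ^ (k : ℕ) * (u : L) ^ 2 ^ (i' : ℕ)
          = u * d k := by
      intro u
      have : (fun k : Fin m => d k * ((u : L) * ((u : L) ^ 2 ^ (i₀ : ℕ))⁻¹) ^ 2 ^ (k : ℕ)
          * (u : L) ^ 2 ^ (i' : ℕ)) = fun k => (u : L) * d k := by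
        apply coeff_unique hcard
        intro z
        have h1 := hrel u z
        rw [hd, hd z, Finset.sum_mul, Finset.mul_sum] at h1
        calc _ = _ := Finset.sum_congr rfl fun k _ => by rw [mul_pow]; ring
          _ = _ := h1
          _ = _ := Finset.sum_congr rfl fun k _ => by ring
      exact fun k => congrFun this k
    obtain ⟨k, hk⟩ : ∃ k, d k ≠ 0 := by
      by_contra hno
      push Not at hno
      have h1 : f (c x₁ i₀) = c x₁ i' := by
        apply hwell
        rw [hσ]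
      apply hx₁
      rw [← h1, hd]
      exact Finset.sum_eq_zero fun k _ => by rw [hno k, zero_mul]
    obtain ⟨g, hg⟩ := exists_generator hcard
    have h1 := hcoef g k
    set a : L := (g : L) with ha
    have ha0 : a ≠ 0 := g.ne_zero
    have h2 : (a * (a ^ 2 ^ (i₀ : ℕ))⁻¹) ^ 2 ^ (k : ℕ) * a ^ 2 ^ (i' : ℕ) = a := by
      have : d k * ((a * (a ^ 2 ^ (i₀ : ℕ))⁻¹) ^ 2 ^ (k : ℕ) * a ^ 2 ^ (i' : ℕ)) = d k * a := by
        rw [← mul_assoc, h1, mul_comm]
      exact mul_left_cancel₀ hk this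
    have h3 : a ^ 2 ^ (k : ℕ) * a ^ 2 ^ (i' : ℕ) = a * a ^ 2 ^ ((i₀ : ℕ) + (k : ℕ)) := by
      have h4 : a ^ 2 ^ ((i₀ : ℕ) + (k : ℕ)) ≠ 0 := pow_ne_zero _ ha0
      have h5 : (a * (a ^ 2 ^ (i₀ : ℕ))⁻¹) ^ 2 ^ (k : ℕ)
          = a ^ 2 ^ (k : ℕ) * (a ^ 2 ^ ((i₀ : ℕ) + (k : ℕ)))⁻¹ := by
        rw [mul_pow, inv_pow, ← pow_mul, pow_add]
      rw [h5] at h2
      field_simp at h2
      linear_combination h2
    have h4 := pow_two_period hcard a ((i₀ : ℕ) + (k : ℕ))
    rw [h4] at h3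
    have hK : ((i₀ : ℕ) + (k : ℕ)) % m < m := Nat.mod_lt _ hm0
    have h5 : g ^ (2 ^ (k : ℕ) + 2 ^ (i' : ℕ)) = g ^ (1 + 2 ^ (((i₀ : ℕ) + (k : ℕ)) % m)) := by
      apply Units.ext
      push_cast
      rw [pow_add, pow_add, pow_one]
      exact h3
    rw [pow_eq_pow_iff_modEq, hg] at h5
    obtain ⟨hk0, hi'⟩ := exp_arith i'.2 k.2 hK hi'0 h5
    rw [hk0, add_zero, Nat.mod_eq_of_lt i₀.2] at hi'
    exact hne (Fin.ext hi')
  intro x hx y hy
  rw [hc, Finset.sum_eq_single i₀]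
  · refine mul_ne_zero (fun h => hx (hker₀ x h)) (pow_ne_zero _ hy)
  · intro i' _ hi'
    have : c x i' = 0 := by
      by_contra hne
      exact hi' (huniq i' ⟨x, hne⟩)
    rw [this, zero_mul]
  · intro h
    exact absurd (Finset.mem_univ _) h

end Main

/-- The general form: the second variable lives in a group mapping onto `L`. -/
theorem nonvanishing {m : ℕ} (hcard : Fintype.card L = 2 ^ m) (hm : 2 ≤ m)
    {V W T : Type*} [Group V] [Group W] (act : T → V → V) (actW : T → W → W) (lam : T → L)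
    (hlam0 : ∀ t, lam t ≠ 0) (hlams : ∀ l, l ≠ 0 → ∃ t, lam t = l)
    (κ : W → L) (hκ : ∀ a b, κ (a * b) = κ a + κ b) (hκs : Function.Surjective κ)
    (hκeq : ∀ t a, κ (actW t a) = lam t * κ a)
    (P : V → W → L)
    (hP1 : ∀ x x' y, P (x * x') y = P x y + P x' y)
    (hP2 : ∀ x y y', P x (y * y') = P x y + P x y')
    (hPκ : ∀ x a b, κ a = κ b → P x a = P x b)
    (hPeq : ∀ t x y, P (act t x) (actW t y) = lam t * P x y)
    (A : Subgroup V) (hA : ∀ a ∈ A, ∀ y, P a y = 0)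
    (hirr : ∀ V' : Subgroup V, A ≤ V' → (∀ t, ∀ x ∈ V', act t x ∈ V') → V' = A ∨ V' = ⊤)
    (hfree : ∀ t, lam t ≠ 1 → ∀ x, act t x * x⁻¹ ∈ A → x ∈ A) :
    (∀ x y, P x y = 0) ∨ (∀ x, x ∉ A → ∀ y, κ y ≠ 0 → P x y ≠ 0) := by
  classical
  choose σ hσ using hκs
  have hP' := nonvanishing_aux hcard hm act lam hlam0 hlams (fun x y => P x (σ y))
    (fun x x' y => hP1 x x' _)
    (fun x y y' => by
      change P x (σ (y + y')) = P x (σ y) + P x (σ y')
      rw [← hP2]
      apply hPκ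
      rw [hκ, hσ, hσ, hσ])
    (fun t x y => by
      change P (act t x) (σ (lam t * y)) = lam t * P x (σ y)
      rw [← hPeq]
      apply hPκ
      rw [hσ, hκeq, hσ])
    A (fun a ha y => hA a ha _) hirr hfree
  rcases hP' with h | h
  · left
    intro x y
    have h1 := h x (κ y)
    have h2 : P x (σ (κ y)) = P x y := hPκ _ _ _ (hσ _)
    change P x (σ (κ y)) = 0 at h1
    rwa [h2] at h1
  · right
    intro x hx y hy
    have h1 := h x hx (κ y) hy
    have h2 : P x (σ (κ y)) = P x y := hPκ _ _ _ (hσ _)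
    change P x (σ (κ y)) ≠ 0 at h1
    rwa [h2] at h1

end Cfsg.Agent.Lib.Suz.Nonvanish
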