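import Cfsg.Agent.Lib.Suz.Sect
import Cfsg.Agent.Lib.Suz.Nonvanish

/-!
# Suzuki 2-groups with Frattini quotient of order `q` have order `q²`

`Q` is a non-abelian 2-group with a group of operators `H`, fixed-point-free on `Q`, regular on the
involutions of `Q`, which are central and form together with `1` the group `Z` of order `q`;
`Z` is identified with a field `L` so that `H` acts by multiplications.
-/

set_option autoImplicit false
set_option linter.style.haveILetI false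
set_option linter.unusedSectionVars false

namespace Cfsg.Agent.Lib.Suz.PartB

open Cfsg.Agent.Lib.Suz.Sect Cfsg.Agent.Lib.Suz.Nonvanish

variable {Γ : Type*} [Group Γ]

/-- The hypotheses. -/
structure PB (Q H Z : Subgroup Γ) {L : Type*} [Field L] (lam ζ : Γ → L) : Prop where
  Q2 : IsPGroup 2 Q
  nrm : IsInv H Q
  fpf : IsFree H Q
  Zle : Z ≤ Q
  Zdef : ∀ u ∈ Q, u * u = 1 → u ∈ Z
  Zinv : ∀ u ∈ Z, u * u = 1
  Zcent : ∀ z ∈ Z, ∀ u ∈ Q, z * u = u * z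
  ζadd : ∀ x ∈ Z, ∀ y ∈ Z, ζ (x * y) = ζ x + ζ y
  ζinj : ∀ x ∈ Z, ζ x = 0 → x = 1
  ζsurj : ∀ l, ∃ x ∈ Z, ζ x = l
  lam0 : ∀ h ∈ H, lam h ≠ 0
  lams : ∀ l, l ≠ 0 → ∃ h ∈ H, lam h = l
  lam1 : ∀ h ∈ H, lam h ≠ 1 → h ≠ 1
  ζeq : ∀ h ∈ H, ∀ z ∈ Z, ζ (h * z * h⁻¹) = lam h * ζ z

section Basic

variable {Q H Z : Subgroup Γ} {L : Type*} [Field L] {lam ζ : Γ → L} (pb : PB Q H Z lam ζ)
include pb

theorem ζone : ζ 1 = 0 := by
  have := pb.ζadd 1 Z.one_mem 1 Z.one_mem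
  rw [mul_one] at this
  exact left_eq_add.1 this

theorem ζinv {x : Γ} (hx : x ∈ Z) : ζ x⁻¹ = - ζ x := by
  have := pb.ζadd x hx x⁻¹ (Z.inv_mem hx)
  rw [mul_inv_cancel, ζone pb] at this
  exact (neg_eq_of_add_eq_zero_right this.symm).symm

theorem ζeq_iff {x y : Γ} (hx : x ∈ Z) (hy : y ∈ Z) (h : ζ x = ζ y) : x = y := by
  have h1 := pb.ζadd x hx y⁻¹ (Z.inv_mem hy)
  rw [ζinv pb hy, h, add_neg_cancel] at h1
  have h2 := pb.ζinj _ (Z.mul_mem hx (Z.inv_mem hy)) h1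
  exact mul_inv_eq_one.1 h2

theorem Zinv' : IsInv H Z := by
  intro h hh z hz
  apply pb.Zdef _ (pb.nrm h hh z (pb.Zle hz))
  have h1 : h * z * h⁻¹ * (h * z * h⁻¹) = h * (z * z) * h⁻¹ := by group
  rw [h1, pb.Zinv z hz]
  group

theorem Znormal : ∀ u ∈ Q, ∀ z ∈ Z, u * z * u⁻¹ ∈ Z := by
  intro u hu z hz
  rw [← pb.Zcent z hz u hu]
  simpa using hz

/-- `H` is transitive on the involutions. -/
theorem exists_conj {z₀ z : Γ} (hz₀ : z₀ ∈ Z) (hz : z ∈ Z) (hz₀1 : z₀ ≠ 1) (hz1 : z ≠ 1) :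
    ∃ h ∈ H, h * z₀ * h⁻¹ = z := by
  have h0 : ζ z₀ ≠ 0 := fun h => hz₀1 (pb.ζinj _ hz₀ h)
  have h1 : ζ z ≠ 0 := fun h => hz1 (pb.ζinj _ hz h)
  obtain ⟨h, hh, hlam⟩ := pb.lams (ζ z * (ζ z₀)⁻¹) (mul_ne_zero h1 (inv_ne_zero h0))
  refine ⟨h, hh, ζeq_iff pb (Zinv' pb h hh z₀ hz₀) hz ?_⟩
  rw [pb.ζeq h hh z₀ hz₀, hlam]
  field_simp

theorem pow_mem_Z {a : Γ} (ha : a ∈ Q) {l : ℕ} (h : a ^ 2 ^ (l + 1) = 1) : a ^ 2 ^ l ∈ Z := by
  apply pb.Zdef _ (Q.pow_mem ha _)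
  rw [← pow_add, ← two_mul, ← pow_succ']
  exact h

theorem cm_Z {z u : Γ} (hz : z ∈ Z) (hu : u ∈ Q) : cm u z = 1 := by
  have h1 := pb.Zcent z hz u hu
  simp only [cm]
  rw [h1.symm]
  group

end Basic

section Abelian

variable {Q H Z : Subgroup Γ} {L : Type*} [Field L] {lam ζ : Γ → L} (pb : PB Q H Z lam ζ)
  {A : Subgroup Γ} (hAb : ∀ a ∈ A, ∀ b ∈ A, a * b = b * a) (hZA : Z ≤ A) (hAQ : A ≤ Q)
  (hAinv : IsInv H A)

include pb hAQ hAinv in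
/-- The power maps are onto. -/
theorem pw_surj {a₀ : Γ} (ha₀ : a₀ ∈ A) {l : ℕ} (h1 : a₀ ^ 2 ^ (l + 1) = 1) (h2 : a₀ ^ 2 ^ l ≠ 1)
    {z : Γ} (hz : z ∈ Z) : ∃ a ∈ A, a ^ 2 ^ (l + 1) = 1 ∧ a ^ 2 ^ l = z := by
  by_cases hz1 : z = 1
  · exact ⟨1, A.one_mem, by simp, by simp [hz1]⟩
  obtain ⟨h, hh, hc⟩ := exists_conj pb (pow_mem_Z pb (hAQ ha₀) h1) hz h2 hz1
  refine ⟨h * a₀ * h⁻¹, hAinv h hh _ ha₀, ?_, ?_⟩
  · rw [conj_pow, h1]
    group
  · rw [conj_pow]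
    exact hc

omit [Group Γ] hAb in
theorem level_of {Γ : Type*} [Group Γ] {A : Subgroup Γ} {a₁ : Γ} (ha₁ : a₁ ∈ A) {J l : ℕ}
    (h1 : a₁ ^ 2 ^ (J + 1) = 1) (h2 : a₁ ^ 2 ^ J ≠ 1) (hl : l ≤ J) :
    ∃ a ∈ A, a ^ 2 ^ (l + 1) = 1 ∧ a ^ 2 ^ l ≠ 1 := by
  refine ⟨a₁ ^ 2 ^ (J - l), A.pow_mem ha₁ _, ?_, ?_⟩
  · rw [← pow_mul, ← pow_add]
    have : J - l + (l + 1) = J + 1 := by omega
    rwa [this]
  · rw [← pow_mul, ← pow_add]
    have : J - l + l = J := by omega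
    rwa [this]

include pb hAb hAQ hAinv in
/-- Elements of lower levels are squares. -/
theorem exists_sqrt {a₁ : Γ} (ha₁ : a₁ ∈ A) {J : ℕ} (h1 : a₁ ^ 2 ^ (J + 1) = 1) (h2 : a₁ ^ 2 ^ J ≠ 1)
    (l : ℕ) (hl : l ≤ J) (w : Γ) (hw : w ∈ A) (hwl : w ^ 2 ^ l = 1) :
    ∃ b ∈ A, b * b = w ∧ b ^ 2 ^ (l + 1) = 1 := by
  induction l generalizing w with
  | zero =>
    have hw1 : w = 1 := by simpa using hwl
    exact ⟨1, A.one_mem, by simp [hw1], by simp⟩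
  | succ l ih =>
    have hz : w ^ 2 ^ l ∈ Z := pow_mem_Z pb (hAQ hw) hwl
    obtain ⟨a₂, ha₂, h3, h4⟩ := level_of ha₁ h1 h2 hl
    obtain ⟨a, ha, h5, h6⟩ := pw_surj pb hAQ hAinv ha₂ h3 h4 hz
    have hcomm : Commute w (a * a)⁻¹ := by
      apply Commute.inv_right
      exact hAb _ hw _ (A.mul_mem ha ha)
    have haa : (a * a) ^ 2 ^ l = a ^ 2 ^ (l + 1) := by
      rw [← pow_two, ← pow_mul, pow_succ']
    have hw' : (w * (a * a)⁻¹) ^ 2 ^ l = 1 := by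
      rw [hcomm.mul_pow, inv_pow, haa, h6, mul_inv_cancel]
    obtain ⟨c, hc, hcc, hcl⟩ := ih (by omega) _ (A.mul_mem hw (A.inv_mem (A.mul_mem ha ha))) hw'
    refine ⟨c * a, A.mul_mem hc ha, ?_, ?_⟩
    · have h7 : c * a * (c * a) = (c * c) * (a * a) := by
        calc c * a * (c * a) = c * (a * c) * a := by group
          _ = c * (c * a) * a := by rw [hAb a ha c hc]
          _ = _ := by group
      rw [h7, hcc]
      group
    · have hca : Commute c a := hAb c hc a ha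
      rw [hca.mul_pow, h5]
      have h8 : c ^ 2 ^ (l + 1 + 1) = (c ^ 2 ^ (l + 1)) ^ 2 := by
        rw [← pow_mul, pow_succ 2 (l + 1)]
      rw [h8, hcl]
      simp

end Abelian

section Commutators

variable {Q H Z : Subgroup Γ} {L : Type*} [Field L] {lam ζ : Γ → L} (pb : PB Q H Z lam ζ)
  {A : Subgroup Γ} (hAb : ∀ a ∈ A, ∀ b ∈ A, a * b = b * a) (hAn : ∀ u ∈ Q, ∀ a ∈ A, u * a * u⁻¹ ∈ A)

include hAn in
theorem cm_mem {τ a : Γ} (hτ : τ ∈ Q) (ha : a ∈ A) : cm τ a ∈ A :=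
  A.mul_mem (hAn τ hτ a ha) (A.inv_mem ha)

include hAb hAn in
theorem cm_mul_right {τ a b : Γ} (hτ : τ ∈ Q) (ha : a ∈ A) (hb : b ∈ A) :
    cm τ (a * b) = cm τ a * cm τ b := by
  have h1 : τ * b * τ⁻¹ ∈ A := hAn τ hτ b hb
  have h2 : (τ * b * τ⁻¹) * b⁻¹ ∈ A := A.mul_mem h1 (A.inv_mem hb)
  have h3 : a⁻¹ * ((τ * b * τ⁻¹) * b⁻¹) = ((τ * b * τ⁻¹) * b⁻¹) * a⁻¹ :=
    hAb _ (A.inv_mem ha) _ h2
  simp only [cm]
  calc τ * (a * b) * τ⁻¹ * (a * b)⁻¹ = τ * a * τ⁻¹ * (((τ * b * τ⁻¹) * b⁻¹) * a⁻¹) := by group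
    _ = τ * a * τ⁻¹ * (a⁻¹ * ((τ * b * τ⁻¹) * b⁻¹)) := by rw [h3]
    _ = _ := by group

include hAb hAn in
theorem cm_pow_right {τ a : Γ} (hτ : τ ∈ Q) (ha : a ∈ A) (n : ℕ) : cm τ (a ^ n) = (cm τ a) ^ n := by
  induction n with
  | zero => simp [cm]
  | succ n ih =>
    rw [pow_succ, cm_mul_right hAb hAn hτ (A.pow_mem ha n) ha, ih, pow_succ]

include hAb hAn in
theorem cm_inv_right {τ a : Γ} (hτ : τ ∈ Q) (ha : a ∈ A) : cm τ a⁻¹ = (cm τ a)⁻¹ := by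
  have h1 := cm_mul_right hAb hAn hτ ha (A.inv_mem ha)
  have h2 : cm τ (a * a⁻¹) = 1 := by simp [cm]
  rw [h2] at h1
  exact (inv_eq_of_mul_eq_one_right h1.symm).symm

include pb hAb hAn in
theorem cm_level (hAQ : A ≤ Q) {τ a : Γ} (hτ : τ ∈ Q) (ha : a ∈ A) {l : ℕ}
    (h : a ^ 2 ^ (l + 1) = 1) : (cm τ a) ^ 2 ^ l = 1 := by
  rw [← cm_pow_right hAb hAn hτ ha]
  exact cm_Z pb (pow_mem_Z pb (hAQ ha) h) hτ

include pb in
theorem cm_mul_left {x x' w : Γ} (hx : x ∈ Q) (hc : cm x' w ∈ Z) :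
    cm (x * x') w = cm x' w * cm x w := by
  have h1 : x' * w * x'⁻¹ = cm x' w * w := by
    simp only [cm]; group
  have h2 : x * (cm x' w) = (cm x' w) * x := (pb.Zcent _ hc x hx).symm
  calc cm (x * x') w = x * (x' * w * x'⁻¹) * x⁻¹ * w⁻¹ := by simp only [cm]; group
    _ = x * (cm x' w * w) * x⁻¹ * w⁻¹ := by rw [h1]
    _ = (x * cm x' w) * w * x⁻¹ * w⁻¹ := by group
    _ = (cm x' w * x) * w * x⁻¹ * w⁻¹ := by rw [h2]
    _ = _ := by simp only [cm]; group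

include hAb hAn in
/-- The involutory relation. -/
theorem cm_cm {τ a : Γ} (hτ : τ ∈ Q) (hττ : τ * τ ∈ A) (ha : a ∈ A) :
    cm τ (cm τ a) = (cm τ a)⁻¹ * (cm τ a)⁻¹ := by
  set b := cm τ a with hb
  have hbA : b ∈ A := cm_mem hAn hτ ha
  have h1 : τ * a * τ⁻¹ = b * a := by
    rw [hb]; simp only [cm]; group
  have h2 : (τ * τ) * a * (τ * τ)⁻¹ = a := by
    have := hAb _ hττ a ha
    rw [this]
    group
  have h3 : τ * (b * a) * τ⁻¹ = a := by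
    rw [← h1]
    calc τ * (τ * a * τ⁻¹) * τ⁻¹ = (τ * τ) * a * (τ * τ)⁻¹ := by group
      _ = a := h2
  have h4 : τ * (b * a) * τ⁻¹ = cm τ b * b * (b * a) := by
    calc τ * (b * a) * τ⁻¹ = (τ * b * τ⁻¹) * (τ * a * τ⁻¹) := by group
      _ = _ := by rw [h1]; simp only [cm]; group
  rw [h4] at h3
  have h5 : cm τ b * b * (b * a) = (cm τ b * (b * b)) * a := by group
  rw [h5] at h3
  have h6 : cm τ b * (b * b) = 1 := mul_eq_right.1 h3
  have h7 : cm τ b = (b * b)⁻¹ := eq_inv_of_mul_eq_one_left h6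
  rw [h7]
  group

end Commutators

section NV

variable {Q H Z : Subgroup Γ} {L : Type*} [Field L] [Fintype L] {lam ζ : Γ → L}
  (pb : PB Q H Z lam ζ) {m : ℕ} (hcard : Fintype.card L = 2 ^ m) (hm : 2 ≤ m)

include pb hcard hm in
/-- The nonvanishing lemma for a minimal section. -/
theorem nv_section [Finite Γ] {A T W : Subgroup Γ} (hAQ : A ≤ Q) (hAinv : IsInv H A)
    (hS : IsSect Q H A T)
    (hirr : ∀ T' : Subgroup Γ, A ≤ T' → T' ≤ T → IsInv H T' → T' = A ∨ T' = T)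
    (hW : IsInv H W) (κ : Γ → L) (hκ : ∀ a ∈ W, ∀ b ∈ W, κ (a * b) = κ a + κ b)
    (hκs : ∀ l, ∃ w ∈ W, κ w = l) (hκeq : ∀ h ∈ H, ∀ w ∈ W, κ (h * w * h⁻¹) = lam h * κ w)
    (P : Γ → Γ → L) (hP1 : ∀ x ∈ T, ∀ x' ∈ T, ∀ y ∈ W, P (x * x') y = P x y + P x' y)
    (hP2 : ∀ x ∈ T, ∀ y ∈ W, ∀ y' ∈ W, P x (y * y') = P x y + P x y')
    (hPκ : ∀ x ∈ T, ∀ a ∈ W, ∀ b ∈ W, κ a = κ b → P x a = P x b)
    (hPeq : ∀ h ∈ H, ∀ x ∈ T, ∀ y ∈ W, P (h * x * h⁻¹) (h * y * h⁻¹) = lam h * P x y)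
    (hA : ∀ a ∈ A, ∀ y ∈ W, P a y = 0) :
    (∀ x ∈ T, ∀ y ∈ W, P x y = 0) ∨ (∀ x ∈ T, x ∉ A → ∀ y ∈ W, κ y ≠ 0 → P x y ≠ 0) := by
  classical
  let act : H → T → T := fun h x => ⟨(h : Γ) * x * (h : Γ)⁻¹, hS.inv h h.2 x x.2⟩
  let actW : H → W → W := fun h x => ⟨(h : Γ) * x * (h : Γ)⁻¹, hW h h.2 x x.2⟩
  let A' : Subgroup T := A.subgroupOf T
  have key := nonvanishing hcard hm act actW (fun h : H => lam h)
    (fun h => pb.lam0 h h.2)
    (fun l hl => by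
      obtain ⟨h, hh, hl'⟩ := pb.lams l hl
      exact ⟨⟨h, hh⟩, hl'⟩)
    (fun w : W => κ w)
    (fun a b => hκ a a.2 b b.2)
    (fun l => by
      obtain ⟨w, hw, hl⟩ := hκs l
      exact ⟨⟨w, hw⟩, hl⟩)
    (fun t a => hκeq t t.2 a a.2)
    (fun x y => P x y)
    (fun x x' y => hP1 x x.2 x' x'.2 y y.2)
    (fun x y y' => hP2 x x.2 y y.2 y' y'.2)
    (fun x a b hab => hPκ x x.2 a a.2 b b.2 hab)
    (fun t x y => hPeq t t.2 x x.2 y y.2)
    A'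
    (fun a ha y => hA a ha y y.2)
    (fun V' hV' hinv => by
      let T' : Subgroup Γ := V'.map T.subtype
      have h1 : A ≤ T' := by
        intro a ha
        have haT : a ∈ T := hS.le ha
        exact ⟨⟨a, haT⟩, hV' ha, rfl⟩
      have h2 : T' ≤ T := Subgroup.map_subtype_le _
      have h3 : IsInv H T' := by
        rintro h hh _ ⟨x, hx, rfl⟩
        exact ⟨act ⟨h, hh⟩ x, hinv ⟨h, hh⟩ x hx, rfl⟩
      rcases hirr T' h1 h2 h3 with h4 | h4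
      · left
        apply le_antisymm _ hV'
        intro x hx
        have : (x : Γ) ∈ T' := ⟨x, hx, rfl⟩
        rw [h4] at this
        exact this
      · right
        rw [eq_top_iff]
        intro x _
        have : (x : Γ) ∈ T' := by rw [h4]; exact x.2
        obtain ⟨y, hy, hyx⟩ := this
        have : y = x := Subtype.ext hyx
        rwa [← this])
    (fun t ht x hx => by
      have h1 : (act t x * x⁻¹ : T) ∈ A' := hx
      have h2 : cm (t : Γ) (x : Γ) ∈ A := h1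
      exact sec pb.fpf hAQ hAinv t.2 (pb.lam1 t t.2 ht) (hS.leQ x.2) h2)
  rcases key with h | h
  · left
    intro x hx y hy
    exact h ⟨x, hx⟩ ⟨y, hy⟩
  · right
    intro x hx hxA y hy hκy
    exact h ⟨x, hx⟩ hxA ⟨y, hy⟩ hκy

end NV

section Claim1

variable {Q H Z : Subgroup Γ} {L : Type*} [Field L] [Fintype L] {lam ζ : Γ → L}
  (pb : PB Q H Z lam ζ) {m : ℕ} (hcard : Fintype.card L = 2 ^ m) (hm : 2 ≤ m)

include pb in
theorem cm_mul_right_central {x y y' : Γ} (hy : y ∈ Q) (hc : cm x y' ∈ Z) :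
    cm x (y * y') = cm x y * cm x y' := by
  have h2 : y * (cm x y') = (cm x y') * y := (pb.Zcent _ hc y hy).symm
  calc cm x (y * y') = cm x y * (y * cm x y') * y⁻¹ := by simp only [cm]; group
    _ = cm x y * (cm x y' * y) * y⁻¹ := by rw [h2]
    _ = _ := by group

include pb hcard hm in
/-- A maximal abelian normal invariant subgroup containing an element of order `4` is
self-centralising. -/
theorem centralizer_eq [Finite Γ] {A : Subgroup Γ} (hAb : ∀ a ∈ A, ∀ b ∈ A, a * b = b * a) (hZA : Z ≤ A)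
    (hAQ : A ≤ Q) (hAinv : IsInv H A) (hAn : ∀ u ∈ Q, ∀ a ∈ A, u * a * u⁻¹ ∈ A)
    (hmax : ∀ A' : Subgroup Γ, A ≤ A' → A' ≤ Q → (∀ a ∈ A', ∀ b ∈ A', a * b = b * a) →
      (∀ u ∈ Q, ∀ a ∈ A', u * a * u⁻¹ ∈ A') → IsInv H A' → A' = A)
    {a₁ : Γ} {J : ℕ} (ha₁ : a₁ ∈ A) (h1 : a₁ ^ 2 ^ (J + 1) = 1) (h2 : a₁ ^ 2 ^ J ≠ 1) (hJ : 1 ≤ J)
    (hexp : ∀ a ∈ A, a ^ 2 ^ (J + 1) = 1)
    {x : Γ} (hx : x ∈ Q) (hxc : ∀ a ∈ A, x * a = a * x) : x ∈ A := by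
  classical
  by_contra hxA
  let C : Subgroup Γ := Q ⊓ Subgroup.centralizer (A : Set Γ)
  have hmemC : ∀ {c : Γ}, c ∈ C ↔ c ∈ Q ∧ ∀ a ∈ A, c * a = a * c := by
    intro c
    constructor
    · rintro ⟨h3, h4⟩
      exact ⟨h3, fun a ha => (Subgroup.mem_centralizer_iff.1 h4 a ha).symm⟩
    · rintro ⟨h3, h4⟩
      exact ⟨h3, Subgroup.mem_centralizer_iff.2 fun a ha => (h4 a ha).symm⟩
  have hAC : A ≤ C := fun a ha => hmemC.2 ⟨hAQ ha, fun b hb => hAb a ha b hb⟩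
  have hCQ : C ≤ Q := inf_le_left
  have hCn : ∀ u ∈ Q, ∀ c ∈ C, u * c * u⁻¹ ∈ C := by
    intro u hu c hc
    obtain ⟨hc1, hc2⟩ := hmemC.1 hc
    refine hmemC.2 ⟨Q.mul_mem (Q.mul_mem hu hc1) (Q.inv_mem hu), fun a ha => ?_⟩
    have h3 := hc2 _ (hAn _ (Q.inv_mem hu) a ha)
    simp only [inv_inv] at h3
    calc u * c * u⁻¹ * a = u * (c * (u⁻¹ * a * u)) * u⁻¹ := by group
      _ = u * ((u⁻¹ * a * u) * c) * u⁻¹ := by rw [h3]
      _ = _ := by group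
  have hCinv : IsInv H C := by
    intro u hu c hc
    obtain ⟨hc1, hc2⟩ := hmemC.1 hc
    refine hmemC.2 ⟨pb.nrm u hu c hc1, fun a ha => ?_⟩
    have h3 := hc2 _ (hAinv _ (H.inv_mem hu) a ha)
    simp only [inv_inv] at h3
    calc u * c * u⁻¹ * a = u * (c * (u⁻¹ * a * u)) * u⁻¹ := by group
      _ = u * ((u⁻¹ * a * u) * c) * u⁻¹ := by rw [h3]
      _ = _ := by group
  have hne : A ≠ C := by
    intro h
    apply hxA
    rw [h]
    exact hmemC.2 ⟨hx, hxc⟩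
  obtain ⟨T, hTC, hne', hS, hirr⟩ :=
    exists_minimal_section pb.Q2 hAC hCQ hAn hCn pb.nrm hAinv hCinv hne
  have htc : ∀ t ∈ T, ∀ a ∈ A, t * a = a * t := fun t ht => (hmemC.1 (hTC ht)).2
  obtain ⟨t₀, ht₀, ht₀A⟩ : ∃ t ∈ T, t ∉ A := by
    by_contra hno
    push Not at hno
    exact hne' (le_antisymm hS.le hno)
  have hZc : ∀ z ∈ Z, ∀ u ∈ Q, cm u z = 1 := fun z hz u hu => cm_Z pb hz hu
  -- commutators lie in `Z`
  have hcZ : ∀ t ∈ T, ∀ t' ∈ T, cm t t' ∈ Z := by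
    intro t ht t' ht'
    have hc : cm t t' ∈ A := hS.comm t ht t' (hS.leQ ht')
    apply pb.Zdef _ (hAQ hc)
    have e1 : t * t' * t⁻¹ = cm t t' * t' := by simp only [cm]; group
    have e2 : (t * t' * t⁻¹) * (t * t' * t⁻¹) = t' * t' := by
      have e3 : (t * t' * t⁻¹) * (t * t' * t⁻¹) = t * (t' * t') * t⁻¹ := by group
      rw [e3, htc t ht _ (hS.sq t' ht')]
      group
    rw [e1] at e2
    have e4 : cm t t' * t' * (cm t t' * t') = (cm t t' * cm t t') * (t' * t') := by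
      have e5 := htc t' ht' _ hc
      calc cm t t' * t' * (cm t t' * t') = cm t t' * (t' * cm t t') * t' := by group
        _ = cm t t' * (cm t t' * t') * t' := by rw [e5]
        _ = _ := by group
    rw [e4] at e2
    exact mul_eq_right.1 e2
  -- the map to `Z`
  let pw : Γ → Γ := fun t => (t * t) ^ 2 ^ J
  have hpwZ : ∀ t ∈ T, pw t ∈ Z := fun t ht =>
    pow_mem_Z pb (hAQ (hS.sq t ht)) (hexp _ (hS.sq t ht))
  have hpwmul : ∀ t ∈ T, ∀ t' ∈ T, pw (t * t') = pw t * pw t' := by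
    intro t ht t' ht'
    have hd := hcZ t' ht' t ht
    have e1 : t * t' * (t * t') = cm t' t * ((t * t) * (t' * t')) := by
      have e2 : t * (cm t' t) = (cm t' t) * t := (pb.Zcent _ hd t (hS.leQ ht)).symm
      calc t * t' * (t * t') = t * (cm t' t * t) * (t' * t') := by simp only [cm]; group
        _ = (t * cm t' t) * t * (t' * t') := by group
        _ = (cm t' t * t) * t * (t' * t') := by rw [e2]
        _ = _ := by group
    have hc1 : Commute (cm t' t) ((t * t) * (t' * t')) :=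
      hAb _ (hZA hd) _ (A.mul_mem (hS.sq t ht) (hS.sq t' ht'))
    have hc2 : Commute (t * t) (t' * t') := hAb _ (hS.sq t ht) _ (hS.sq t' ht')
    have hd1 : (cm t' t) ^ 2 ^ J = 1 := by
      obtain ⟨k, rfl⟩ : ∃ k, J = k + 1 := ⟨J - 1, by omega⟩
      rw [pow_succ 2 k, mul_comm, pow_mul, pow_two, pb.Zinv _ hd, one_pow]
    change (t * t' * (t * t')) ^ 2 ^ J = (t * t) ^ 2 ^ J * (t' * t') ^ 2 ^ J
    rw [e1, hc1.mul_pow, hd1, one_mul, hc2.mul_pow]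
  let κ : Γ → L := fun t => ζ (pw t)
  have hκadd : ∀ a ∈ T, ∀ b ∈ T, κ (a * b) = κ a + κ b := by
    intro a ha b hb
    change ζ (pw (a * b)) = ζ (pw a) + ζ (pw b)
    rw [hpwmul a ha b hb]
    exact pb.ζadd _ (hpwZ a ha) _ (hpwZ b hb)
  have hκone : κ 1 = 0 := by
    change ζ ((1 * 1) ^ 2 ^ J) = 0
    simp [ζone pb]
  have hκinv : ∀ b ∈ T, κ b⁻¹ = - κ b := by
    intro b hb
    have := hκadd b hb b⁻¹ (T.inv_mem hb)
    rw [mul_inv_cancel, hκone] at this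
    exact (neg_eq_of_add_eq_zero_right this.symm).symm
  have hκker : ∀ t ∈ T, κ t = 0 → t ∈ A := by
    intro t ht h0
    have h3 : pw t = 1 := pb.ζinj _ (hpwZ t ht) h0
    obtain ⟨b, hb, hbb, -⟩ := exists_sqrt pb hAb hAQ hAinv ha₁ h1 h2 J le_rfl _ (hS.sq t ht) h3
    have h4 : t * b⁻¹ * (t * b⁻¹) = 1 := by
      have e1 : t * b⁻¹ = b⁻¹ * t := by
        have := htc t ht _ (A.inv_mem hb)
        exact this
      calc t * b⁻¹ * (t * b⁻¹) = t * (b⁻¹ * t) * b⁻¹ := by group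
        _ = t * (t * b⁻¹) * b⁻¹ := by rw [e1]
        _ = (t * t) * (b * b)⁻¹ := by group
        _ = 1 := by rw [hbb]; group
    have h5 : t * b⁻¹ ∈ A := hZA (pb.Zdef _ (Q.mul_mem (hS.leQ ht) (Q.inv_mem (hAQ hb))) h4)
    have h6 : t = (t * b⁻¹) * b := by group
    rw [h6]
    exact A.mul_mem h5 hb
  have hpwconj : ∀ h ∈ H, ∀ t ∈ T, κ (h * t * h⁻¹) = lam h * κ t := by
    intro h hh t ht
    change ζ ((h * t * h⁻¹ * (h * t * h⁻¹)) ^ 2 ^ J) = lam h * ζ ((t * t) ^ 2 ^ J)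
    have e1 : h * t * h⁻¹ * (h * t * h⁻¹) = h * (t * t) * h⁻¹ := by group
    rw [e1, conj_pow]
    exact pb.ζeq h hh _ (hpwZ t ht)
  have ht₀κ : κ t₀ ≠ 0 := fun h0 => ht₀A (hκker t₀ ht₀ h0)
  have hκs : ∀ l, ∃ w ∈ T, κ w = l := by
    intro l
    by_cases hl : l = 0
    · exact ⟨1, T.one_mem, by rw [hκone, hl]⟩
    obtain ⟨h, hh, hlam⟩ := pb.lams (l * (κ t₀)⁻¹) (mul_ne_zero hl (inv_ne_zero ht₀κ))
    refine ⟨h * t₀ * h⁻¹, hS.inv h hh t₀ ht₀, ?_⟩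
    rw [hpwconj h hh t₀ ht₀, hlam]
    field_simp
  have hab : ∀ x ∈ T, ∀ y ∈ T, cm x y = 1 := by
    have key := nv_section pb hcard hm hAQ hAinv hS hirr hS.inv κ hκadd hκs hpwconj
      (fun x y => ζ (cm x y))
      (fun x hx x' hx' y hy => by
        rw [cm_mul_left pb (hS.leQ hx) (hcZ x' hx' y hy), pb.ζadd _ (hcZ x' hx' y hy) _ (hcZ x hx y hy),
          add_comm])
      (fun x hx y hy y' hy' => by
        rw [cm_mul_right_central pb (hS.leQ hy) (hcZ x hx y' hy'),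
          pb.ζadd _ (hcZ x hx y hy) _ (hcZ x hx y' hy')])
      (fun x hx a ha b hb hab => by
        have e1 : κ (a * b⁻¹) = 0 := by
          rw [hκadd a ha _ (T.inv_mem hb), hκinv b hb, hab, add_neg_cancel]
        have e2 : a * b⁻¹ ∈ A := hκker _ (T.mul_mem ha (T.inv_mem hb)) e1
        have e3 : a = (a * b⁻¹) * b := by group
        have e4 : cm x (a * b⁻¹) = 1 := by
          simp only [cm]
          rw [htc x hx _ e2]
          group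
        conv_lhs => rw [e3]
        rw [cm_mul_right_central pb (hAQ e2) (hcZ x hx b hb), e4, one_mul])
      (fun h hh x hx y hy => by
        have e1 : cm (h * x * h⁻¹) (h * y * h⁻¹) = h * cm x y * h⁻¹ := by
          simp only [cm]; group
        rw [e1]
        exact pb.ζeq h hh _ (hcZ x hx y hy))
      (fun a ha y hy => by
        have e1 : cm a y = 1 := by
          simp only [cm]
          rw [← htc y hy a ha]
          group
        rw [e1, ζone pb])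
    rcases key with h | h
    · intro x hx y hy
      exact pb.ζinj _ (hcZ x hx y hy) (h x hx y hy)
    · exfalso
      apply h t₀ ht₀ ht₀A t₀ ht₀ ht₀κ
      simp [cm, ζone pb]
  have hTab : ∀ a ∈ T, ∀ b ∈ T, a * b = b * a := by
    intro a ha b hb
    have := hab a ha b hb
    have e1 : a * b * a⁻¹ * b⁻¹ = 1 := this
    calc a * b = (a * b * a⁻¹ * b⁻¹) * (b * a) := by group
      _ = b * a := by rw [e1, one_mul]
  exact hne' (hmax T hS.le hS.leQ hTab (fun u hu a ha => hS.normal hu ha) hS.inv).symm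

end Claim1

theorem pow_two_succ' (a : Γ) (l : ℕ) : a ^ 2 ^ (l + 1) = (a * a) ^ 2 ^ l := by
  rw [pow_succ', pow_mul, pow_two]

section Claim2

variable {Q H Z : Subgroup Γ} {L : Type*} [Field L] [Fintype L] {lam ζ : Γ → L}
  (pb : PB Q H Z lam ζ) {m : ℕ} (hcard : Fintype.card L = 2 ^ m) (hm : 2 ≤ m)

include pb hcard hm in
/-- The main structural statement on a minimal section over a self-centralising abelian subgroup. -/
theorem exponent_four [Finite Γ] {A : Subgroup Γ} (hAb : ∀ a ∈ A, ∀ b ∈ A, a * b = b * a) (hZA : Z ≤ A)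
    (hAQ : A ≤ Q) (hAinv : IsInv H A) (hAn : ∀ u ∈ Q, ∀ a ∈ A, u * a * u⁻¹ ∈ A)
    {a₁ : Γ} {J : ℕ} (ha₁ : a₁ ∈ A) (h1 : a₁ ^ 2 ^ (J + 1) = 1) (h2 : a₁ ^ 2 ^ J ≠ 1) (hJ : 1 ≤ J)
    (hexp : ∀ a ∈ A, a ^ 2 ^ (J + 1) = 1)
    (hC : ∀ x ∈ Q, (∀ a ∈ A, x * a = a * x) → x ∈ A)
    {T : Subgroup Γ} (hS : IsSect Q H A T) (hne : A ≠ T)
    (hirr : ∀ T' : Subgroup Γ, A ≤ T' → T' ≤ T → IsInv H T' → T' = A ∨ T' = T) :
    (∀ a ∈ A, a ^ 2 ^ 2 = 1) ∧ ∀ τ ∈ T, τ * τ ∈ Z := by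
  classical
  obtain ⟨t₀, ht₀, ht₀A⟩ : ∃ t ∈ T, t ∉ A := by
    by_contra hno
    push Not at hno
    exact hne (le_antisymm hS.le hno)
  have hcm1 : ∀ {x y : Γ}, cm x y = 1 → x * y = y * x := by
    intro x y h
    have e1 : x * y * x⁻¹ * y⁻¹ = 1 := h
    calc x * y = (x * y * x⁻¹ * y⁻¹) * (y * x) := by group
      _ = y * x := by rw [e1, one_mul]
  have hcm2 : ∀ {x y : Γ}, x * y = y * x → cm x y = 1 := by
    intro x y h
    simp only [cm]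
    rw [h]
    group
  let Lv : ℕ → Prop := fun l => ∃ τ ∈ T, ∃ a ∈ A, a ^ 2 ^ l = 1 ∧ cm τ a ≠ 1
  have hex : ∃ l, Lv l := by
    refine ⟨J + 1, t₀, ht₀, ?_⟩
    by_contra hno
    push Not at hno
    apply ht₀A
    exact hC t₀ (hS.leQ ht₀) fun a ha => hcm1 (hno a ha (hexp a ha))
  have hfind := Nat.find_spec hex
  have hmin : ∀ l, l < Nat.find hex → ¬ Lv l := fun l hl => Nat.find_min hex hl
  have hl0 : Nat.find hex ≠ 0 := by
    intro h0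
    rw [h0] at hfind
    obtain ⟨τ, _, a, _, ha1, hc⟩ := hfind
    have : a = 1 := by simpa using ha1
    rw [this] at hc
    apply hc
    simp [cm]
  have hl1 : Nat.find hex ≠ 1 := by
    intro h0
    rw [h0] at hfind
    obtain ⟨τ, hτ, a, ha, ha1, hc⟩ := hfind
    have h3 : a ∈ Z := pb.Zdef a (hAQ ha) (by rw [← pow_two]; simpa using ha1)
    exact hc (cm_Z pb h3 (hS.leQ hτ))
  obtain ⟨n, hn⟩ : ∃ n, Nat.find hex = n + 2 := ⟨Nat.find hex - 2, by omega⟩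
  rw [hn] at hfind hmin
  obtain ⟨τ₀, hτ₀, a₀, ha₀, ha₀1, hτa₀⟩ := hfind
  have hlow : ∀ τ ∈ T, ∀ a ∈ A, a ^ 2 ^ (n + 1) = 1 → cm τ a = 1 := by
    intro τ hτ a ha h3
    by_contra h4
    exact hmin (n + 1) (by omega) ⟨τ, hτ, a, ha, h3, h4⟩
  have ha₀2 : a₀ ^ 2 ^ (n + 1) ≠ 1 := fun h3 => hτa₀ (hlow τ₀ hτ₀ a₀ ha₀ h3)
  have hZcm : ∀ τ ∈ T, ∀ a ∈ A, a ^ 2 ^ (n + 2) = 1 → cm τ a ∈ Z := by
    intro τ hτ a ha h3
    apply pb.Zdef _ (hAQ (cm_mem hAn (hS.leQ hτ) ha))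
    rw [← cm_mul_right hAb hAn (hS.leQ hτ) ha ha]
    apply hlow τ hτ _ (A.mul_mem ha ha)
    rw [← pow_two_succ']
    exact h3
  -- the section subgroup
  let W : Subgroup Γ :=
    { carrier := {a | a ∈ A ∧ a ^ 2 ^ (n + 2) = 1}
      one_mem' := ⟨A.one_mem, by simp⟩
      mul_mem' := by
        rintro a b ⟨ha, ha'⟩ ⟨hb, hb'⟩
        refine ⟨A.mul_mem ha hb, ?_⟩
        have hc : Commute a b := hAb a ha b hb
        rw [hc.mul_pow, ha', hb', one_mul]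
      inv_mem' := by
        rintro a ⟨ha, ha'⟩
        exact ⟨A.inv_mem ha, by rw [inv_pow, ha', inv_one]⟩ }
  have hWinv : IsInv H W := by
    rintro h hh a ⟨ha, ha'⟩
    refine ⟨hAinv h hh a ha, ?_⟩
    rw [conj_pow, ha']
    group
  let κ : Γ → L := fun w => ζ (w ^ 2 ^ (n + 1))
  have hκZ : ∀ w ∈ W, w ^ 2 ^ (n + 1) ∈ Z := fun w hw => pow_mem_Z pb (hAQ hw.1) hw.2
  have hκadd : ∀ a ∈ W, ∀ b ∈ W, κ (a * b) = κ a + κ b := by
    intro a ha b hb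
    have hc : Commute a b := hAb a ha.1 b hb.1
    change ζ ((a * b) ^ 2 ^ (n + 1)) = ζ (a ^ 2 ^ (n + 1)) + ζ (b ^ 2 ^ (n + 1))
    rw [hc.mul_pow]
    exact pb.ζadd _ (hκZ a ha) _ (hκZ b hb)
  have hκs : ∀ l, ∃ w ∈ W, κ w = l := by
    intro l
    obtain ⟨z, hz, hzl⟩ := pb.ζsurj l
    obtain ⟨a, ha, h3, h4⟩ := pw_surj pb hAQ hAinv ha₀ ha₀1 ha₀2 hz
    refine ⟨a, ⟨ha, h3⟩, ?_⟩
    change ζ (a ^ 2 ^ (n + 1)) = l
    rw [h4, hzl]
  have hκeq : ∀ h ∈ H, ∀ w ∈ W, κ (h * w * h⁻¹) = lam h * κ w := by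
    intro h hh w hw
    change ζ ((h * w * h⁻¹) ^ 2 ^ (n + 1)) = lam h * ζ (w ^ 2 ^ (n + 1))
    rw [conj_pow]
    exact pb.ζeq h hh _ (hκZ w hw)
  have hstar : ∀ τ ∈ T, τ ∉ A → ∀ a ∈ A, a ^ 2 ^ (n + 2) = 1 → a ^ 2 ^ (n + 1) ≠ 1 → cm τ a ≠ 1 := by
    have key := nv_section pb hcard hm hAQ hAinv hS hirr hWinv κ hκadd hκs hκeq
      (fun x y => ζ (cm x y))
      (fun x hx x' hx' y hy => by
        rw [cm_mul_left pb (hS.leQ hx) (hZcm x' hx' y hy.1 hy.2),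
          pb.ζadd _ (hZcm x' hx' y hy.1 hy.2) _ (hZcm x hx y hy.1 hy.2), add_comm])
      (fun x hx y hy y' hy' => by
        rw [cm_mul_right hAb hAn (hS.leQ hx) hy.1 hy'.1,
          pb.ζadd _ (hZcm x hx y hy.1 hy.2) _ (hZcm x hx y' hy'.1 hy'.2)])
      (fun x hx a ha b hb hab => by
        have e1 : (a * b⁻¹) ^ 2 ^ (n + 1) = 1 := by
          have hc : Commute a b⁻¹ := hAb a ha.1 _ (A.inv_mem hb.1)
          rw [hc.mul_pow, inv_pow]
          have e2 : a ^ 2 ^ (n + 1) = b ^ 2 ^ (n + 1) := ζeq_iff pb (hκZ a ha) (hκZ b hb) hab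
          rw [e2, mul_inv_cancel]
        have e3 := hlow x hx _ (A.mul_mem ha.1 (A.inv_mem hb.1)) e1
        rw [cm_mul_right hAb hAn (hS.leQ hx) ha.1 (A.inv_mem hb.1),
          cm_inv_right hAb hAn (hS.leQ hx) hb.1] at e3
        rw [mul_inv_eq_one.1 e3])
      (fun h hh x hx y hy => by
        have e1 : cm (h * x * h⁻¹) (h * y * h⁻¹) = h * cm x y * h⁻¹ := by
          simp only [cm]; group
        rw [e1]
        exact pb.ζeq h hh _ (hZcm x hx y hy.1 hy.2))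
      (fun a ha y hy => by
        have e1 : cm a y = 1 := hcm2 (hAb a ha y hy.1)
        rw [e1, ζone pb])
    rcases key with h | h
    · exfalso
      exact hτa₀ (pb.ζinj _ (hZcm τ₀ hτ₀ a₀ ha₀ ha₀1) (h τ₀ hτ₀ a₀ ⟨ha₀, ha₀1⟩))
    · intro τ hτ hτA a ha h3 h4 h5
      apply h τ hτ hτA a ⟨ha, h3⟩
      · intro h6
        exact h4 (pb.ζinj _ (hκZ a ⟨ha, h3⟩) h6)
      · rw [h5, ζone pb]
  have hpow4 : ∀ a : Γ, a ^ 2 ^ 2 = (a * a) * (a * a) := by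
    intro a
    rw [show (2 : ℕ) ^ 2 = 2 + 2 from rfl, pow_add, pow_two]
  have hpow2 : ∀ a : Γ, a ^ 2 ^ 1 = a * a := by
    intro a
    rw [pow_one, pow_two]
  -- everything has level `n + 2`
  have hall : ∀ a ∈ A, a ^ 2 ^ (n + 2) = 1 := by
    by_contra hno
    push Not at hno
    obtain ⟨a₃, ha₃, ha₃1⟩ := hno
    have hJn : n + 2 ≤ J := by
      by_contra hlt
      apply ha₃1
      have e1 : n + 2 = (J + 1) + (n + 2 - (J + 1)) := by omega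
      rw [e1, pow_add, pow_mul, hexp a₃ ha₃, one_pow]
    obtain ⟨a', ha', h3, h4⟩ := level_of ha₁ h1 h2 hJn
    set b := cm t₀ a' with hb
    have hbA : b ∈ A := cm_mem hAn (hS.leQ ht₀) ha'
    have e1 : b * b = cm t₀ (a' * a') := (cm_mul_right hAb hAn (hS.leQ ht₀) ha' ha').symm
    have e2 : (a' * a') ^ 2 ^ (n + 2) = 1 := by rw [← pow_two_succ']; exact h3
    have e3 : (a' * a') ^ 2 ^ (n + 1) ≠ 1 := by rw [← pow_two_succ']; exact h4
    have e4 : cm t₀ (a' * a') ≠ 1 := hstar t₀ ht₀ ht₀A _ (A.mul_mem ha' ha') e2 e3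
    have e5 : cm t₀ (a' * a') ∈ Z := hZcm t₀ ht₀ _ (A.mul_mem ha' ha') e2
    have e6 : cm t₀ b = b⁻¹ * b⁻¹ := cm_cm hAb hAn (hS.leQ ht₀) (hS.sq t₀ ht₀) ha'
    have e7 : cm t₀ b ≠ 1 := by
      rw [e6]
      intro h
      apply e4
      rw [← e1]
      have e8 : b⁻¹ * b⁻¹ = (b * b)⁻¹ := by group
      rw [e8] at h
      exact inv_eq_one.1 h
    have hb4 : b ^ 2 ^ 2 = 1 := by
      rw [hpow4, e1]
      exact pb.Zinv _ e5
    have hn0 : n = 0 := by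
      by_contra hn0
      apply e7
      apply hlow t₀ ht₀ b hbA
      obtain ⟨k, rfl⟩ : ∃ k, n = k + 1 := ⟨n - 1, by omega⟩
      have e8 : 2 ^ (k + 1 + 1) = 2 ^ 2 * 2 ^ k := by ring
      rw [e8, pow_mul, hb4, one_pow]
    subst hn0
    have hstar0 : ∀ τ ∈ T, τ ∉ A → ∀ a ∈ A, a ^ 2 ^ 2 = 1 → cm τ a = 1 → a * a = 1 := by
      intro τ hτ hτA a ha h5 h6
      by_contra h7
      exact hstar τ hτ hτA a ha h5 (by rw [zero_add, hpow2]; exact h7) h6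
    obtain ⟨a₂, ha₂, h5, h6⟩ := level_of ha₁ h1 h2 (show 1 ≤ J by omega)
    obtain ⟨a₄, ha₄, h7, h8⟩ := level_of ha₁ h1 h2 (show 2 ≤ J by omega)
    haveI : Finite Z := inferInstance
    -- the elements outside `A` invert the second level
    have hinvt : ∀ τ ∈ T, τ ∉ A → ∀ b' ∈ A, b' ^ 2 ^ 2 = 1 → τ * b' * τ⁻¹ = b'⁻¹ := by
      intro τ hτ hτA b' hb' hb'4
      have hw : ∀ z : Z, ∃ w ∈ A, w ^ 2 ^ 2 = 1 ∧ w ^ 2 ^ 1 = (z : Γ) :=
        fun z => pw_surj pb hAQ hAinv ha₂ h5 h6 z.2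
      choose w hwA hw4 hw2 using hw
      let g : Z → Z := fun z => ⟨cm τ (w z), hZcm τ hτ _ (hwA z) (hw4 z)⟩
      have hg : Function.Injective g := by
        intro z z' hzz
        have e8 : cm τ (w z) = cm τ (w z') := congrArg Subtype.val hzz
        have e9 : cm τ (w z * (w z')⁻¹) = 1 := by
          rw [cm_mul_right hAb hAn (hS.leQ hτ) (hwA z) (A.inv_mem (hwA z')),
            cm_inv_right hAb hAn (hS.leQ hτ) (hwA z'), e8, mul_inv_cancel]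
        have e10 : (w z * (w z')⁻¹) ^ 2 ^ 2 = 1 := by
          have hc : Commute (w z) (w z')⁻¹ := hAb _ (hwA z) _ (A.inv_mem (hwA z'))
          rw [hc.mul_pow, hw4, inv_pow, hw4]
          simp
        have e11 := hstar0 τ hτ hτA _ (A.mul_mem (hwA z) (A.inv_mem (hwA z'))) e10 e9
        have hc : Commute (w z) (w z')⁻¹ := hAb _ (hwA z) _ (A.inv_mem (hwA z'))
        have e12 : (w z * (w z')⁻¹) * (w z * (w z')⁻¹) = (w z * w z) * (w z' * w z')⁻¹ := by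
          calc (w z * (w z')⁻¹) * (w z * (w z')⁻¹) = w z * ((w z')⁻¹ * w z) * (w z')⁻¹ := by group
            _ = w z * (w z * (w z')⁻¹) * (w z')⁻¹ := by rw [hc.eq]
            _ = _ := by group
        rw [e12, ← hpow2, ← hpow2, hw2, hw2] at e11
        apply Subtype.ext
        exact mul_inv_eq_one.1 e11
      have hgs : Function.Surjective g := Finite.injective_iff_surjective.1 hg
      have hz₁ : b' * b' ∈ Z := by
        rw [← hpow2]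
        exact pow_mem_Z pb (hAQ hb') hb'4
      obtain ⟨z, hz⟩ := hgs ⟨b' * b', hz₁⟩
      have hz' : cm τ (w z) = b' * b' := congrArg Subtype.val hz
      obtain ⟨a, ha, h9, h10⟩ := pw_surj pb hAQ hAinv ha₄ h7 h8 z.2
      -- `a²` and `w z` agree modulo `Z`
      have hy : a * a * (w z)⁻¹ ∈ Z := by
        apply pb.Zdef _ (Q.mul_mem (Q.mul_mem (hAQ ha) (hAQ ha)) (Q.inv_mem (hAQ (hwA z))))
        have hc : Commute (a * a) (w z)⁻¹ := hAb _ (A.mul_mem ha ha) _ (A.inv_mem (hwA z))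
        calc a * a * (w z)⁻¹ * (a * a * (w z)⁻¹)
            = (a * a) * ((w z)⁻¹ * (a * a)) * (w z)⁻¹ := by group
          _ = (a * a) * ((a * a) * (w z)⁻¹) * (w z)⁻¹ := by rw [hc.eq]
          _ = ((a * a) * (a * a)) * (w z * w z)⁻¹ := by group
          _ = 1 := by rw [← hpow4, ← hpow2, h10, hw2, mul_inv_cancel]
      have e8 : a * a = (a * a * (w z)⁻¹) * w z := by group
      have e9 : cm τ (a * a) = b' * b' := by
        rw [e8, cm_mul_right hAb hAn (hS.leQ hτ) (hZA hy) (hwA z), cm_Z pb hy (hS.leQ hτ), one_mul, hz']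
      set c := cm τ a with hc
      have hcA : c ∈ A := cm_mem hAn (hS.leQ hτ) ha
      have e10 : c * c = b' * b' := by
        rw [← cm_mul_right hAb hAn (hS.leQ hτ) ha ha]
        exact e9
      have hy' : c * b'⁻¹ ∈ Z := by
        apply pb.Zdef _ (Q.mul_mem (hAQ hcA) (Q.inv_mem (hAQ hb')))
        have hcc : Commute c b'⁻¹ := hAb _ hcA _ (A.inv_mem hb')
        calc c * b'⁻¹ * (c * b'⁻¹) = c * (b'⁻¹ * c) * b'⁻¹ := by group
          _ = c * (c * b'⁻¹) * b'⁻¹ := by rw [hcc.eq]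
          _ = (c * c) * (b' * b')⁻¹ := by group
          _ = 1 := by rw [e10, mul_inv_cancel]
      have e11 : b' = (c * b'⁻¹)⁻¹ * c := by group
      have e12 : cm τ b' = (b' * b')⁻¹ := by
        conv_lhs => rw [e11]
        rw [cm_mul_right hAb hAn (hS.leQ hτ) (A.inv_mem (hZA hy')) hcA,
          cm_Z pb (Z.inv_mem hy') (hS.leQ hτ), one_mul,
          cm_cm hAb hAn (hS.leQ hτ) (hS.sq τ hτ) ha]
        rw [← e10]
        exact (mul_inv_rev c c).symm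
      have e13 : τ * b' * τ⁻¹ = cm τ b' * b' := by simp only [cm]; group
      rw [e13, e12]
      group
    -- the contradiction
    obtain ⟨l₀, hl₀0, hl₀1⟩ : ∃ l : L, l ≠ 0 ∧ l ≠ 1 := by
      by_contra hno
      push Not at hno
      have h9 : (Finset.univ : Finset L) ⊆ {0, 1} := by
        intro l _
        by_cases hl : l = 0
        · simp [hl]
        · simp [hno l hl]
      have h10 := Finset.card_le_card h9
      have h11 : Finset.card ({0, 1} : Finset L) ≤ 2 := Finset.card_le_two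
      rw [Finset.card_univ, hcard] at h10
      have h12 : 2 ^ 2 ≤ 2 ^ m := Nat.pow_le_pow_right (by norm_num) hm
      omega
    obtain ⟨h, hh, hlam⟩ := pb.lams l₀ hl₀0
    have hh1 : h ≠ 1 := pb.lam1 h hh (by rw [hlam]; exact hl₀1)
    have ht₂ : h * t₀ * h⁻¹ ∈ T := hS.inv h hh t₀ ht₀
    have ht₂A : h * t₀ * h⁻¹ ∉ A := by
      intro h9
      apply ht₀A
      have := hAinv _ (H.inv_mem hh) _ h9
      simpa [mul_assoc] using this
    have ht₁₂ : t₀ * (h * t₀ * h⁻¹) ∉ A := by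
      intro h9
      apply ht₀A
      apply sec pb.fpf hAQ hAinv hh hh1 (hS.leQ ht₀)
      have e8 : cm h t₀ = (t₀⁻¹ * (t₀ * (h * t₀ * h⁻¹)) * t₀) * (t₀ * t₀)⁻¹ := by
        simp only [cm]; group
      rw [e8]
      refine A.mul_mem ?_ (A.inv_mem (hS.sq t₀ ht₀))
      have := hAn _ (Q.inv_mem (hS.leQ ht₀)) _ h9
      simpa using this
    have e8 := hinvt _ (T.mul_mem ht₀ ht₂) ht₁₂ a₂ ha₂ h5
    have e9 := hinvt _ ht₂ ht₂A a₂ ha₂ h5
    have e10 := hinvt _ ht₀ ht₀A a₂ ha₂ h5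
    have e11 : (t₀ * (h * t₀ * h⁻¹)) * a₂ * (t₀ * (h * t₀ * h⁻¹))⁻¹ = a₂ := by
      calc (t₀ * (h * t₀ * h⁻¹)) * a₂ * (t₀ * (h * t₀ * h⁻¹))⁻¹
          = t₀ * ((h * t₀ * h⁻¹) * a₂ * (h * t₀ * h⁻¹)⁻¹) * t₀⁻¹ := by group
        _ = t₀ * a₂⁻¹ * t₀⁻¹ := by rw [e9]
        _ = (t₀ * a₂ * t₀⁻¹)⁻¹ := by group
        _ = a₂ := by rw [e10, inv_inv]
    rw [e11] at e8
    apply h6
    rw [hpow2]
    calc a₂ * a₂ = a₂⁻¹ * a₂ := congrArg (· * a₂) e8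
      _ = 1 := inv_mul_cancel _
  -- squares have lower level
  have hsq : ∀ τ ∈ T, (τ * τ) ^ 2 ^ (n + 1) = 1 := by
    intro τ hτ
    by_contra h3
    by_cases hτA : τ ∈ A
    · apply h3
      rw [← pow_two_succ']
      exact hall τ hτA
    · apply hstar τ hτ hτA _ (hS.sq τ hτ) (hall _ (hS.sq τ hτ)) h3
      apply hcm2
      group
  have hn0 : n = 0 := by
    by_contra hn0
    obtain ⟨b, hb, hbb, -⟩ := exists_sqrt pb hAb hAQ hAinv ha₀ ha₀1 ha₀2 (n + 1) le_rfl _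
      (hS.sq t₀ ht₀) (hsq t₀ ht₀)
    have hτ' : t₀ * b⁻¹ ∈ T := T.mul_mem ht₀ (hS.le (A.inv_mem hb))
    have hτ'A : t₀ * b⁻¹ ∉ A := by
      intro h3
      apply ht₀A
      have e1 : t₀ = (t₀ * b⁻¹) * b := by group
      rw [e1]
      exact A.mul_mem h3 hb
    have hy : cm t₀ b⁻¹ ∈ Z := hZcm t₀ ht₀ _ (A.inv_mem hb) (hall _ (A.inv_mem hb))
    have e1 : (t₀ * b⁻¹) * (t₀ * b⁻¹) = cm t₀ b⁻¹ := by
      have hcomm : Commute b⁻¹ (t₀ * t₀) := by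
        rw [← hbb]
        exact hAb _ (A.inv_mem hb) _ (A.mul_mem hb hb)
      calc (t₀ * b⁻¹) * (t₀ * b⁻¹) = cm t₀ b⁻¹ * (b⁻¹ * (t₀ * t₀) * b⁻¹) := by
            simp only [cm]; group
        _ = cm t₀ b⁻¹ := by
            rw [← hbb]
            group
    obtain ⟨a₅, ha₅, h3, h4⟩ := level_of ha₀ ha₀1 ha₀2 (show 1 ≤ n + 1 by omega)
    obtain ⟨c, hc, hc4, hc2⟩ := pw_surj pb hAQ hAinv ha₅ h3 h4 hy
    have hcm : cm (t₀ * b⁻¹) c = 1 := by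
      apply hlow _ hτ' c hc
      obtain ⟨k, rfl⟩ : ∃ k, n = k + 1 := ⟨n - 1, by omega⟩
      have e8 : 2 ^ (k + 1 + 1) = 2 ^ (1 + 1) * 2 ^ k := by ring
      rw [e8, pow_mul, hc4, one_pow]
    have hcomm : t₀ * b⁻¹ * c = c * (t₀ * b⁻¹) := hcm1 hcm
    apply hτ'A
    have e2 : (t₀ * b⁻¹) * c⁻¹ ∈ Z := by
      apply pb.Zdef _ (Q.mul_mem (hS.leQ hτ') (Q.inv_mem (hAQ hc)))
      have hcomm' : t₀ * b⁻¹ * c⁻¹ = c⁻¹ * (t₀ * b⁻¹) := by
        have := (show Commute (t₀ * b⁻¹) c from hcomm).inv_right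
        exact this
      calc (t₀ * b⁻¹) * c⁻¹ * ((t₀ * b⁻¹) * c⁻¹) = (t₀ * b⁻¹) * (c⁻¹ * (t₀ * b⁻¹)) * c⁻¹ := by group
        _ = (t₀ * b⁻¹) * ((t₀ * b⁻¹) * c⁻¹) * c⁻¹ := by rw [hcomm']
        _ = ((t₀ * b⁻¹) * (t₀ * b⁻¹)) * (c * c)⁻¹ := by group
        _ = 1 := by
            rw [e1]
            have e3 : c * c = cm t₀ b⁻¹ := by
              rw [← hc2, pow_one, pow_two]
            rw [e3, mul_inv_cancel]
    have e3 : t₀ * b⁻¹ = ((t₀ * b⁻¹) * c⁻¹) * c := by group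
    rw [e3]
    exact A.mul_mem (hZA e2) hc
  subst hn0
  refine ⟨fun a ha => hall a ha, fun τ hτ => ?_⟩
  apply pb.Zdef _ (Q.mul_mem (hS.leQ hτ) (hS.leQ hτ))
  have := hsq τ hτ
  rwa [zero_add, hpow2] at this

end Claim2

section Sq

/-- The subgroup generated by the squares. -/
def sqSub (Q : Subgroup Γ) : Subgroup Γ := Subgroup.closure {y | ∃ x ∈ Q, y = x * x}

variable {Q H : Subgroup Γ}

theorem mul_self_mem_sqSub {x : Γ} (hx : x ∈ Q) : x * x ∈ sqSub Q :=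
  Subgroup.subset_closure ⟨x, hx, rfl⟩

theorem sqSub_le_of {K : Subgroup Γ} (h : ∀ x ∈ Q, x * x ∈ K) : sqSub Q ≤ K := by
  rw [sqSub, Subgroup.closure_le]
  rintro _ ⟨x, hx, rfl⟩
  exact h x hx

theorem sqSub_le : sqSub Q ≤ Q := sqSub_le_of fun _ hx => Q.mul_mem hx hx

theorem sqSub_conj {u : Γ} (hu : ∀ x ∈ Q, u * x * u⁻¹ ∈ Q) : ∀ x ∈ sqSub Q, u * x * u⁻¹ ∈ sqSub Q := by
  have key : sqSub Q ≤ (sqSub Q).comap (MulAut.conj u).toMonoidHom := by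
    apply sqSub_le_of
    intro x hx
    rw [Subgroup.mem_comap]
    have h1 : (MulAut.conj u).toMonoidHom (x * x) = (u * x * u⁻¹) * (u * x * u⁻¹) := by
      simp only [MulEquiv.coe_toMonoidHom, MulAut.conj_apply]
      group
    rw [h1]
    exact mul_self_mem_sqSub (hu x hx)
  intro x hx
  have := key hx
  simpa using this

theorem sqSub_inv (hQ : IsInv H Q) : IsInv H (sqSub Q) := fun h hh x hx =>
  sqSub_conj (hQ h hh) x hx

theorem sqSub_normal : ∀ u ∈ Q, ∀ x ∈ sqSub Q, u * x * u⁻¹ ∈ sqSub Q := fun u hu x hx =>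
  sqSub_conj (fun y hy => Q.mul_mem (Q.mul_mem hu hy) (Q.inv_mem hu)) x hx

theorem isInv_sup {X Y : Subgroup Γ} (hX : IsInv H X) (hY : IsInv H Y) : IsInv H (X ⊔ Y) := by
  intro h hh x hx
  have key : X ⊔ Y ≤ (X ⊔ Y).comap (MulAut.conj h).toMonoidHom := by
    apply sup_le
    · intro a ha
      rw [Subgroup.mem_comap]
      exact (le_sup_left : X ≤ X ⊔ Y) (hX h hh a ha)
    · intro a ha
      rw [Subgroup.mem_comap]
      exact (le_sup_right : Y ≤ X ⊔ Y) (hY h hh a ha)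
  have := key hx
  simpa using this

/-- Burnside's basis theorem in the form needed. -/
theorem eq_of_sup_sqSub [Finite Γ] (hQ : IsPGroup 2 Q) {Y : Subgroup Γ} (hYQ : Y ≤ Q)
    (h : Y ⊔ sqSub Q = Q) : Y = Q := by
  classical
  by_contra hne
  haveI : Fact (Nat.Prime 2) := ⟨Nat.prime_two⟩
  obtain ⟨N, hN⟩ := IsPGroup.iff_card.1 hQ
  have hYp : IsPGroup 2 (Y.subgroupOf Q) := IsPGroup.to_subgroup hQ _
  obtain ⟨n, hn⟩ := IsPGroup.iff_card.1 hYp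
  have hcard : Nat.card (Y.subgroupOf Q) = Nat.card Y :=
    Nat.card_congr (Subgroup.subgroupOfEquivOfLe hYQ).toEquiv
  have hlt : n < N := by
    by_contra hge
    apply hne
    apply Subgroup.eq_of_le_of_card_ge hYQ
    rw [← hcard, hn, hN]
    exact Nat.pow_le_pow_right (by norm_num) (not_lt.1 hge)
  obtain ⟨K, hK, hYK⟩ := Sylow.exists_subgroup_card_pow_prime_le (G := Q) 2 (n := n) (m := N - 1)
    (by rw [hN]; exact pow_dvd_pow 2 (by omega)) (Y.subgroupOf Q) hn (by omega)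
  have hidx : K.index = 2 := by
    have h1 := K.index_mul_card
    rw [hK, hN] at h1
    have h2 : 2 ^ N = 2 * 2 ^ (N - 1) := by
      obtain ⟨t, rfl⟩ : ∃ t, N = t + 1 := ⟨N - 1, by omega⟩
      simp [pow_succ, mul_comm]
    rw [h2] at h1
    exact Nat.eq_of_mul_eq_mul_right (by positivity) h1
  let K' : Subgroup Γ := K.map Q.subtype
  have hYK' : Y ≤ K' := by
    intro y hy
    exact ⟨⟨y, hYQ hy⟩, hYK hy, rfl⟩
  have hSK' : sqSub Q ≤ K' := by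
    apply sqSub_le_of
    intro x hx
    exact ⟨⟨x, hx⟩ * ⟨x, hx⟩, Subgroup.mul_self_mem_of_index_two hidx _, rfl⟩
  have hQK' : Q ≤ K' := by
    rw [← h]
    exact sup_le hYK' hSK'
  have h1 := Subgroup.card_le_of_le hQK'
  have h2 : Nat.card K' = Nat.card K :=
    Subgroup.card_map_of_injective Q.subtype_injective
  rw [h2, hK, hN] at h1
  have h3 : 2 ^ (N - 1) < 2 ^ N := Nat.pow_lt_pow_right (by norm_num) (by omega)
  omega

end Sq

section Final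

variable {Q H Z : Subgroup Γ} {L : Type*} [Field L] [Fintype L] {lam ζ : Γ → L}
  (pb : PB Q H Z lam ζ) {m : ℕ} (hcard : Fintype.card L = 2 ^ m) (hm : 2 ≤ m)

include pb hcard hm in
/-- **Part B.** -/
theorem order_eq [Finite Γ] (hna : ∃ u ∈ Q, ∃ v ∈ Q, u * v ≠ v * u)
    (hcardH : Nat.card H + 1 = 2 ^ m) (hcardZ : Nat.card Z = 2 ^ m)
    (hsq : 2 ^ m * Nat.card (sqSub Q) = Nat.card Q) :
    Nat.card Q = 2 ^ m * 2 ^ m ∧ sqSub Q = Z := by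
  classical
  obtain ⟨u₀, hu₀, v₀, hv₀, huv₀⟩ := hna
  have hZne : Z ≠ Q := by
    intro h
    apply huv₀
    exact pb.Zcent u₀ (h ▸ hu₀) v₀ hv₀
  have hQn : ∀ u ∈ Q, ∀ x ∈ Q, u * x * u⁻¹ ∈ Q := fun u hu x hx =>
    Q.mul_mem (Q.mul_mem hu hx) (Q.inv_mem hu)
  obtain ⟨Y, hYQ, hne, hSY, hirrY⟩ := exists_minimal_section pb.Q2 pb.Zle le_rfl (Znormal pb) hQn
    pb.nrm (Zinv' pb) pb.nrm hZne
  by_cases hYS : Y ≤ sqSub Q
  swap
  · -- the good case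
    obtain ⟨y, hy, hyS⟩ := SetLike.not_le_iff_exists.1 hYS
    have hX' : sqSub Q ≤ Y ⊔ sqSub Q := le_sup_right
    have h1 := card_le pb.fpf sqSub_le (sqSub_inv pb.nrm) sqSub_normal hX' (sup_le hYQ sqSub_le)
      (isInv_sup hSY.inv (sqSub_inv pb.nrm)) (le_sup_left (a := Y) hy) hyS
    rw [hcardH, hsq] at h1
    have h2 : Y ⊔ sqSub Q = Q := Subgroup.eq_of_le_of_card_ge (sup_le hYQ sqSub_le) h1
    have h3 : Y = Q := eq_of_sup_sqSub pb.Q2 hYQ h2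
    have h4 : sqSub Q ≤ Z := sqSub_le_of fun x hx => hSY.sq x (h3 ▸ hx)
    have h5 : sqSub Q = Z := by
      by_contra hne2
      obtain ⟨z, hz, hzS⟩ : ∃ z ∈ Z, z ∉ sqSub Q := by
        by_contra hno
        push Not at hno
        exact hne2 (le_antisymm h4 hno)
      have h6 := card_le pb.fpf sqSub_le (sqSub_inv pb.nrm) sqSub_normal h4 pb.Zle (Zinv' pb) hz hzS
      rw [hcardH, hsq] at h6
      exact hZne (Subgroup.eq_of_le_of_card_ge pb.Zle h6)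
    refine ⟨?_, h5⟩
    rw [← hsq, h5, hcardZ]
  exfalso
  -- `Y` is centralised by the squares
  have hcent : ∀ y ∈ Y, ∀ x ∈ sqSub Q, x * y = y * x := by
    intro y hy
    let K : Subgroup Γ := Subgroup.centralizer ({y} : Set Γ)
    have hle : sqSub Q ≤ K := by
      apply sqSub_le_of
      intro x hx
      rw [Subgroup.mem_centralizer_singleton_iff]
      have hc : cm y x ∈ Z := hSY.comm y hy x hx
      have e1 : x * y * x⁻¹ = (cm y x)⁻¹ * y := by simp only [cm]; group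
      have e2 : x * (cm y x)⁻¹ = (cm y x)⁻¹ * x := (pb.Zcent _ (Z.inv_mem hc) x hx).symm
      have e3 : (cm y x)⁻¹ * (cm y x)⁻¹ = 1 := pb.Zinv _ (Z.inv_mem hc)
      calc x * x * y = x * (x * y * x⁻¹) * x := by group
        _ = x * ((cm y x)⁻¹ * y) * x := by rw [e1]
        _ = (x * (cm y x)⁻¹) * y * x := by group
        _ = ((cm y x)⁻¹ * x) * y * x := by rw [e2]
        _ = (cm y x)⁻¹ * (x * y * x⁻¹) * (x * x) := by group
        _ = (cm y x)⁻¹ * ((cm y x)⁻¹ * y) * (x * x) := by rw [e1]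
        _ = ((cm y x)⁻¹ * (cm y x)⁻¹) * y * (x * x) := by group
        _ = y * (x * x) := by rw [e3, one_mul]
    intro x hx
    have := hle hx
    rw [Subgroup.mem_centralizer_singleton_iff] at this
    exact this
  have hYab : ∀ a ∈ Y, ∀ b ∈ Y, a * b = b * a := fun a ha b hb => (hcent b hb a (hYS ha))
  -- a maximal abelian normal subgroup above `Y`
  let 𝒜 : Set (Subgroup Γ) := {A | Y ≤ A ∧ A ≤ Q ∧ (∀ a ∈ A, ∀ b ∈ A, a * b = b * a) ∧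
    (∀ u ∈ Q, ∀ a ∈ A, u * a * u⁻¹ ∈ A) ∧ IsInv H A}
  have h𝒜 : 𝒜.Nonempty := ⟨Y, le_rfl, hYQ, hYab, fun u hu a ha => hSY.normal hu ha, hSY.inv⟩
  obtain ⟨A, hAmax⟩ := Set.Finite.exists_maximal (Set.toFinite 𝒜) h𝒜
  obtain ⟨hYA, hAQ, hAb, hAn, hAinv⟩ := hAmax.prop
  have hZA : Z ≤ A := hSY.le.trans hYA
  have hmax : ∀ A' : Subgroup Γ, A ≤ A' → A' ≤ Q → (∀ a ∈ A', ∀ b ∈ A', a * b = b * a) →
      (∀ u ∈ Q, ∀ a ∈ A', u * a * u⁻¹ ∈ A') → IsInv H A' → A' = A := by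
    intro A' h1 h2 h3 h4 h5
    exact le_antisymm (hAmax.le_of_ge ⟨hYA.trans h1, h2, h3, h4, h5⟩ h1) h1
  -- an element of `Y` outside `Z`
  obtain ⟨y₀, hy₀, hy₀Z⟩ : ∃ y ∈ Y, y ∉ Z := by
    by_contra hno
    push Not at hno
    exact hne (le_antisymm hSY.le hno)
  have hy₀1 : y₀ * y₀ ≠ 1 := fun h => hy₀Z (pb.Zdef y₀ (hYQ hy₀) h)
  have hy₀Zs : y₀ * y₀ ∈ Z := hSY.sq y₀ hy₀
  -- the exponent
  haveI : Fact (Nat.Prime 2) := ⟨Nat.prime_two⟩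
  have hexK : ∃ k, ∀ a ∈ A, a ^ 2 ^ (k + 1) = 1 := by
    obtain ⟨N, hN⟩ := IsPGroup.iff_card.1 (IsPGroup.to_le pb.Q2 hAQ)
    refine ⟨N, fun a ha => ?_⟩
    have h2 : a ^ Nat.card A = 1 :=
      orderOf_dvd_iff_pow_eq_one.1 (Subgroup.orderOf_dvd_natCard A ha)
    rw [hN] at h2
    rw [pow_succ, pow_mul, h2, one_pow]
  let J := Nat.find hexK
  have hexp : ∀ a ∈ A, a ^ 2 ^ (J + 1) = 1 := Nat.find_spec hexK
  have hJ : 1 ≤ J := by
    by_contra hlt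
    have hJ0 : J = 0 := by omega
    have h1 := hexp y₀ (hYA hy₀)
    rw [hJ0] at h1
    apply hy₀1
    rw [← pow_two]
    simpa using h1
  obtain ⟨a₁, ha₁, h2⟩ : ∃ a₁ ∈ A, a₁ ^ 2 ^ J ≠ 1 := by
    by_contra hno
    push Not at hno
    have h1 : J - 1 < J := by omega
    apply Nat.find_min hexK h1
    intro a ha
    have h3 : J - 1 + 1 = J := by omega
    rw [h3]
    exact hno a ha
  have h1 := hexp a₁ ha₁
  have hC : ∀ x ∈ Q, (∀ a ∈ A, x * a = a * x) → x ∈ A := fun x hx hxc =>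
    centralizer_eq pb hcard hm hAb hZA hAQ hAinv hAn hmax ha₁ h1 h2 hJ hexp hx hxc
  have hAQne : A ≠ Q := by
    intro h
    apply huv₀
    exact hAb u₀ (h ▸ hu₀) v₀ (h ▸ hv₀)
  obtain ⟨T, hTQ, hAT, hST, hirrT⟩ := exists_minimal_section pb.Q2 hAQ le_rfl hAn hQn
    pb.nrm hAinv pb.nrm hAQne
  obtain ⟨hA4, hT2⟩ := exponent_four pb hcard hm hAb hZA hAQ hAinv hAn ha₁ h1 h2 hJ hexp hC hST hAT hirrT
  -- `A = Y`
  have hpow2 : ∀ a : Γ, a ^ 2 ^ 1 = a * a := by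
    intro a
    rw [pow_one, pow_two]
  have hpow4 : ∀ a : Γ, a ^ 2 ^ (1 + 1) = (a * a) * (a * a) := by
    intro a
    rw [show (2 : ℕ) ^ (1 + 1) = 2 + 2 from rfl, pow_add, pow_two]
  have hAY : A ≤ Y := by
    intro a ha
    have ha4 : a ^ 2 ^ (1 + 1) = 1 := hA4 a ha
    have haZ : a ^ 2 ^ 1 ∈ Z := pow_mem_Z pb (hAQ ha) ha4
    have hy₀4 : y₀ ^ 2 ^ (1 + 1) = 1 := by
      rw [hpow4]
      exact pb.Zinv _ hy₀Zs
    obtain ⟨y, hy, -, hyy⟩ := pw_surj pb hYQ hSY.inv hy₀ hy₀4 (by rw [hpow2]; exact hy₀1) haZ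
    have e1 : a * y⁻¹ ∈ Z := by
      apply pb.Zdef _ (Q.mul_mem (hAQ ha) (Q.inv_mem (hYQ hy)))
      have hc : a * y⁻¹ = y⁻¹ * a := hAb a ha _ (A.inv_mem (hYA hy))
      rw [hpow2, hpow2] at hyy
      calc a * y⁻¹ * (a * y⁻¹) = a * (y⁻¹ * a) * y⁻¹ := by group
        _ = a * (a * y⁻¹) * y⁻¹ := by rw [hc]
        _ = (a * a) * (y * y)⁻¹ := by group
        _ = 1 := by rw [hyy, mul_inv_cancel]
    have e2 : a = (a * y⁻¹) * y := by group
    rw [e2]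
    exact Y.mul_mem (hSY.le e1) hy
  have hAYeq : A = Y := le_antisymm hAY hYA
  have hSA : sqSub Q ≤ A := by
    intro x hx
    apply hC x (sqSub_le hx)
    intro a ha
    exact hcent a (hAY ha) x hx
  have hSeq : sqSub Q = A := le_antisymm hSA (hAY.trans hYS)
  obtain ⟨t₀, ht₀, ht₀A⟩ : ∃ t ∈ T, t ∉ A := by
    by_contra hno
    push Not at hno
    exact hAT (le_antisymm hST.le hno)
  have hTeq : T = Q := by
    have h3 := card_le pb.fpf hAQ hAinv hAn hST.le hST.leQ hST.inv ht₀ ht₀A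
    rw [hcardH, ← hSeq, hsq] at h3
    exact Subgroup.eq_of_le_of_card_ge hST.leQ h3
  have hSZ : sqSub Q ≤ Z := sqSub_le_of fun x hx => hT2 x (hTeq ▸ hx)
  apply hy₀Z
  exact hSZ (hSeq ▸ hYA hy₀)

end Final

end Cfsg.Agent.Lib.Suz.PartB
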