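import Cfsg.Agent.Lib.Suz.Core
import Cfsg.Agent.Lib.Suz.Module
import Cfsg.Agent.Lib.Suz.PartB

/-!
# The final step of the Suzuki theorem
-/

set_option autoImplicit false
set_option linter.style.haveILetI false
set_option linter.unusedSectionVars false

namespace Cfsg.Agent.Lib.Suz.Final

open Cfsg Finset MulAction
open Cfsg.Agent.Lib.Char.Complete Cfsg.Agent.Lib.Char.Basic Cfsg.Agent.Lib.Char.Ortho
open Cfsg.Agent.Lib.Suz.Ind Cfsg.Agent.Lib.Suz.LinD Cfsg.Agent.Lib.Suz.Sect
  Cfsg.Agent.Lib.Suz.Mult Cfsg.Agent.Lib.Suz.NonSp Cfsg.Agent.Lib.Suz.Spec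
  Cfsg.Agent.Lib.Suz.NormT Cfsg.Agent.Lib.Suz.Arith Cfsg.Agent.Lib.Suz.Core
  Cfsg.Agent.Lib.Suz.Module Cfsg.Agent.Lib.Suz.PartB

universe u v

/-- The common kernel of the real linear characters is the subgroup generated by the squares. -/
theorem card_KK {G : Type u} [Group G] [Finite G] (Q : Subgroup G) [Fintype Q] :
    Nat.card (KK Q) = Nat.card (sqSub Q) := by
  classical
  have h1 : (sqSub Q).subgroupOf Q = KK Q := by
    apply le_antisymm
    · intro x hx
      have h2 : sqSub Q ≤ (KK Q).map Q.subtype := by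
        apply sqSub_le_of
        intro y hy
        refine ⟨⟨y, hy⟩ * ⟨y, hy⟩, ?_, rfl⟩
        show _ ∈ KK Q
        rw [mem_KK]
        intro ν
        rw [map_mul]
        exact Int.units_mul_self _
      obtain ⟨y, hy, hyx⟩ := h2 (Subgroup.mem_subgroupOf.1 hx)
      have : y = x := Subtype.ext hyx
      rwa [← this]
    · intro x hx
      by_contra hnot
      haveI : ((sqSub Q).subgroupOf Q).Normal := by
        refine ⟨fun n hn g => ?_⟩
        rw [Subgroup.mem_subgroupOf] at hn ⊢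
        exact sqSub_normal (g : G) g.2 (n : G) hn
      obtain ⟨ν, hν⟩ := exists_hom_of_sq ((sqSub Q).subgroupOf Q) (fun t =>
        Subgroup.mem_subgroupOf.2 (mul_self_mem_sqSub t.2)) hnot
      exact hν (mem_KK.1 hx ν)
  rw [← h1]
  exact Nat.card_congr (Subgroup.subgroupOfEquivOfLe sqSub_le).toEquiv

variable {G : Type u} {Ω : Type v} [Group G] [Fintype G] [MulAction G Ω] [Fintype Ω]
  {Q H Z : Subgroup G} [Fintype Q] [Fintype H] [Fintype (IrrCharacter G)] {a b : Ω}
  [IsSimpleGroup G] [Fintype (Q →* ℤˣ)]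

/-- **The main theorem on the Suzuki `2`-group.** -/
theorem main (cc : CC G a b Q H) {L : Type*} [Field L] [Fintype L] {lam ζ : G → L}
    (pb : PB Q H Z lam ζ) {m : ℕ} (hcard : Fintype.card L = 2 ^ m) (hm : 2 ≤ m)
    (hna : ∃ u ∈ Q, ∃ v ∈ Q, u * v ≠ v * u) (hcardH : Nat.card H + 1 = 2 ^ m)
    (hcardZ : Nat.card Z = 2 ^ m) (hcomm : ∀ a ∈ H, ∀ b ∈ H, a * b = b * a) :
    Nat.card Q = 2 ^ m * 2 ^ m ∧ sqSub Q = Z ∧ IsSquare (2 * 2 ^ m) := by
  classical
  obtain ⟨M, hM⟩ := exists_M cc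
  obtain ⟨t, ht⟩ := cc.htwo
  have hQ2 := card_Q_ge cc.z
  have ht1 : t ≠ 0 := by
    rintro rfl
    rw [pow_zero] at ht
    omega
  have hNe : Even (Nat.card Q) := by
    rw [ht]
    exact (Nat.even_pow' ht1).2 even_two
  have hMo : Odd M := by
    have h1 : Odd (Nat.card H * M) := by
      have h2 : Even (Nat.card H * M + 1) := by rw [← hM]; exact hNe
      by_contra h3
      rw [Nat.not_odd_iff_even] at h3
      exact (Nat.not_even_iff_odd.2 (h3.add_one)) h2
    exact (Nat.odd_mul.1 h1).2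
  set s := (family cc.z).card with hs
  set e := Nat.card H with he
  have hD := card_D cc
  rw [← hs, ← he] at hD
  have hDc : (univ.erase (1 : Q →* ℤˣ)).card + 1 = Nat.card (Q →* ℤˣ) := by
    rw [card_erase_of_mem (mem_univ _), Nat.card_eq_fintype_card, card_univ]
    have : 0 < Fintype.card (Q →* ℤˣ) := Fintype.card_pos
    omega
  have hmul := card_hom_mul (T := Q)
  rw [card_KK Q, ← hDc, hD] at hmul
  have hDpos : 1 ≤ (univ.erase (1 : Q →* ℤˣ)).card := by
    obtain ⟨ν, hν⟩ := cc.hne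
    exact card_pos.2 ⟨ν, mem_erase.2 ⟨hν, mem_univ _⟩⟩
  rw [hD] at hDpos
  have hso : Odd s := by
    have h1 : (s * e + 1) ∣ 2 ^ t := by
      rw [← ht, ← hmul]
      exact dvd_mul_right _ _
    obtain ⟨j, -, hj⟩ := (Nat.dvd_prime_pow Nat.prime_two).1 h1
    have hj0 : j ≠ 0 := by
      rintro rfl
      rw [pow_zero] at hj
      omega
    have h2 : Even (s * e + 1) := by
      rw [hj]
      exact (Nat.even_pow' hj0).2 even_two
    have h3 : Odd (s * e) := by
      by_contra h3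
      rw [Nat.not_odd_iff_even] at h3
      exact (Nat.not_even_iff_odd.2 (h3.add_one)) h2
    exact (Nat.odd_mul.1 h3).1
  have hbound := card_bound cc ⟨M, hM, hMo⟩ hso
  rw [← hs, ← he] at hbound
  have hXcard : 0 < Nat.card (sqSub Q) := Nat.card_pos
  have hq : 2 ^ m = e + 1 := hcardH.symm
  have hlt : (s * e + 1) < 2 ^ m * 2 ^ m := by
    rw [hq]
    have h1 : s * e ≤ (e + 1) * e := Nat.mul_le_mul_right _ hbound
    have he0 : 0 < e := Nat.card_pos
    nlinarith
  have hXne : sqSub Q ≠ Q := by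
    intro h
    rw [h] at hmul
    have h1 : 1 * Nat.card Q < (s * e + 1) * Nat.card Q :=
      Nat.mul_lt_mul_of_pos_right (by omega) Nat.card_pos
    omega
  have hQ2' : IsPGroup 2 Q := by
    rw [IsPGroup.iff_card]
    exact ⟨t, ht⟩
  have hdich := index_dichotomy hQ2' sqSub_le sqSub_normal cc.sc.nrm (sqSub_inv cc.sc.nrm) hXne cc.hF
    hcomm (by omega) hcardH
  have hsqN : 2 ^ m * Nat.card (sqSub Q) = Nat.card Q := by
    rcases hdich with h1 | h1
    · exact h1.symm
    · exfalso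
      rw [← hmul] at h1
      have h2 := Nat.le_of_mul_le_mul_right h1 hXcard
      omega
  obtain ⟨hN, hXZ⟩ := order_eq pb hcard hm hna hcardH hcardZ hsqN
  refine ⟨hN, hXZ, ?_⟩
  -- `s = 1`
  have hs1 : s = 1 := by
    have h1 : (s * e + 1) * Nat.card (sqSub Q) = (e + 1) * Nat.card (sqSub Q) := by
      rw [hmul, ← hsqN, hq]
    have h2 := Nat.eq_of_mul_eq_mul_right hXcard h1
    have h3 : s * e = 1 * e := by omega
    exact Nat.eq_of_mul_eq_mul_right Nat.card_pos h3
  -- `M = q + 1`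
  have hMq : M = 2 ^ m + 1 := by
    have h1 : e * M + 1 = (e + 1) * (e + 1) := by
      rw [← hM, hN, hq]
    have h2 : e * M = e * (e + 2) := by nlinarith
    have h3 := Nat.eq_of_mul_eq_mul_left Nat.card_pos h2
    rw [h3, hq]
  -- the single set
  obtain ⟨S₀, hS₀⟩ := card_eq_one.1 hs1
  have hS₀m : S₀ ∈ family cc.z := by
    rw [hS₀]
    exact mem_singleton_self _
  have hrr : ∀ θ ∈ S₀, rr (family cc.z) θ = 1 := by
    intro θ hθ
    rw [rr, hS₀, filter_singleton, if_pos hθ]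
    simp
  have he2 := card_setA cc.sc cc.z
  rw [← he] at he2
  have he3 := cc.he3
  apply arith_A2 S₀ (FF H) (q := 2 ^ m) (k := (setA G Q).card + 1)
  · omega
  · omega
  · exact family_card cc hS₀m
  · intro θ hθ
    obtain ⟨ν, hν, hθν⟩ := mem_family_exists cc hS₀m hθ
    have h1 := parity_FF cc hν hθν
    rw [hrr θ hθ] at h1
    by_contra h2
    rw [Nat.not_odd_iff_even] at h2
    exact (Nat.not_even_iff_odd.2 (h2.add_one)) h1
  · intro θ hθ
    obtain ⟨ν, hν, hθν⟩ := mem_family_exists cc hS₀m hθ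
    have h1 := parity_FF cc hν hθν
    rw [hrr θ hθ] at h1
    have h2 : Odd (FF H θ) := by
      by_contra h2
      rw [Nat.not_odd_iff_even] at h2
      exact (Nat.not_even_iff_odd.2 (h2.add_one)) h1
    have h3 := dvd_FF cc hν hθν h2
    rw [hN] at h3
    rw [pow_two]
    exact h3
  · have h1 := norm_family cc hM (s := 1) (hs ▸ hs1)
    have h2 : (family cc.z).biUnion id = S₀ := by
      rw [hS₀]
      simp
    rw [h2, sum_congr rfl (fun θ hθ => by rw [hrr θ hθ])] at h1
    rw [hMq] at h1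
    push_cast at h1
    have h3 : ∀ θ ∈ S₀, ((FF H θ : ℤ) - ((2 : ℤ) ^ m + 1)) ^ 2
        = (1 * (FF H θ : ℤ) - ((2 : ℤ) ^ m + 1) * 1) ^ 2 := by
      intro θ _
      ring
    push_cast
    rw [sum_congr rfl h3]
    linarith

end Cfsg.Agent.Lib.Suz.Final
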