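import Cfsg.Agent.Lib.Char.Complete
import Cfsg.Agent.Lib.Char.Induced
import Cfsg.Agent.Lib.Char.Conj

/-!
# Induction from a trivial-intersection subgroup with a group of operators

`Q` is a subgroup of `G`, `H` normalises `Q`, and conjugates of a non-identity element of `Q` that lie
in `Q` are conjugates under `H Q`.
-/

set_option autoImplicit false
set_option linter.style.haveILetI false
set_option linter.unusedSectionVars false

namespace Cfsg.Agent.Lib.Suz.Ind

open Cfsg Finset
open Cfsg.Agent.Lib.Char.Induced Cfsg.Agent.Lib.Char.Complete Cfsg.Agent.Lib.Char.Basic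
  Cfsg.Agent.Lib.Char.Ortho
open scoped ComplexConjugate

universe u

variable {G : Type u} [Group G]

/-- The hypotheses. -/
structure SC (Q H : Subgroup G) : Prop where
  nrm : ∀ h ∈ H, ∀ u ∈ Q, h * u * h⁻¹ ∈ Q
  tr : ∀ u ∈ Q, u ≠ 1 → ∀ x : G, x⁻¹ * u * x ∈ Q → ∃ h ∈ H, ∃ v ∈ Q, x = h * v
  inter : ∀ x ∈ H, x ∈ Q → x = 1
  idx : Q.index = (Nat.card Q + 1) * Nat.card H

variable {Q H : Subgroup G}

/-- Conjugation by the inverse of an element of `H`, as an automorphism of `Q`. -/
def cq (sc : SC Q H) (h : H) : Q ≃* Q where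
  toFun u := ⟨(h : G)⁻¹ * u * (h : G), by
    have := sc.nrm _ (H.inv_mem h.2) u u.2
    simpa using this⟩
  invFun u := ⟨(h : G) * u * (h : G)⁻¹, sc.nrm _ h.2 u u.2⟩
  left_inv u := by apply Subtype.ext; simp [mul_assoc]
  right_inv u := by apply Subtype.ext; simp [mul_assoc]
  map_mul' a b := by apply Subtype.ext; simp [mul_assoc]

@[simp] theorem coe_cq (sc : SC Q H) (h : H) (u : Q) : (cq sc h u : G) = (h : G)⁻¹ * u * (h : G) := rfl

theorem cq_one (sc : SC Q H) (u : Q) : cq sc 1 u = u := by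
  apply Subtype.ext
  simp

theorem cq_mul (sc : SC Q H) (h k : H) (u : Q) : cq sc (h * k) u = cq sc k (cq sc h u) := by
  apply Subtype.ext
  simp [mul_assoc]

section Main

variable [Fintype G] [Fintype Q] [Fintype H]

theorem ind_apply (sc : SC Q H) {f : Q → ℂ} (hf : IsClassFunction Q f) {u : Q} (hu : u ≠ 1) :
    indFun Q f u = ∑ h : H, f (cq sc h u) := by
  classical
  rw [indFun_apply]
  let φ : H × Q → G := fun p => (p.1 : G) * p.2
  have hφ : Function.Injective φ := by
    rintro ⟨h, v⟩ ⟨h', v'⟩ heq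
    have h2 : (h : G) * v = h' * v' := heq
    have h1 : (h' : G)⁻¹ * h = v' * (v : G)⁻¹ := by
      calc (h' : G)⁻¹ * h = (h' : G)⁻¹ * ((h : G) * v) * (v : G)⁻¹ := by group
        _ = _ := by rw [h2]; group
    have h3 := sc.inter _ (H.mul_mem (H.inv_mem h'.2) h.2)
      (by rw [h1]; exact Q.mul_mem v'.2 (Q.inv_mem v.2))
    have h4 : (h : G) = h' := (inv_mul_eq_one.1 h3).symm
    have h5 : (v : G) = v' := by
      rw [h4] at h2
      exact mul_left_cancel h2
    have e1 : h = h' := Subtype.ext h4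
    have e2 : v = v' := Subtype.ext h5
    rw [e1, e2]
  have hu' : (u : G) ≠ 1 := fun h => hu (Subtype.ext h)
  have h1 : ∑ x : G, extendByZero Q f (x⁻¹ * u * x)
      = ∑ x ∈ univ.image φ, extendByZero Q f (x⁻¹ * u * x) := by
    symm
    apply Finset.sum_subset (subset_univ _)
    intro x _ hx
    apply extendByZero_of_not_mem
    intro hmem
    obtain ⟨h, hh, v, hv, hxe⟩ := sc.tr u u.2 hu' x hmem
    exact hx (mem_image.2 ⟨(⟨h, hh⟩, ⟨v, hv⟩), mem_univ _, hxe.symm⟩)
  rw [h1, sum_image (fun a _ b _ hab => hφ hab), univ_product_univ.symm, sum_product]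
  have h2 : ∀ (h : H) (v : Q), extendByZero Q f ((φ (h, v))⁻¹ * u * φ (h, v)) = f (cq sc h u) := by
    intro h v
    have h3 : (φ (h, v))⁻¹ * u * φ (h, v) = ((v⁻¹ * cq sc h u * v : Q) : G) := by
      simp only [φ, Subgroup.coe_mul, Subgroup.coe_inv, coe_cq]
      group
    rw [h3, extendByZero_coe]
    have := hf (cq sc h u) v⁻¹
    simpa using this
  simp only [h2, sum_const, card_univ, nsmul_eq_mul]
  rw [← mul_sum, ← Nat.card_eq_fintype_card, ← mul_assoc, inv_mul_cancel₀ (card_subgroup_ne_zero Q),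
    one_mul]

omit [Fintype H] in
theorem ind_one' (f : Q → ℂ) : indFun Q f 1 = (Q.index : ℂ) * f 1 := indFun_one Q f

open scoped Classical in
/-- Values of an induced class function on `Q`. -/
theorem ind_eq (sc : SC Q H) {g : Q → ℂ} (hg : IsClassFunction Q g) (u : Q) :
    indFun Q g u = ∑ h : H, g (cq sc h u)
      + (if u = 1 then (Nat.card Q : ℂ) * (Nat.card H : ℂ) * g 1 else 0) := by
  by_cases hu : u = 1
  · subst hu
    rw [if_pos rfl]
    have h1 : ∀ h : H, g (cq sc h 1) = g 1 := fun h => by rw [map_one]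
    simp only [h1, sum_const, card_univ, nsmul_eq_mul, ← Nat.card_eq_fintype_card]
    have h2 := indFun_one Q g
    simp only [Subgroup.coe_one]
    rw [h2, sc.idx]
    push_cast
    ring
  · rw [if_neg hu, add_zero]
    exact ind_apply sc hg hu

/-- **The Mackey formula.** -/
theorem mackey (sc : SC Q H) (f : Q → ℂ) {g : Q → ℂ} (hg : IsClassFunction Q g) :
    classInner (indFun Q f) (indFun Q g)
      = ∑ h : H, classInner f (g ∘ cq sc h) + (Nat.card H : ℂ) * f 1 * conj (g 1) := by
  classical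
  rw [classInner_indFun_left Q f _ (isClassFunction_indFun _ _)]
  rw [classInner_subgroup_eq]
  simp only [ind_eq sc hg, map_add, map_sum, mul_add, Finset.sum_add_distrib]
  simp only [classInner_subgroup_eq, Function.comp]
  have hN := card_subgroup_ne_zero Q
  have h1 : ∑ h : H, (Nat.card Q : ℂ)⁻¹ * ∑ x : Q, f x * conj (g (cq sc h x))
      = (Nat.card Q : ℂ)⁻¹ * ∑ x : Q, ∑ h : H, f x * conj (g (cq sc h x)) := by
    rw [← mul_sum, sum_comm]
  have h2 : ∑ x : Q, f x * conj (if x = 1 then (Nat.card Q : ℂ) * (Nat.card H : ℂ) * g 1 else 0)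
      = f 1 * ((Nat.card Q : ℂ) * (Nat.card H : ℂ) * conj (g 1)) := by
    rw [Finset.sum_eq_single 1]
    · simp
    · intro b _ hb
      simp [hb]
    · intro h
      exact absurd (mem_univ _) h
  have h3 : ∀ x : Q, f x * ∑ h : H, conj (g (cq sc h x)) = ∑ h : H, f x * conj (g (cq sc h x)) :=
    fun x => mul_sum _ _ _
  simp only [h3]
  rw [h2, h1]
  field_simp

/-- Parseval together with Frobenius reciprocity. -/
theorem parseval [Fintype (IrrCharacter G)] (f g : Q → ℂ) :
    classInner (indFun Q f) (indFun Q g)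
      = ∑ θ : IrrCharacter G, classInner f (fun u : Q => (θ : G → ℂ) u)
          * conj (classInner g (fun u : Q => (θ : G → ℂ) u)) := by
  rw [classInner_eq_sum (isClassFunction_indFun _ _)]
  refine sum_congr rfl fun θ _ => ?_
  rw [classInner_indFun_left Q f _ (isClassFunction_of_isIrrCharacter θ.2),
    classInner_indFun_left Q g _ (isClassFunction_of_isIrrCharacter θ.2)]

end Main

end Cfsg.Agent.Lib.Suz.Ind
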