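import Cfsg.Agent.Lib.Suz.Ind
import Cfsg.Agent.Lib.Char.Linear

/-!
# Real linear characters
-/

set_option autoImplicit false
set_option linter.style.haveILetI false
set_option linter.unusedSectionVars false

namespace Cfsg.Agent.Lib.Suz.LinD

open Cfsg Finset
open Cfsg.Agent.Lib.Char.Induced Cfsg.Agent.Lib.Char.Complete Cfsg.Agent.Lib.Char.Basic
  Cfsg.Agent.Lib.Char.Ortho Cfsg.Agent.Lib.Char.Linear
open scoped ComplexConjugate

universe u

section General

variable {T : Type u} [Group T]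

/-- The complex-valued function of a homomorphism to `±1`. -/
def hat (ν : T →* ℤˣ) (u : T) : ℂ := ((ν u : ℤ) : ℂ)

@[simp] theorem hat_one (ν : T →* ℤˣ) : hat ν 1 = 1 := by simp [hat]

theorem hat_mul (ν : T →* ℤˣ) (a b : T) : hat ν (a * b) = hat ν a * hat ν b := by
  simp [hat]

theorem hat_self_mul (ν : T →* ℤˣ) (a : T) : hat ν a * hat ν a = 1 := by
  rw [← hat_mul, hat]
  simp only [map_mul]
  have := Int.units_mul_self (ν a)
  rw [this]
  simp

theorem hat_conj (ν : T →* ℤˣ) (a : T) : conj (hat ν a) = hat ν a := by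
  simp [hat]

theorem hat_eq_or (ν : T →* ℤˣ) (a : T) : hat ν a = 1 ∨ hat ν a = -1 := by
  rcases Int.units_eq_one_or (ν a) with h | h <;> simp [hat, h]

theorem hat_eq_one_iff (ν : T →* ℤˣ) (a : T) : hat ν a = 1 ↔ ν a = 1 := by
  rcases Int.units_eq_one_or (ν a) with h | h
  · simp [hat, h]
  · simp only [hat, h]
    constructor
    · intro h1
      norm_num at h1
    · intro h1
      exact absurd h1 (by decide)

theorem hat_eq_neg_one (ν : T →* ℤˣ) {a : T} (h : ν a ≠ 1) : hat ν a = -1 := by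
  rcases hat_eq_or ν a with h1 | h1
  · exact absurd ((hat_eq_one_iff ν a).1 h1) h
  · exact h1

theorem hat_inj {ν ν' : T →* ℤˣ} (h : hat ν = hat ν') : ν = ν' := by
  ext a
  have h1 : hat ν a = hat ν' a := congrFun h a
  simp only [hat] at h1
  have h2 : ((ν a : ℤ)) = ((ν' a : ℤ)) := by exact_mod_cast h1
  exact h2

/-- The underlying hom to units of `ℂ`. -/
noncomputable def toC (ν : T →* ℤˣ) : T →* ℂˣ :=
  (Units.map ((Int.castRingHom ℂ : ℤ →+* ℂ) : ℤ →* ℂ)).comp ν

theorem coe_toC (ν : T →* ℤˣ) (a : T) : ((toC ν a : ℂˣ) : ℂ) = hat ν a := rfl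

theorem isIrr_hat (ν : T →* ℤˣ) : IsIrrCharacter T (hat ν) :=
  isIrrCharacter_of_hom (toC ν)

theorem isClass_hat (ν : T →* ℤˣ) : IsClassFunction T (hat ν) :=
  isClassFunction_of_isIrrCharacter (isIrr_hat ν)

theorem hat_comp (ν : T →* ℤˣ) (e : T ≃* T) : hat (ν.comp e.toMonoidHom) = hat ν ∘ e := rfl

section Finite

variable [Fintype T]

open scoped Classical in
/-- Orthogonality. -/
theorem inner_hat (ν ν' : T →* ℤˣ) : classInner (hat ν) (hat ν') = if ν = ν' then 1 else 0 := by
  rw [classInner_irr (isIrr_hat ν) (isIrr_hat ν')]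
  by_cases h : ν = ν'
  · rw [if_pos h, if_pos (by rw [h])]
  · rw [if_neg h, if_neg (fun h1 => h (hat_inj h1))]

theorem hat_one_hom : hat (1 : T →* ℤˣ) = fun _ => (1 : ℂ) := by
  funext a
  simp [hat]

open scoped Classical in
theorem sum_hat (ν : T →* ℤˣ) : ∑ u : T, hat ν u = if ν = 1 then (Nat.card T : ℂ) else 0 := by
  have h1 := inner_hat ν 1
  rw [classInner] at h1
  rw [hat_one_hom] at h1
  simp only [map_one, mul_one] at h1
  have hN : (Nat.card T : ℂ) ≠ 0 := by
    exact_mod_cast Nat.card_pos.ne'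
  by_cases h : ν = 1
  · rw [if_pos h] at h1 ⊢
    field_simp at h1
    exact h1
  · rw [if_neg h] at h1 ⊢
    simpa [hN] using h1

/-- The common kernel. -/
def KK (T : Type u) [Group T] : Subgroup T := ⨅ ν : T →* ℤˣ, ν.ker

theorem mem_KK {u : T} : u ∈ KK T ↔ ∀ ν : T →* ℤˣ, ν u = 1 := by
  simp [KK, Subgroup.mem_iInf, MonoidHom.mem_ker]

instance : Finite (T →* ℤˣ) := by
  have : Function.Injective (fun f : T →* ℤˣ => (f : T → ℤˣ)) := DFunLike.coe_injective
  exact Finite.of_injective _ this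

variable [Fintype (T →* ℤˣ)]

open scoped Classical in
/-- The sum over all homomorphisms. -/
theorem sum_over_hom (u : T) :
    ∑ ν : T →* ℤˣ, hat ν u = if u ∈ KK T then (Nat.card (T →* ℤˣ) : ℂ) else 0 := by
  by_cases hu : u ∈ KK T
  · rw [if_pos hu]
    have h1 : ∀ ν : T →* ℤˣ, hat ν u = 1 := fun ν => (hat_eq_one_iff ν u).2 (mem_KK.1 hu ν)
    simp [h1, Nat.card_eq_fintype_card]
  · rw [if_neg hu]
    simp only [mem_KK, not_forall] at hu
    obtain ⟨ν₀, hν₀⟩ := hu
    have h1 : ∑ ν : T →* ℤˣ, hat ν u = hat ν₀ u * ∑ ν : T →* ℤˣ, hat ν u := by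
      rw [mul_sum]
      refine Fintype.sum_equiv (Equiv.mulLeft ν₀) _ _ ?_
      intro ν
      have h2 : hat (ν₀ * ν) u = hat ν₀ u * hat ν u := by simp [hat]
      show hat ν u = hat ν₀ u * hat (ν₀ * ν) u
      rw [h2, ← mul_assoc, hat_self_mul, one_mul]
    rw [hat_eq_neg_one ν₀ hν₀] at h1
    have h2 : (2 : ℂ) * ∑ ν : T →* ℤˣ, hat ν u = 0 := by
      linear_combination h1
    simpa using h2

open scoped Classical in
/-- **Count**: `|D| |K| = |T|`. -/
theorem card_hom_mul : Nat.card (T →* ℤˣ) * Nat.card (KK T) = Nat.card T := by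
  have h1 : ∑ u : T, ∑ ν : T →* ℤˣ, hat ν u = (Nat.card T : ℂ) := by
    rw [sum_comm]
    simp only [sum_hat]
    rw [Finset.sum_ite_eq' univ (1 : T →* ℤˣ)]
    simp
  simp only [sum_over_hom] at h1
  rw [Finset.sum_ite, sum_const_zero, add_zero, sum_const, nsmul_eq_mul] at h1
  have h2 : (univ.filter (fun u : T => u ∈ KK T)).card = Nat.card (KK T) := by
    rw [Nat.card_eq_fintype_card, Fintype.card_subtype]
  rw [h2] at h1
  have h3 : ((Nat.card (KK T) * Nat.card (T →* ℤˣ) : ℕ) : ℂ) = ((Nat.card T : ℕ) : ℂ) := by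
    push_cast
    exact h1
  rw [mul_comm]
  exact_mod_cast h3

end Finite

/-- Existence of characters that separate from a normal subgroup containing the squares. -/
theorem exists_hom_of_sq [Finite T] (X : Subgroup T) [hX : X.Normal] (hsq : ∀ t, t * t ∈ X) {u : T}
    (hu : u ∉ X) : ∃ ν : T →* ℤˣ, ν u ≠ 1 := by
  classical
  have h2 : ∀ a : T ⧸ X, a * a = 1 := by
    intro a
    induction a using QuotientGroup.induction_on with
    | H t =>
      rw [← QuotientGroup.mk_mul, QuotientGroup.eq_one_iff]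
      exact hsq t
  have hab : ∀ a b : T ⧸ X, a * b = b * a := by
    intro a b
    have h3 := h2 (a * b)
    have h4 : a * b * (b * a) = 1 := by
      calc a * b * (b * a) = a * (b * b) * a := by group
        _ = 1 := by rw [h2 b, mul_one, h2 a]
    calc a * b = a * b * 1 := by rw [mul_one]
      _ = a * b * ((a * b) * (b * a)) := by rw [h4]
      _ = ((a * b) * (a * b)) * (b * a) := by group
      _ = b * a := by rw [h3, one_mul]
  letI : CommGroup (T ⧸ X) := { (inferInstance : Group (T ⧸ X)) with mul_comm := hab }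
  have hne : Additive.ofMul ((u : T ⧸ X)) ≠ 0 := by
    intro h
    have h3 : (u : T ⧸ X) = 1 := h
    exact hu ((QuotientGroup.eq_one_iff u).1 h3)
  haveI : Finite (Additive (T ⧸ X)) := inferInstanceAs (Finite (T ⧸ X))
  obtain ⟨ψ, hψ⟩ := AddChar.exists_apply_ne_zero.2 hne
  have hval : ∀ v : Additive (T ⧸ X), ψ v = 1 ∨ ψ v = -1 := by
    intro v
    have h3 : ψ v * ψ v = 1 := by
      rw [← AddChar.map_add_eq_mul]
      have h4 : v + v = 0 := h2 (Additive.toMul v)
      rw [h4, AddChar.map_zero_eq_one]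
    have h5 : (ψ v - 1) * (ψ v + 1) = 0 := by linear_combination h3
    rcases mul_eq_zero.1 h5 with h6 | h6
    · left; linear_combination h6
    · right; linear_combination h6
  let ν : T →* ℤˣ :=
    { toFun := fun t => if ψ (Additive.ofMul (t : T ⧸ X)) = 1 then 1 else -1
      map_one' := by
        have : ψ (Additive.ofMul ((1 : T) : T ⧸ X)) = 1 := AddChar.map_zero_eq_one ψ
        simp [this]
      map_mul' := by
        intro a b
        have h3 : ψ (Additive.ofMul ((a * b : T) : T ⧸ X))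
            = ψ (Additive.ofMul (a : T ⧸ X)) * ψ (Additive.ofMul (b : T ⧸ X)) := by
          rw [← AddChar.map_add_eq_mul]
          rfl
        rw [h3]
        have hne1 : (-1 : ℂ) ≠ 1 := by norm_num
        rcases hval (Additive.ofMul (a : T ⧸ X)) with h4 | h4 <;>
          rcases hval (Additive.ofMul (b : T ⧸ X)) with h5 | h5 <;>
          simp [h4, h5, hne1] }
  refine ⟨ν, ?_⟩
  have h3 : ψ (Additive.ofMul (u : T ⧸ X)) ≠ 1 := hψ
  have h4 : ν u = -1 := if_neg h3
  rw [h4]
  decide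

end General

end Cfsg.Agent.Lib.Suz.LinD
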