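import Mathlib
import Cfsg.Agent.Lib.SolvStruct.Fit

/-!
# Sections of a 2-group with a fixed-point-free group of operators

`Q` is a finite `2`-group (a subgroup of an ambient group `Γ`), `H` normalises `Q` and no non-identity
element of `H` centralises a non-identity element of `Q`.
-/

set_option autoImplicit false
set_option linter.style.haveILetI false
set_option linter.unusedSectionVars false

namespace Cfsg.Agent.Lib.Suz.Sect

variable {Γ : Type*} [Group Γ]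

/-- Invariance under conjugation. -/
def IsInv (H S : Subgroup Γ) : Prop := ∀ h ∈ H, ∀ x ∈ S, h * x * h⁻¹ ∈ S

/-- Commutator form. -/
abbrev cm (x y : Γ) : Γ := x * y * x⁻¹ * y⁻¹

/-- Fixed-point-freeness. -/
def IsFree (H Q : Subgroup Γ) : Prop := ∀ h ∈ H, h ≠ 1 → ∀ u ∈ Q, h * u = u * h → u = 1

theorem cm_inj {H Q : Subgroup Γ} (hF : IsFree H Q) {h : Γ} (hh : h ∈ H) (h1 : h ≠ 1) {u v : Γ}
    (hu : u ∈ Q) (hv : v ∈ Q) (huv : cm h u = cm h v) : u = v := by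
  have h2 : h * (v⁻¹ * u) = (v⁻¹ * u) * h := by
    have h3 : u * h⁻¹ * u⁻¹ = v * h⁻¹ * v⁻¹ := by
      have huv' : h * u * h⁻¹ * u⁻¹ = h * v * h⁻¹ * v⁻¹ := huv
      have : h⁻¹ * (h * u * h⁻¹ * u⁻¹) = h⁻¹ * (h * v * h⁻¹ * v⁻¹) := by rw [huv']
      simpa [mul_assoc] using this
    have h4 : (v⁻¹ * u) * h⁻¹ = h⁻¹ * (v⁻¹ * u) := by
      calc (v⁻¹ * u) * h⁻¹ = v⁻¹ * (u * h⁻¹ * u⁻¹) * u := by group
        _ = v⁻¹ * (v * h⁻¹ * v⁻¹) * u := by rw [h3]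
        _ = _ := by group
    calc h * (v⁻¹ * u) = h * ((v⁻¹ * u) * h⁻¹) * h := by group
      _ = h * (h⁻¹ * (v⁻¹ * u)) * h := by rw [h4]
      _ = _ := by group
  have h5 := hF h hh h1 _ (Q.mul_mem (Q.inv_mem hv) hu) h2
  exact (inv_mul_eq_one.1 h5).symm

/-- **Fixed-point-freeness on sections.** -/
theorem sec [Finite Γ] {H Q X : Subgroup Γ} (hF : IsFree H Q) (hXQ : X ≤ Q) (hX : IsInv H X) {h x : Γ}
    (hh : h ∈ H) (h1 : h ≠ 1) (hx : x ∈ Q) (hc : cm h x ∈ X) : x ∈ X := by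
  let f : X → X := fun v => ⟨cm h v, by
    have h2 := hX h hh _ v.2
    exact X.mul_mem h2 (X.inv_mem v.2)⟩
  have hf : Function.Injective f := by
    intro v w hvw
    apply Subtype.ext
    exact cm_inj hF hh h1 (hXQ v.2) (hXQ w.2) (congrArg Subtype.val hvw)
  have hs : Function.Surjective f := Finite.injective_iff_surjective.1 hf
  obtain ⟨v, hv⟩ := hs ⟨_, hc⟩
  have h2 : cm h (v : Γ) = cm h x := congrArg Subtype.val hv
  have h3 := cm_inj hF hh h1 (hXQ v.2) hx h2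
  rw [← h3]
  exact v.2

/-- Lower bound on the index of sections. -/
theorem card_le [Finite Γ] {H Q X X' : Subgroup Γ} (hF : IsFree H Q) (hXQ : X ≤ Q) (hX : IsInv H X)
    (hXn : ∀ u ∈ Q, ∀ x ∈ X, u * x * u⁻¹ ∈ X) (hXX' : X ≤ X') (hX'Q : X' ≤ Q) (hX' : IsInv H X')
    {x : Γ} (hx : x ∈ X') (hxX : x ∉ X) : (Nat.card H + 1) * Nat.card X ≤ Nat.card X' := by
  classical
  have hmem : ∀ (h : H) (v : X), (h : Γ) * x * (h : Γ)⁻¹ * v ∈ X' := fun h v =>
    X'.mul_mem (hX' h h.2 x hx) (hXX' v.2)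
  let f : (H × X) ⊕ X → X' := fun s => match s with
    | Sum.inl (h, v) => ⟨(h : Γ) * x * (h : Γ)⁻¹ * v, hmem h v⟩
    | Sum.inr v => ⟨v, hXX' v.2⟩
  have hnot : ∀ (h : H), (h : Γ) * x * (h : Γ)⁻¹ ∉ X := by
    intro h hmem'
    have h2 := hX _ (H.inv_mem h.2) _ hmem'
    apply hxX
    have h3 : (h : Γ)⁻¹ * ((h : Γ) * x * (h : Γ)⁻¹) * (h : Γ)⁻¹⁻¹ = x := by group
    rwa [h3] at h2
  have hf : Function.Injective f := by
    rintro (⟨h, v⟩ | v) (⟨k, w⟩ | w) hst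
    · have h1 : (h : Γ) * x * (h : Γ)⁻¹ * v = (k : Γ) * x * (k : Γ)⁻¹ * w :=
        congrArg Subtype.val hst
      -- the quotient lies in `X`
      have h2 : ((k : Γ)⁻¹ * h) * x * ((k : Γ)⁻¹ * h)⁻¹ * x⁻¹ ∈ X := by
        have h3 : (h : Γ) * x * (h : Γ)⁻¹ = (k : Γ) * x * (k : Γ)⁻¹ * (w * (v : Γ)⁻¹) := by
          calc (h : Γ) * x * (h : Γ)⁻¹ = ((h : Γ) * x * (h : Γ)⁻¹ * v) * (v : Γ)⁻¹ := by group
            _ = _ := by rw [h1]; group
        have h4 : ((k : Γ)⁻¹ * h) * x * ((k : Γ)⁻¹ * h)⁻¹ = x * ((k : Γ)⁻¹ * (w * (v : Γ)⁻¹) * k) := by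
          calc ((k : Γ)⁻¹ * h) * x * ((k : Γ)⁻¹ * h)⁻¹
              = (k : Γ)⁻¹ * ((h : Γ) * x * (h : Γ)⁻¹) * k := by group
            _ = _ := by rw [h3]; group
        rw [h4]
        have h5 : x * ((k : Γ)⁻¹ * (w * (v : Γ)⁻¹) * k) * x⁻¹ ∈ X := by
          apply hXn x (hX'Q hx)
          have := hX _ (H.inv_mem k.2) _ (X.mul_mem w.2 (X.inv_mem v.2))
          simpa using this
        exact h5
      have hhk : h = k := by
        by_contra hne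
        have h6 : (k : Γ)⁻¹ * h ≠ 1 := by
          intro h7
          apply hne
          apply Subtype.ext
          exact (inv_mul_eq_one.1 h7).symm
        exact hxX (sec hF hXQ hX (H.mul_mem (H.inv_mem k.2) h.2) h6 (hX'Q hx) h2)
      subst hhk
      have hvw : (v : Γ) = w := mul_left_cancel h1
      have : v = w := Subtype.ext hvw
      rw [this]
    · exfalso
      have h1 : (h : Γ) * x * (h : Γ)⁻¹ * v = w := congrArg Subtype.val hst
      apply hnot h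
      have h2 : (h : Γ) * x * (h : Γ)⁻¹ = w * (v : Γ)⁻¹ := by
        rw [← h1]; group
      rw [h2]
      exact X.mul_mem w.2 (X.inv_mem v.2)
    · exfalso
      have h1 : (v : Γ) = (k : Γ) * x * (k : Γ)⁻¹ * w := congrArg Subtype.val hst
      apply hnot k
      have h2 : (k : Γ) * x * (k : Γ)⁻¹ = v * (w : Γ)⁻¹ := by
        rw [h1]; group
      rw [h2]
      exact X.mul_mem v.2 (X.inv_mem w.2)
    · have h1 : (v : Γ) = w := congrArg (fun z : X' => (z : Γ)) hst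
      have : v = w := Subtype.ext h1
      rw [this]
  have h := Nat.card_le_card_of_injective f hf
  rw [Nat.card_sum, Nat.card_prod] at h
  calc (Nat.card H + 1) * Nat.card X = Nat.card H * Nat.card X + Nat.card X := by ring
    _ ≤ _ := h

/-- Sections: `T / X` is central and elementary abelian in `Q / X`. -/
structure IsSect (Q H X T : Subgroup Γ) : Prop where
  le : X ≤ T
  leQ : T ≤ Q
  inv : IsInv H T
  sq : ∀ t ∈ T, t * t ∈ X
  comm : ∀ t ∈ T, ∀ u ∈ Q, cm t u ∈ X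

theorem IsSect.normal {Q H X T : Subgroup Γ} (hS : IsSect Q H X T) {u t : Γ} (hu : u ∈ Q) (ht : t ∈ T) :
    u * t * u⁻¹ ∈ T := by
  have h1 := hS.le (hS.comm t ht u hu)
  -- `t u t⁻¹ u⁻¹ ∈ T`, so `u t⁻¹ u⁻¹ ∈ T`
  have h2 : u * t⁻¹ * u⁻¹ = t⁻¹ * cm t u := by
    simp only [cm]; group
  have h3 : u * t⁻¹ * u⁻¹ ∈ T := by
    rw [h2]
    exact T.mul_mem (T.inv_mem ht) h1
  have h4 : u * t * u⁻¹ = (u * t⁻¹ * u⁻¹)⁻¹ := by group
  rw [h4]
  exact T.inv_mem h3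

/-- A central section inside a normal subgroup. -/
theorem exists_central_elt [Finite Γ] {Q X C : Subgroup Γ} (hQ : IsPGroup 2 Q) (hXC : X ≤ C)
    (hCQ : C ≤ Q) (hXn : ∀ u ∈ Q, ∀ x ∈ X, u * x * u⁻¹ ∈ X) (hCn : ∀ u ∈ Q, ∀ x ∈ C, u * x * u⁻¹ ∈ C)
    (hne : X ≠ C) : ∃ x ∈ C, x ∉ X ∧ x * x ∈ X ∧ ∀ u ∈ Q, cm x u ∈ X := by
  classical
  haveI : Fact (Nat.Prime 2) := ⟨Nat.prime_two⟩
  let X' : Subgroup Q := X.subgroupOf Q
  haveI hX'n : X'.Normal := by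
    refine ⟨fun n hn g => ?_⟩
    rw [Subgroup.mem_subgroupOf] at hn ⊢
    exact hXn g g.2 n hn
  let π : Q →* Q ⧸ X' := QuotientGroup.mk' X'
  have hπs : Function.Surjective π := QuotientGroup.mk'_surjective X'
  let C' : Subgroup (Q ⧸ X') := (C.subgroupOf Q).map π
  haveI hC'n : C'.Normal := by
    refine Subgroup.Normal.map ?_ π hπs
    refine ⟨fun n hn g => ?_⟩
    rw [Subgroup.mem_subgroupOf] at hn ⊢
    exact hCn g g.2 n hn
  haveI hnil : Group.IsNilpotent (Q ⧸ X') := by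
    have hp : IsPGroup 2 (Q ⧸ X') := IsPGroup.to_quotient hQ X'
    exact hp.isNilpotent
  have hC'ne : C' ≠ ⊥ := by
    intro hbot
    apply hne
    apply le_antisymm hXC
    intro c hc
    have h1 : π ⟨c, hCQ hc⟩ ∈ C' := ⟨⟨c, hCQ hc⟩, hc, rfl⟩
    rw [hbot, Subgroup.mem_bot] at h1
    have h2 : (⟨c, hCQ hc⟩ : Q) ∈ X' := (QuotientGroup.eq_one_iff _).1 h1
    exact h2
  have h1 := Cfsg.Agent.Lib.SolvStruct.Fit.inf_center_ne_bot C' hC'ne
  -- element of order two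
  haveI : Nontrivial ↥(C' ⊓ Subgroup.center (Q ⧸ X')) := (Subgroup.nontrivial_iff_ne_bot _).2 h1
  have hdvd : 2 ∣ Nat.card ↥(C' ⊓ Subgroup.center (Q ⧸ X')) := by
    have hp : IsPGroup 2 ↥(C' ⊓ Subgroup.center (Q ⧸ X')) :=
      IsPGroup.to_subgroup (IsPGroup.to_quotient hQ X') _
    rcases hp.card_eq_or_dvd with h | h
    · exact absurd h Finite.one_lt_card.ne'
    · exact h
  obtain ⟨y, hy⟩ := exists_prime_orderOf_dvd_card' (p := 2) (G := ↥(C' ⊓ Subgroup.center (Q ⧸ X'))) hdvd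
  have hyC : (y : Q ⧸ X') ∈ C' := y.2.1
  have hyZ : (y : Q ⧸ X') ∈ Subgroup.center (Q ⧸ X') := y.2.2
  obtain ⟨⟨x, hxQ⟩, hxC, hxy⟩ := hyC
  have hxC' : x ∈ C := hxC
  refine ⟨x, hxC', ?_, ?_, ?_⟩
  · intro hxX
    have h2 : (⟨x, hxQ⟩ : Q) ∈ X' := hxX
    have h3 : π ⟨x, hxQ⟩ = 1 := (QuotientGroup.eq_one_iff _).2 h2
    rw [h3] at hxy
    have h4 : y = 1 := Subtype.ext hxy.symm
    rw [h4, orderOf_one] at hy
    omega
  · have h2 : y ^ 2 = 1 := by rw [← hy, pow_orderOf_eq_one]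
    have h3 : (y : Q ⧸ X') * y = 1 := by
      have := congrArg Subtype.val h2
      simpa [pow_two] using this
    rw [← hxy, ← map_mul] at h3
    have h4 : ((⟨x, hxQ⟩ : Q) * ⟨x, hxQ⟩) ∈ X' := (QuotientGroup.eq_one_iff _).1 h3
    exact h4
  · intro u hu
    have h2 := (Subgroup.mem_center_iff.1 hyZ) (π ⟨u, hu⟩)
    rw [← hxy, ← map_mul, ← map_mul] at h2
    have h3 : (⟨u, hu⟩ * ⟨x, hxQ⟩ : Q)⁻¹ * (⟨x, hxQ⟩ * ⟨u, hu⟩) ∈ X' :=
      QuotientGroup.eq.1 h2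
    have h4 : x⁻¹ * u⁻¹ * x * u ∈ X := by
      have : (u * x)⁻¹ * (x * u) ∈ X := h3
      simpa [mul_assoc] using this
    -- conjugate by `x`, `u`
    have h5 := hXn (x * u) (Q.mul_mem hxQ hu) _ (X.inv_mem h4)
    have h6 : (x * u * (x⁻¹ * u⁻¹ * x * u)⁻¹ * (x * u)⁻¹)⁻¹ = cm x u := by
      simp only [cm]; group
    rw [← h6]
    exact X.inv_mem h5

/-- Existence of a minimal section. -/
theorem exists_minimal_section [Finite Γ] {Q H X C : Subgroup Γ} (hQ : IsPGroup 2 Q) (hXC : X ≤ C)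
    (hCQ : C ≤ Q) (hXn : ∀ u ∈ Q, ∀ x ∈ X, u * x * u⁻¹ ∈ X) (hCn : ∀ u ∈ Q, ∀ x ∈ C, u * x * u⁻¹ ∈ C)
    (hQinv : IsInv H Q) (hX : IsInv H X) (hC : IsInv H C) (hne : X ≠ C) :
    ∃ T, T ≤ C ∧ X ≠ T ∧ IsSect Q H X T ∧
      ∀ T' : Subgroup Γ, X ≤ T' → T' ≤ T → IsInv H T' → T' = X ∨ T' = T := by
  classical
  have hXQ : X ≤ Q := hXC.trans hCQ
  obtain ⟨x₀, hx₀C, hx₀X, hx₀s, hx₀c⟩ := exists_central_elt hQ hXC hCQ hXn hCn hne
  -- the largest section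
  let T₀ : Subgroup Γ :=
    { carrier := {t | t ∈ C ∧ t * t ∈ X ∧ ∀ u ∈ Q, cm t u ∈ X}
      one_mem' := ⟨C.one_mem, by simpa using X.one_mem, fun u _ => by
        have h1 : cm (1 : Γ) u = 1 := by simp [cm]
        rw [h1]
        exact X.one_mem⟩
      mul_mem' := by
        rintro a b ⟨ha, has, hac⟩ ⟨hb, hbs, hbc⟩
        refine ⟨C.mul_mem ha hb, ?_, ?_⟩
        · have h1 : a * b * (a * b) = a * (cm b a) * a⁻¹ * (a * a) * (b * b) := by
            simp only [cm]; group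
          rw [h1]
          refine X.mul_mem (X.mul_mem ?_ has) hbs
          exact hXn a (hCQ ha) _ (hbc a (hCQ ha))
        · intro u hu
          have h1 : cm (a * b) u = a * (cm b u) * a⁻¹ * cm a u := by
            simp only [cm]; group
          rw [h1]
          exact X.mul_mem (hXn a (hCQ ha) _ (hbc u hu)) (hac u hu)
      inv_mem' := by
        rintro a ⟨ha, has, hac⟩
        refine ⟨C.inv_mem ha, ?_, ?_⟩
        · have h1 : a⁻¹ * a⁻¹ = (a * a)⁻¹ := by group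
          rw [h1]
          exact X.inv_mem has
        · intro u hu
          have h1 : cm a⁻¹ u = a⁻¹ * (cm a u)⁻¹ * a⁻¹⁻¹ := by
            simp only [cm]; group
          rw [h1]
          exact hXn _ (Q.inv_mem (hCQ ha)) _ (X.inv_mem (hac u hu)) }
  have hT₀S : IsSect Q H X T₀ := by
    refine ⟨?_, ?_, ?_, ?_, ?_⟩
    · intro x hx
      refine ⟨hXC hx, X.mul_mem hx hx, fun u hu => ?_⟩
      have h1 : cm x u = x * (u * x⁻¹ * u⁻¹) := by
        simp only [cm]; group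
      rw [h1]
      exact X.mul_mem hx (hXn u hu _ (X.inv_mem hx))
    · intro t ht
      exact hCQ ht.1
    · rintro h hh t ⟨ht, hts, htc⟩
      refine ⟨hC h hh t ht, ?_, ?_⟩
      · have h1 : h * t * h⁻¹ * (h * t * h⁻¹) = h * (t * t) * h⁻¹ := by group
        rw [h1]
        exact hX h hh _ hts
      · intro u hu
        have h1 : cm (h * t * h⁻¹) u = h * cm t (h⁻¹ * u * h⁻¹⁻¹) * h⁻¹ := by
          simp only [cm]; group
        rw [h1]
        exact hX h hh _ (htc _ (hQinv _ (H.inv_mem hh) u hu))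
    · intro t ht
      exact ht.2.1
    · intro t ht
      exact ht.2.2
  have hT₀ne : X ≠ T₀ := by
    intro h
    apply hx₀X
    rw [h]
    exact ⟨hx₀C, hx₀s, hx₀c⟩
  have hT₀C : T₀ ≤ C := fun t ht => ht.1
  let S : Set (Subgroup Γ) := {T | T ≤ C ∧ X ≠ T ∧ IsSect Q H X T}
  have hSne : S.Nonempty := ⟨T₀, hT₀C, hT₀ne, hT₀S⟩
  obtain ⟨T, hT, hmin⟩ := WellFounded.has_min (measure (fun T : Subgroup Γ => Nat.card T)).wf S hSne
  refine ⟨T, hT.1, hT.2.1, hT.2.2, ?_⟩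
  intro T' hXT' hT'T hT'inv
  by_cases hT'X : T' = X
  · exact Or.inl hT'X
  right
  have hT'S : T' ∈ S := by
    refine ⟨hT'T.trans hT.1, Ne.symm hT'X, hXT', hT'T.trans hT.2.2.leQ, hT'inv, ?_, ?_⟩
    · exact fun t ht => hT.2.2.sq t (hT'T ht)
    · exact fun t ht => hT.2.2.comm t (hT'T ht)
  have h1 := hmin T' hT'S
  have h2 : ¬ Nat.card T' < Nat.card T := h1
  exact Subgroup.eq_of_le_of_card_ge hT'T (not_lt.1 h2)

end Cfsg.Agent.Lib.Suz.Sect
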