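import Cfsg.Agent.Lib.Suz.LinD
import Cfsg.Agent.Lib.Suz.Sect
import Cfsg.Agent.Lib.Char.FrobSchur

/-!
# Multiplicities of real linear characters in irreducible characters
-/

set_option autoImplicit false
set_option linter.style.haveILetI false
set_option linter.unusedSectionVars false

namespace Cfsg.Agent.Lib.Suz.Mult

open Cfsg Finset
open Cfsg.Agent.Lib.Char.Induced Cfsg.Agent.Lib.Char.Complete Cfsg.Agent.Lib.Char.Basic
  Cfsg.Agent.Lib.Char.Ortho Cfsg.Agent.Lib.Char.Linear Cfsg.Agent.Lib.Char.Conj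
  Cfsg.Agent.Lib.Char.FrobSchur
open Cfsg.Agent.Lib.Suz.Ind Cfsg.Agent.Lib.Suz.LinD Cfsg.Agent.Lib.Suz.Sect
open scoped ComplexConjugate

universe u

variable {G : Type u} [Group G] {Q H : Subgroup G}

/-- The action on real linear characters. -/
def act (sc : SC Q H) (h : H) (ν : Q →* ℤˣ) : Q →* ℤˣ := ν.comp (cq sc h).toMonoidHom

@[simp] theorem act_apply (sc : SC Q H) (h : H) (ν : Q →* ℤˣ) (u : Q) :
    act sc h ν u = ν (cq sc h u) := rfl

theorem hat_act (sc : SC Q H) (h : H) (ν : Q →* ℤˣ) : hat (act sc h ν) = hat ν ∘ cq sc h := rfl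

theorem act_one (sc : SC Q H) (ν : Q →* ℤˣ) : act sc 1 ν = ν := by
  ext u
  simp [cq_one]

theorem act_mul (sc : SC Q H) (h k : H) (ν : Q →* ℤˣ) : act sc (h * k) ν = act sc h (act sc k ν) := by
  ext u
  simp only [act_apply, cq_mul]

theorem act_eq_iff (sc : SC Q H) {h : H} {ν ν' : Q →* ℤˣ} : act sc h ν = ν' ↔ ν = act sc h⁻¹ ν' := by
  constructor
  · rintro rfl
    rw [← act_mul, inv_mul_cancel, act_one]
  · rintro rfl
    rw [← act_mul, mul_inv_cancel, act_one]

/-- The action is free off the principal character. -/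
theorem act_free [Finite G] (sc : SC Q H) (hF : IsFree H Q) {h : H} (h1 : h ≠ 1) {ν : Q →* ℤˣ}
    (hν : act sc h ν = ν) : ν = 1 := by
  classical
  have hh : (h : G)⁻¹ ∈ H := H.inv_mem h.2
  have hh1 : (h : G)⁻¹ ≠ 1 := by
    intro h2
    apply h1
    apply Subtype.ext
    simpa using h2
  -- commutators exhaust `Q`
  let f : Q → Q := fun u => cq sc h u * u⁻¹
  have hf : Function.Injective f := by
    intro u v huv
    apply Subtype.ext
    have h2 : cm ((h : G)⁻¹) (u : G) = cm ((h : G)⁻¹) (v : G) := by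
      have h3 : (f u : G) = f v := congrArg (fun z : Q => (z : G)) huv
      simpa [f, cm] using h3
    exact cm_inj hF hh hh1 u.2 v.2 h2
  have hs : Function.Surjective f := Finite.injective_iff_surjective.1 hf
  ext w
  obtain ⟨u, rfl⟩ := hs w
  have h2 : ν (cq sc h u) = ν u := by
    have := DFunLike.congr_fun hν u
    simpa using this
  simp only [f, map_mul, map_inv, h2, mul_inv_cancel]
  rfl

section Main

variable [Fintype G] [Fintype Q] [Fintype H] [Fintype (IrrCharacter G)]

/-- Restriction of an irreducible character. -/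
def res (θ : IrrCharacter G) : Q → ℂ := fun u : Q => (θ : G → ℂ) u

theorem res_cq (sc : SC Q H) (θ : IrrCharacter G) (h : H) : res θ ∘ cq sc h = (res θ : Q → ℂ) := by
  funext u
  have := isClassFunction_of_isIrrCharacter θ.2 (u : G) (h : G)⁻¹
  simpa [res] using this

theorem isCharacter_res (θ : IrrCharacter G) : IsCharacter Q (res θ : Q → ℂ) :=
  isCharacter_restrict Q (isCharacter_of_isIrrCharacter θ.2)

/-- Multiplicity as a complex number. -/
noncomputable def mc (θ : IrrCharacter G) (ν : Q →* ℤˣ) : ℂ := classInner (hat ν) (res θ)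

theorem exists_nat_mc (θ : IrrCharacter G) (ν : Q →* ℤˣ) : ∃ n : ℕ, mc θ ν = n :=
  exists_nat_classInner (isCharacter_of_isIrrCharacter (isIrr_hat ν)) (isCharacter_res θ)

/-- Multiplicity as a natural number. -/
noncomputable def mn (θ : IrrCharacter G) (ν : Q →* ℤˣ) : ℕ := (exists_nat_mc θ ν).choose

theorem mc_eq (θ : IrrCharacter G) (ν : Q →* ℤˣ) : mc θ ν = mn θ ν := (exists_nat_mc θ ν).choose_spec

theorem mn_act (sc : SC Q H) (θ : IrrCharacter G) (h : H) (ν : Q →* ℤˣ) :
    mn θ (act sc h ν) = mn θ ν := by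
  have h1 : mc θ (act sc h ν) = mc θ ν := by
    rw [mc, mc, hat_act, ← classInner_comp_mulEquiv (cq sc h) (hat ν) (res θ), res_cq]
  rw [mc_eq, mc_eq] at h1
  exact_mod_cast h1

open scoped Classical in
/-- **First multiplicity formula.** -/
theorem sum_mn_mul (sc : SC Q H) (ν ν' : Q →* ℤˣ) :
    ∑ θ : IrrCharacter G, mn θ ν * mn θ ν'
      = Nat.card H + (univ.filter (fun h : H => ν = act sc h ν')).card := by
  have h1 := mackey sc (hat ν) (isClass_hat ν')
  rw [parseval] at h1
  have h2 : ∑ h : H, classInner (hat ν) (hat ν' ∘ cq sc h)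
      = ((univ.filter (fun h : H => ν = act sc h ν')).card : ℂ) := by
    have h3 : ∀ h : H, classInner (hat ν) (hat ν' ∘ cq sc h) = if ν = act sc h ν' then 1 else 0 := by
      intro h
      rw [← hat_act, inner_hat]
    simp only [h3]
    rw [Finset.sum_boole]
  rw [h2] at h1
  simp only [hat_one, map_one, mul_one] at h1
  have h4 : ∀ θ : IrrCharacter G, classInner (hat ν) (fun u : Q => (θ : G → ℂ) u)
      * conj (classInner (hat ν') (fun u : Q => (θ : G → ℂ) u)) = ((mn θ ν * mn θ ν' : ℕ) : ℂ) := by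
    intro θ
    have h5 := mc_eq θ ν
    have h6 := mc_eq θ ν'
    simp only [mc] at h5 h6
    show classInner (hat ν) (res θ) * conj (classInner (hat ν') (res θ)) = _
    rw [h5, h6]
    simp
  simp only [h4] at h1
  have h7 : ((∑ θ : IrrCharacter G, mn θ ν * mn θ ν' : ℕ) : ℂ)
      = ((Nat.card H + (univ.filter (fun h : H => ν = act sc h ν')).card : ℕ) : ℂ) := by
    push_cast
    push_cast at h1
    rw [h1]
    ring
  exact_mod_cast h7

/-- The Frobenius--Schur indicator. -/
noncomputable def fsv (θ : IrrCharacter G) : ℂ :=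
  (Nat.card G : ℂ)⁻¹ * ∑ s : G, (θ : G → ℂ) (s * s)

theorem fsv_cases (θ : IrrCharacter G) :
    ∃ z : ℤ, (z = 0 ∨ z = 1 ∨ z = -1) ∧ fsv θ = z ∧ (z = 0 ↔ ∃ s : G, ((θ : G → ℂ) s).im ≠ 0) := by
  obtain ⟨χ, n, ρ, hρ, rfl⟩ := θ
  obtain ⟨h1, h2⟩ := frobeniusSchur ρ hρ
  simp only [fsv]
  rcases h1 with h | h | h
  · exact ⟨0, Or.inl rfl, by simpa using h, ⟨fun _ => h2.1 h, fun _ => rfl⟩⟩
  · refine ⟨1, Or.inr (Or.inl rfl), by simpa using h, ?_⟩
    constructor
    · intro h3; omega
    · intro h3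
      have := h2.2 h3
      rw [h] at this
      norm_num at this
  · refine ⟨-1, Or.inr (Or.inr rfl), by simpa using h, ?_⟩
    constructor
    · intro h3; omega
    · intro h3
      have := h2.2 h3
      rw [h] at this
      norm_num at this

/-- The indicator as an integer. -/
noncomputable def fz (θ : IrrCharacter G) : ℤ := (fsv_cases θ).choose

theorem fz_cases (θ : IrrCharacter G) : fz θ = 0 ∨ fz θ = 1 ∨ fz θ = -1 :=
  (fsv_cases θ).choose_spec.1

theorem fsv_eq (θ : IrrCharacter G) : fsv θ = fz θ := (fsv_cases θ).choose_spec.2.1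

theorem fz_eq_zero_iff (θ : IrrCharacter G) : fz θ = 0 ↔ ∃ s : G, ((θ : G → ℂ) s).im ≠ 0 :=
  (fsv_cases θ).choose_spec.2.2

/-- Sum of products against `ν`. -/
theorem sum_char_mul_hat (θ : IrrCharacter G) (ν : Q →* ℤˣ) :
    ∑ u : Q, (θ : G → ℂ) u * hat ν u = (Nat.card Q : ℂ) * mn θ ν := by
  have h1 := mc_eq θ ν
  have h2 : conj (mc θ ν) = (mn θ ν : ℂ) := by rw [h1]; simp
  rw [mc, classInner_subgroup_eq, map_mul, map_sum, map_inv₀, map_natCast] at h2
  have hN := card_subgroup_ne_zero Q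
  have h3 : ∑ u : Q, conj (hat ν u * conj (res θ u)) = ∑ u : Q, (θ : G → ℂ) u * hat ν u := by
    refine sum_congr rfl fun u _ => ?_
    rw [map_mul, Complex.conj_conj, hat_conj, mul_comm]
    rfl
  rw [h3] at h2
  rw [← h2]
  field_simp

open scoped Classical in
/-- **Second multiplicity formula.** -/
theorem sum_fz_mn (hsq : ∀ s : G, s * s ∈ Q → s * s ≠ 1 → s ∈ Q) {c : ℕ}
    (hcount : (univ.filter (fun s : G => s * s ∈ Q)).card = Nat.card Q * c) (ν : Q →* ℤˣ) :
    ∑ θ : IrrCharacter G, fz θ * (mn θ ν : ℤ) = c := by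
  have hN := card_subgroup_ne_zero Q
  -- count
  have h1 : ∀ u : Q, (Nat.card {s : G // s * s = (u : G)} : ℂ) * hat ν u
      = (Nat.card {s : G // s * s = (u : G)} : ℂ) := by
    intro u
    by_cases hne : Nonempty {s : G // s * s = (u : G)}
    · obtain ⟨⟨s, hs⟩⟩ := hne
      have h2 : hat ν u = 1 := by
        by_cases hu : (u : G) = 1
        · have : u = 1 := Subtype.ext hu
          rw [this, hat_one]
        · have hsQ : s ∈ Q := hsq s (by rw [hs]; exact u.2) (by rw [hs]; exact hu)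
          have : u = ⟨s, hsQ⟩ * ⟨s, hsQ⟩ := by
            apply Subtype.ext
            exact hs.symm
          rw [this, hat_mul, hat_self_mul]
      rw [h2, mul_one]
    · haveI : IsEmpty {s : G // s * s = (u : G)} := not_nonempty_iff.1 hne
      simp
  have h2 : ∑ u : Q, (Nat.card {s : G // s * s = (u : G)} : ℂ)
      = ((univ.filter (fun s : G => s * s ∈ Q)).card : ℂ) := by
    have h3 : (univ.filter (fun s : G => s * s ∈ Q)).card
        = ∑ u : Q, (univ.filter (fun s : G => s * s = (u : G))).card := by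
      have h4 := Finset.card_eq_sum_card_fiberwise (s := univ.filter (fun s : G => s * s ∈ Q))
        (t := (univ : Finset Q)) (f := fun s : G => if h : s * s ∈ Q then (⟨s * s, h⟩ : Q) else 1)
        (fun _ _ => Finset.mem_coe.2 (mem_univ _))
      rw [h4]
      refine sum_congr rfl fun u _ => ?_
      congr 1
      ext s
      simp only [mem_filter, mem_univ, true_and]
      constructor
      · rintro ⟨hs, hs2⟩
        rw [dif_pos hs] at hs2
        exact congrArg (fun z : Q => (z : G)) hs2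
      · intro hs
        have hs' : s * s ∈ Q := by rw [hs]; exact u.2
        refine ⟨hs', ?_⟩
        rw [dif_pos hs']
        exact Subtype.ext hs
    rw [h3]
    push_cast
    refine sum_congr rfl fun u _ => ?_
    rw [Nat.card_eq_fintype_card, Fintype.card_subtype]
  have h3 : ∑ u : Q, (Nat.card {s : G // s * s = (u : G)} : ℂ) * hat ν u
      = ∑ θ : IrrCharacter G, conj (fsv θ) * ((Nat.card Q : ℂ) * mn θ ν) := by
    have h4 : ∀ u : Q, (Nat.card {s : G // s * s = (u : G)} : ℂ) * hat ν u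
        = ∑ θ : IrrCharacter G, conj (fsv θ) * ((θ : G → ℂ) u * hat ν u) := by
      intro u
      rw [card_sqrt_eq (u : G), sum_mul]
      refine sum_congr rfl fun θ _ => ?_
      rw [fsv, mul_assoc]
    simp only [h4]
    rw [sum_comm]
    refine sum_congr rfl fun θ _ => ?_
    rw [← mul_sum, sum_char_mul_hat]
  simp only [h1] at h3
  rw [h2, hcount] at h3
  have h5 : ∀ θ : IrrCharacter G, conj (fsv θ) * ((Nat.card Q : ℂ) * mn θ ν)
      = (Nat.card Q : ℂ) * (((fz θ * (mn θ ν : ℤ) : ℤ)) : ℂ) := by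
    intro θ
    rw [fsv_eq]
    simp
    ring
  simp only [h5] at h3
  rw [← mul_sum] at h3
  push_cast at h3
  have h6 : (c : ℂ) = ∑ θ : IrrCharacter G, ((fz θ : ℂ) * (mn θ ν : ℂ)) := by
    apply mul_left_cancel₀ hN
    exact h3
  have h7 : ((∑ θ : IrrCharacter G, fz θ * (mn θ ν : ℤ) : ℤ) : ℂ) = ((c : ℤ) : ℂ) := by
    push_cast
    exact h6.symm
  exact_mod_cast h7

open scoped Classical in
/-- **Multiplicities are at most one, and real.** -/
theorem mn_cases (sc : SC Q H) (hF : IsFree H Q) (hsq : ∀ s : G, s * s ∈ Q → s * s ≠ 1 → s ∈ Q)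
    (hcount : (univ.filter (fun s : G => s * s ∈ Q)).card = Nat.card Q * (Nat.card H + 1))
    {ν : Q →* ℤˣ} (hν : ν ≠ 1) (θ : IrrCharacter G) :
    mn θ ν = 0 ∨ (mn θ ν = 1 ∧ fz θ = 1) := by
  classical
  have h1 := sum_mn_mul sc ν ν
  have h2 : (univ.filter (fun h : H => ν = act sc h ν)).card = 1 := by
    rw [card_eq_one]
    refine ⟨1, ?_⟩
    ext h
    simp only [mem_filter, mem_univ, true_and, mem_singleton]
    constructor
    · intro h3
      by_contra h4
      exact hν (act_free sc hF h4 h3.symm)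
    · rintro rfl
      rw [act_one]
  rw [h2] at h1
  have h3 := sum_fz_mn (ν := ν) hsq hcount
  have h4 : ∑ θ : IrrCharacter G, ((mn θ ν : ℤ) * mn θ ν - fz θ * mn θ ν) = 0 := by
    rw [sum_sub_distrib, h3]
    have : ((∑ θ : IrrCharacter G, mn θ ν * mn θ ν : ℕ) : ℤ) = ((Nat.card H + 1 : ℕ) : ℤ) := by
      rw [h1]
    push_cast at this
    rw [this]
    push_cast
    ring
  have hnn : ∀ θ ∈ (univ : Finset (IrrCharacter G)), 0 ≤ ((mn θ ν : ℤ) * mn θ ν - fz θ * mn θ ν) := by
    intro θ _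
    have h5 := fz_cases θ
    have h6 : fz θ ≤ 1 := by omega
    have h7 : (0 : ℤ) ≤ mn θ ν := by positivity
    rcases Nat.eq_zero_or_pos (mn θ ν) with h8 | h8
    · simp [h8]
    · have h9 : (1 : ℤ) ≤ mn θ ν := by exact_mod_cast h8
      nlinarith
  have h5 := (Finset.sum_eq_zero_iff_of_nonneg hnn).1 h4 θ (mem_univ _)
  have h6 : (mn θ ν : ℤ) * (mn θ ν - fz θ) = 0 := by linarith
  rcases mul_eq_zero.1 h6 with h7 | h7
  · left
    exact_mod_cast h7
  · have h8 := fz_cases θ
    have h9 : (0 : ℤ) ≤ mn θ ν := by positivity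
    rcases h8 with h8 | h8 | h8
    · left
      rw [h8] at h7
      have : (mn θ ν : ℤ) = 0 := by linarith
      exact_mod_cast this
    · right
      rw [h8] at h7
      have : (mn θ ν : ℤ) = 1 := by linarith
      exact ⟨by exact_mod_cast this, h8⟩
    · exfalso
      rw [h8] at h7
      linarith

end Main

end Cfsg.Agent.Lib.Suz.Mult
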