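import Cfsg.Agent.Lib.Suz.Mult
import Cfsg.Agent.Lib.Char.Degree

/-!
# Characters without `Q`-fixed vectors

* `vanish`: such a character vanishes on the non-identity elements of `H`.
* `exists_deg_eq`: its degree is a multiple of `|H|`.
* `parity_real`: a real character of a `2`-group has degree congruent to the sum of the multiplicities
  of the real linear characters.
-/

set_option autoImplicit false
set_option linter.style.haveILetI false
set_option linter.unusedSectionVars false

namespace Cfsg.Agent.Lib.Suz.NonSp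

open Cfsg Finset Module
open Cfsg.Agent.Lib.Char.Induced Cfsg.Agent.Lib.Char.Complete Cfsg.Agent.Lib.Char.Basic
  Cfsg.Agent.Lib.Char.Ortho Cfsg.Agent.Lib.Char.Linear Cfsg.Agent.Lib.Char.Conj
  Cfsg.Agent.Lib.Char.FrobSchur Cfsg.Agent.Lib.Char.Degree
open Cfsg.Agent.Lib.Suz.Ind Cfsg.Agent.Lib.Suz.LinD Cfsg.Agent.Lib.Suz.Sect
  Cfsg.Agent.Lib.Suz.Mult
open scoped ComplexConjugate

universe u

section Op

variable {G : Type u} [Group G] {V : Type*} [AddCommGroup V] [Module ℂ V] [FiniteDimensional ℂ V]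

/-- If the character sums to zero over a subgroup, the group average vanishes. -/
theorem sum_rep_eq_zero (ρ : Representation ℂ G V) (Q : Subgroup G) [Fintype Q] [Finite G]
    (h : ∑ u : Q, ρ.character (u : G) = 0) : ∑ u : Q, ρ (u : G) = 0 := by
  classical
  set P : V →ₗ[ℂ] V := ∑ u : Q, ρ (u : G) with hP
  have hN : (Nat.card Q : ℂ) ≠ 0 := by
    exact_mod_cast Nat.card_pos.ne'
  have hv : ∀ v : Q, ρ (v : G) * P = P := by
    intro v
    rw [hP, Finset.mul_sum]
    refine Fintype.sum_equiv (Equiv.mulLeft v) _ _ ?_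
    intro u
    show ρ (v : G) * ρ (u : G) = ρ ((v * u : Q) : G)
    rw [Subgroup.coe_mul, map_mul]
  have hPP : P * P = (Nat.card Q : ℂ) • P := by
    have h1 : P * P = ∑ u : Q, ρ (u : G) * P := Finset.sum_mul _ _ _
    rw [h1]
    simp only [hv, sum_const, card_univ]
    rw [Nat.card_eq_fintype_card]
    rw [Nat.cast_smul_eq_nsmul]
  set T : V →ₗ[ℂ] V := (Nat.card Q : ℂ)⁻¹ • P with hT
  have hTT : T * T = T := by
    rw [hT, smul_mul_smul_comm, hPP, smul_smul, mul_assoc, inv_mul_cancel₀ hN, mul_one]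
  have hproj : LinearMap.IsProj (LinearMap.range T) T := by
    refine ⟨fun v => LinearMap.mem_range_self T v, ?_⟩
    rintro _ ⟨v, rfl⟩
    have := congrArg (fun S : V →ₗ[ℂ] V => S v) hTT
    exact this
  have htr : LinearMap.trace ℂ V T = 0 := by
    rw [hT, map_smul, hP, map_sum]
    have : ∑ u : Q, LinearMap.trace ℂ V (ρ (u : G)) = ∑ u : Q, ρ.character (u : G) := rfl
    rw [this, h, smul_zero]
  have h1 := hproj.trace
  rw [htr] at h1
  have h2 : finrank ℂ (LinearMap.range T) = 0 := by
    exact_mod_cast h1.symm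
  have h3 : LinearMap.range T = ⊥ := Submodule.finrank_eq_zero.1 h2
  have h4 : T = 0 := LinearMap.range_eq_bot.1 h3
  have h5 : P = 0 := by
    have h6 : (Nat.card Q : ℂ) • T = P := by
      rw [hT, smul_smul, mul_inv_cancel₀ hN, one_smul]
    rw [← h6, h4, smul_zero]
  exact h5

/-- A character with no fixed vectors vanishes on elements all of whose products with `Q` are
conjugate to it. -/
theorem vanish_of_conj {χ : G → ℂ} (hχ : IsCharacter G χ) (Q : Subgroup G) [Fintype Q] [Finite G]
    (h : ∑ u : Q, χ (u : G) = 0) {x : G} (hx : ∀ u ∈ Q, IsConj (x * u) x) : χ x = 0 := by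
  obtain ⟨n, ρ, rfl⟩ := hχ
  have h1 := sum_rep_eq_zero ρ Q h
  have h2 : ∑ u : Q, ρ.character (x * u) = 0 := by
    have h3 : ∑ u : Q, ρ.character (x * u) = LinearMap.trace ℂ _ (ρ x * ∑ u : Q, ρ (u : G)) := by
      rw [Finset.mul_sum, map_sum]
      refine sum_congr rfl fun u _ => ?_
      show LinearMap.trace ℂ _ (ρ (x * u)) = _
      rw [map_mul ρ]
    rw [h3, h1, mul_zero, map_zero]
  have h4 : ∀ u : Q, ρ.character (x * u) = ρ.character x := by
    intro u
    obtain ⟨c, hc⟩ := isConj_iff.1 (hx u u.2)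
    have h6 := isClassFunction_of_isCharacter (χ := ρ.character) ⟨n, ρ, rfl⟩ (x * u) c
    rw [hc] at h6
    exact h6.symm
  simp only [h4, sum_const, card_univ, nsmul_eq_mul] at h2
  have h5 : (Fintype.card Q : ℂ) ≠ 0 := by
    exact_mod_cast Fintype.card_ne_zero
  exact (mul_eq_zero.1 h2).resolve_left h5

end Op

section Main

variable {G : Type u} [Group G] {Q H : Subgroup G}

theorem exists_conj_of_fpf [Finite G] (hF : IsFree H Q) {h : G} (hh : h ∈ H) (h1 : h ≠ 1) {u : G}
    (hu : u ∈ Q) (hQ : ∀ h ∈ H, ∀ u ∈ Q, h * u * h⁻¹ ∈ Q) : IsConj (h * u) h := by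
  have hh' : h⁻¹ ∈ H := H.inv_mem hh
  have hh1 : h⁻¹ ≠ 1 := fun h2 => h1 (by simpa using h2)
  let f : Q → Q := fun v => ⟨cm h⁻¹ (v : G), Q.mul_mem (hQ _ hh' _ v.2) (Q.inv_mem v.2)⟩
  have hf : Function.Injective f := by
    intro v w hvw
    apply Subtype.ext
    have h2 : cm h⁻¹ (v : G) = cm h⁻¹ (w : G) := congrArg (fun z : Q => (z : G)) hvw
    exact cm_inj hF hh' hh1 v.2 w.2 h2
  have hs : Function.Surjective f := Finite.injective_iff_surjective.1 hf
  obtain ⟨v, hv⟩ := hs ⟨u, hu⟩
  have h2 : cm h⁻¹ (v : G) = u := congrArg (fun z : Q => (z : G)) hv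
  rw [isConj_iff]
  refine ⟨(v : G)⁻¹, ?_⟩
  rw [← h2]
  simp only [cm]
  group

variable [Fintype G] [Fintype Q] [Fintype H] [Fintype (IrrCharacter G)]

/-- Vanishing on `H`. -/
theorem vanish (hF : IsFree H Q) (hQ : ∀ h ∈ H, ∀ u ∈ Q, h * u * h⁻¹ ∈ Q) (θ : IrrCharacter G)
    (h0 : mn θ (1 : Q →* ℤˣ) = 0) {h : G} (hh : h ∈ H) (h1 : h ≠ 1) : (θ : G → ℂ) h = 0 := by
  apply vanish_of_conj (isCharacter_of_isIrrCharacter θ.2) Q
  · have h2 := sum_char_mul_hat θ (1 : Q →* ℤˣ)
    rw [h0, hat_one_hom] at h2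
    simpa using h2
  · intro u hu
    exact exists_conj_of_fpf hF hh h1 hu hQ

/-- The degree is a multiple of `|H|`. -/
theorem exists_deg_eq (hF : IsFree H Q) (hQ : ∀ h ∈ H, ∀ u ∈ Q, h * u * h⁻¹ ∈ Q) (θ : IrrCharacter G)
    (h0 : mn θ (1 : Q →* ℤˣ) = 0) : ∃ F : ℕ, (θ : G → ℂ) 1 = (Nat.card H : ℂ) * F := by
  classical
  obtain ⟨F, hF'⟩ := exists_nat_classInner
    (isCharacter_restrict H (isCharacter_of_isIrrCharacter θ.2)) (isCharacter_one (G := H))
  refine ⟨F, ?_⟩
  rw [← hF', classInner_subgroup_eq]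
  have hN := card_subgroup_ne_zero H
  rw [mul_inv_cancel_left₀ hN, Finset.sum_eq_single (1 : H)]
  · simp
  · intro h _ hh
    have hh' : (h : G) ≠ 1 := fun h2 => hh (Subtype.ext h2)
    rw [vanish hF hQ θ h0 h.2 hh', zero_mul]
  · intro h
    exact absurd (mem_univ _) h

end Main

section Parity

variable {T : Type u} [Group T] [Fintype T]

/-- A real linear character comes from a homomorphism to `±1`. -/
theorem exists_int_hom (lam : T →* ℂˣ) (hreal : ∀ t, conj ((lam t : ℂˣ) : ℂ) = (lam t : ℂˣ)) :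
    ∃ ν : T →* ℤˣ, ∀ t, hat ν t = (lam t : ℂˣ) := by
  classical
  have hval : ∀ t, ((lam t : ℂˣ) : ℂ) = 1 ∨ ((lam t : ℂˣ) : ℂ) = -1 := by
    intro t
    have h1 : ‖((lam t : ℂˣ) : ℂ)‖ = 1 := by
      apply Complex.norm_eq_one_of_pow_eq_one (n := Nat.card T) _ Nat.card_pos.ne'
      have : lam t ^ Nat.card T = 1 := by
        rw [← map_pow, pow_card_eq_one', map_one]
      have h2 := congrArg Units.val this
      simpa using h2
    have h3 : ((lam t : ℂˣ) : ℂ) * ((lam t : ℂˣ) : ℂ) = 1 := by
      have h4 : ((lam t : ℂˣ) : ℂ) * conj ((lam t : ℂˣ) : ℂ) = 1 := by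
        rw [Complex.mul_conj, Complex.normSq_eq_norm_sq, h1]
        simp
      rwa [hreal] at h4
    have h5 : (((lam t : ℂˣ) : ℂ) - 1) * (((lam t : ℂˣ) : ℂ) + 1) = 0 := by
      linear_combination h3
    rcases mul_eq_zero.1 h5 with h6 | h6
    · left; linear_combination h6
    · right; linear_combination h6
  have hne1 : (-1 : ℂ) ≠ 1 := by norm_num
  let ν : T →* ℤˣ :=
    { toFun := fun t => if ((lam t : ℂˣ) : ℂ) = 1 then 1 else -1
      map_one' := by simp
      map_mul' := by
        intro a b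
        have h3 : ((lam (a * b) : ℂˣ) : ℂ) = ((lam a : ℂˣ) : ℂ) * ((lam b : ℂˣ) : ℂ) := by
          rw [map_mul, Units.val_mul]
        rw [h3]
        rcases hval a with h4 | h4 <;> rcases hval b with h5 | h5 <;> simp [h4, h5, hne1] }
  refine ⟨ν, fun t => ?_⟩
  by_cases h : ((lam t : ℂˣ) : ℂ) = 1
  · have : ν t = 1 := if_pos h
    rw [h, hat, this]
    simp
  · have h1 : ν t = -1 := if_neg h
    rw [(hval t).resolve_left h, hat, h1]
    simp

variable [Fintype (IrrCharacter T)] [Fintype (T →* ℤˣ)]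

open scoped Classical in
/-- **Parity**: the degree of a real character of a `2`-group is congruent to the sum of the
multiplicities of the linear real characters. -/
theorem parity_real {k : ℕ} (hT : Nat.card T = 2 ^ k) {κ : T → ℂ} (hκ : IsCharacter T κ)
    (hreal : ∀ t, conj (κ t) = κ t) (c : (T →* ℤˣ) → ℕ) (hc : ∀ ν, classInner κ (hat ν) = c ν)
    {d : ℕ} (hd : κ 1 = d) : Even (d + ∑ ν, c ν) := by
  obtain ⟨m, hm⟩ := exists_nat_combination hκ
  have hmi : ∀ i : IrrCharacter T, classInner κ (i : T → ℂ) = m i := by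
    intro i
    rw [hm]
    exact classInner_of_nat_combination m i
  let deg : IrrCharacter T → ℕ := fun i => charDegree (i : T → ℂ)
  have hdeg : ∀ i : IrrCharacter T, (i : T → ℂ) 1 = deg i := fun i =>
    (charDegree_natCast (isCharacter_of_isIrrCharacter i.2)).symm
  have hd' : d = ∑ i, m i * deg i := by
    have h1 : (d : ℂ) = ∑ i, (m i : ℂ) * (deg i : ℂ) := by
      rw [← hd, hm, Finset.sum_apply]
      refine sum_congr rfl fun i _ => ?_
      rw [Pi.smul_apply, nsmul_eq_mul, hdeg]
    exact_mod_cast h1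
  -- the conjugate character
  let cj : IrrCharacter T → IrrCharacter T := fun i => ⟨fun t => conj ((i : T → ℂ) t), isIrr_conj i.2⟩
  have hcj : ∀ i, cj (cj i) = i := by
    intro i
    apply Subtype.ext
    funext t
    simp [cj]
  have hmcj : ∀ i, m (cj i) = m i := by
    intro i
    have h1 : classInner κ (cj i : T → ℂ) = conj (classInner κ (i : T → ℂ)) := by
      simp only [classInner, map_mul, map_sum, map_inv₀, map_natCast, cj, hreal]
    rw [hmi, hmi] at h1
    simp only [map_natCast] at h1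
    exact_mod_cast h1
  have hdegcj : ∀ i, deg (cj i) = deg i := by
    intro i
    apply charDegree_eq_of_eq_natCast
    show conj ((i : T → ℂ) 1) = _
    rw [hdeg]
    simp
  -- work modulo two
  let g : IrrCharacter T → ZMod 2 := fun i => (m i : ZMod 2) * (deg i : ZMod 2)
  let L : Finset (IrrCharacter T) := univ.filter (fun i => deg i = 1 ∧ cj i = i)
  have hR : ∑ i ∈ univ.filter (fun i => ¬ (deg i = 1 ∧ cj i = i)), g i = 0 := by
    apply Finset.sum_involution (fun i _ => cj i)
    · intro i _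
      simp only [g, hmcj, hdegcj]
      exact CharTwo.add_self_eq_zero _
    · intro i hi hgi hself
      apply hgi
      simp only [mem_filter, mem_univ, true_and, not_and] at hi
      have hdeg1 : deg i ≠ 1 := fun h => hi h hself
      have hdvd : deg i ∣ 2 ^ k := by
        rw [← hT]
        exact charDegree_dvd_card i.2
      obtain ⟨j, -, hj⟩ := (Nat.dvd_prime_pow Nat.prime_two).1 hdvd
      have hj0 : j ≠ 0 := by
        rintro rfl
        exact hdeg1 (by simpa using hj)
      have hev : (deg i : ZMod 2) = 0 := by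
        rw [hj]
        push_cast
        rw [show (2 : ZMod 2) = 0 from rfl, zero_pow hj0]
      simp only [g, hev, mul_zero]
    · intro i hi
      simp only [mem_filter, mem_univ, true_and, not_and] at hi ⊢
      intro h1 h2
      apply hi (by rw [← hdegcj]; exact h1)
      exact h2.symm.trans (hcj i)
    · intro i _
      exact hcj i
  have hL : ∑ i ∈ L, g i = ∑ ν, (c ν : ZMod 2) := by
    have hLe : L = (univ : Finset (T →* ℤˣ)).image (fun ν => (⟨hat ν, isIrr_hat ν⟩ : IrrCharacter T)) := by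
      ext i
      simp only [L, mem_filter, mem_univ, true_and, mem_image]
      constructor
      · rintro ⟨h1, h2⟩
        have hone : (i : T → ℂ) 1 = 1 := by
          rw [hdeg, h1]
          simp
        obtain ⟨lam, hlam⟩ := exists_hom_of_deg_one (isCharacter_of_isIrrCharacter i.2) hone
        obtain ⟨ν, hν⟩ := exists_int_hom lam (by
          intro t
          have h3 := congrFun (congrArg Subtype.val h2) t
          have h4 : conj ((i : T → ℂ) t) = (i : T → ℂ) t := h3
          rw [hlam] at h4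
          exact h4)
        refine ⟨ν, Subtype.ext ?_⟩
        rw [hlam]
        funext t
        exact hν t
      · rintro ⟨ν, rfl⟩
        constructor
        · apply charDegree_eq_of_eq_natCast
          simp
        · apply Subtype.ext
          funext t
          exact hat_conj ν t
    rw [hLe, sum_image]
    · refine sum_congr rfl fun ν _ => ?_
      have h1 : deg ⟨hat ν, isIrr_hat ν⟩ = 1 := by
        apply charDegree_eq_of_eq_natCast
        simp
      have h2 : m ⟨hat ν, isIrr_hat ν⟩ = c ν := by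
        have h3 := hmi ⟨hat ν, isIrr_hat ν⟩
        have h4 := hc ν
        have h5 : ((m ⟨hat ν, isIrr_hat ν⟩ : ℕ) : ℂ) = c ν := by
          rw [← h3, ← h4]
        exact_mod_cast h5
      simp only [g, h1, h2]
      simp
    · intro a _ b _ hab
      exact hat_inj (congrArg Subtype.val hab)
  have hall : ((d + ∑ ν, c ν : ℕ) : ZMod 2) = 0 := by
    have h1 : (d : ZMod 2) = ∑ i, g i := by
      rw [hd']
      push_cast
      rfl
    have h2 : ∑ i, g i = ∑ i ∈ L, g i + ∑ i ∈ univ.filter (fun i => ¬ (deg i = 1 ∧ cj i = i)), g i :=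
      (Finset.sum_filter_add_sum_filter_not univ _ _).symm
    push_cast
    rw [h1, h2, hR, add_zero, hL]
    exact CharTwo.add_self_eq_zero _
  exact (ZMod.natCast_eq_zero_iff_even).1 hall

end Parity

end Cfsg.Agent.Lib.Suz.NonSp
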