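import Cfsg.Agent.Lib.Suz.NonSp
import Cfsg.Agent.S0881
import Cfsg.Agent.S0157
import Cfsg.Agent.Lib.Char.RealChar

/-!
# The special characters

These are the irreducible constituents of the character induced from the trivial character of `Q`.
-/

set_option autoImplicit false
set_option linter.style.haveILetI false
set_option linter.unusedSectionVars false

namespace Cfsg.Agent.Lib.Suz.Spec

open Cfsg Finset Module MulAction
open Cfsg.Agent.Lib.Char.Induced Cfsg.Agent.Lib.Char.Complete Cfsg.Agent.Lib.Char.Basic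
  Cfsg.Agent.Lib.Char.Ortho Cfsg.Agent.Lib.Char.Linear Cfsg.Agent.Lib.Char.Conj
  Cfsg.Agent.Lib.Char.FrobSchur Cfsg.Agent.Lib.Char.Degree
open Cfsg.Agent.Lib.Suz.Ind Cfsg.Agent.Lib.Suz.LinD Cfsg.Agent.Lib.Suz.Sect
  Cfsg.Agent.Lib.Suz.Mult Cfsg.Agent.Lib.Suz.NonSp
open scoped ComplexConjugate

universe u v

section Abstract

open scoped Classical in
/-- A non-zero partial sum over a normal subgroup with abelian quotient is seen by a linear
character of the quotient. -/
theorem exists_linear_of_sum {B : Type u} [Group B] [Fintype B] (K : Subgroup B) [hK : K.Normal]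
    (hcomm : ∀ a b : B ⧸ K, a * b = b * a) (f : B → ℂ)
    (h : ∑ x : B, (if x ∈ K then f x else 0) ≠ 0) :
    ∃ ν : B →* ℂˣ, (∀ x ∈ K, ν x = 1) ∧ ∑ x : B, ((ν x : ℂˣ) : ℂ) * f x ≠ 0 := by
  letI : CommGroup (B ⧸ K) := { (inferInstance : Group (B ⧸ K)) with mul_comm := hcomm }
  letI : Fintype (Additive (B ⧸ K)) := Fintype.ofFinite _
  let W := Additive (B ⧸ K)
  have hmk : ∀ x : B, ((Additive.ofMul (x : B ⧸ K) : W) = 0) ↔ x ∈ K := by
    intro x
    exact QuotientGroup.eq_one_iff x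
  have hsum : ∑ ψ : AddChar W ℂ, ∑ x : B, ψ (Additive.ofMul (x : B ⧸ K)) * f x
      = (Fintype.card W : ℂ) * ∑ x : B, (if x ∈ K then f x else 0) := by
    rw [sum_comm, mul_sum]
    refine sum_congr rfl fun x _ => ?_
    rw [← sum_mul, AddChar.sum_apply_eq_ite]
    by_cases hx : x ∈ K
    · rw [if_pos ((hmk x).2 hx), if_pos hx]
    · rw [if_neg (fun h1 => hx ((hmk x).1 h1)), if_neg hx]
      simp
  have hne : ∑ ψ : AddChar W ℂ, ∑ x : B, ψ (Additive.ofMul (x : B ⧸ K)) * f x ≠ 0 := by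
    rw [hsum]
    apply mul_ne_zero _ h
    exact_mod_cast Fintype.card_ne_zero
  obtain ⟨ψ, -, hψ⟩ := Finset.exists_ne_zero_of_sum_ne_zero hne
  let μ : B →* ℂ :=
    { toFun := fun x => ψ (Additive.ofMul (x : B ⧸ K))
      map_one' := AddChar.map_zero_eq_one ψ
      map_mul' := fun a b => by
        rw [← AddChar.map_add_eq_mul]
        rfl }
  refine ⟨μ.toHomUnits, ?_, ?_⟩
  · intro x hx
    apply Units.ext
    show ψ (Additive.ofMul (x : B ⧸ K)) = 1
    rw [(hmk x).2 hx, AddChar.map_zero_eq_one]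
  · exact hψ

end Abstract

section Main

variable {G : Type u} {Ω : Type v} [Group G] [Fintype G] [MulAction G Ω] [Fintype Ω]
  {Q H : Subgroup G} [Fintype Q] [Fintype H] [Fintype (IrrCharacter G)]

/-- Multiplicities from values. -/
theorem mc_of_values {θ : IrrCharacter G} {d c : ℂ} (hd : (θ : G → ℂ) 1 = d)
    (hc : ∀ u ∈ Q, u ≠ 1 → (θ : G → ℂ) u = c) (ν : Q →* ℤˣ) (hd' : conj d = d) (hc' : conj c = c) :
    mc θ ν = (Nat.card Q : ℂ)⁻¹ * (d - c) + c * (if ν = 1 then 1 else 0) := by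
  classical
  have hN := card_subgroup_ne_zero Q
  have h1 : ∀ u : Q, hat ν u * conj (res θ u) = c * hat ν u + (if u = 1 then (d - c) else 0) := by
    intro u
    by_cases hu : u = 1
    · subst hu
      simp [res, hd, hd']
    · have hu' : (u : G) ≠ 1 := fun h => hu (Subtype.ext h)
      rw [if_neg hu, add_zero]
      simp only [res]
      rw [hc u u.2 hu', hc', mul_comm]
  rw [mc, classInner_subgroup_eq]
  simp only [h1]
  rw [sum_add_distrib, ← mul_sum, sum_hat, Finset.sum_ite_eq' univ (1 : Q)]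
  simp only [mem_univ, if_true]
  by_cases hν : ν = 1
  · simp only [hν, if_true]
    field_simp
    ring
  · simp only [if_neg hν]
    ring

/-- The hypotheses. -/
structure ZC (G : Type u) {Ω : Type v} [Group G] [MulAction G Ω] [Fintype Ω] (a b : Ω)
    (Q : Subgroup G) : Prop where
  hZ : IsZassenhausGroup G Ω
  hab : a ≠ b
  Qa : Q ≤ stabilizer G a
  Qcard : Nat.card Q + 1 = Fintype.card Ω
  Qfix : ∀ u ∈ Q, u ≠ 1 → ∀ c : Ω, u • c = c → c = a
  Qnorm : ∀ x ∈ stabilizer G a, ∀ u ∈ Q, x * u * x⁻¹ ∈ Q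
  Qcomm : ∀ x ∈ stabilizer G a, ∀ y ∈ stabilizer G a, x * y * x⁻¹ * y⁻¹ ∈ Q
  hodd : Odd (Nat.card ↥(stabilizer G a ⊓ stabilizer G b : Subgroup G))
  hlt : Nat.card ↥(stabilizer G a ⊓ stabilizer G b : Subgroup G) < Fintype.card Ω - 2

variable {a b : Ω}

theorem ZC.pretrans (z : ZC G a b Q) : IsPretransitive G Ω :=
  Cfsg.Agent.Lib.Zass.InvCentral.pretrans z.hZ

theorem ZC.two_le (z : ZC G a b Q) : 2 ≤ Nat.card Ω := by
  rw [Nat.card_eq_fintype_card]
  have h1 : a ∈ (univ : Finset Ω) := mem_univ a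
  have h2 : b ∈ (univ : Finset Ω) := mem_univ b
  have : 1 < (univ : Finset Ω).card := one_lt_card.2 ⟨a, h1, b, h2, z.hab⟩
  exact this

/-- The principal character. -/
def oneI (G : Type u) [Group G] [Fintype G] [Fintype (IrrCharacter G)] : IrrCharacter G :=
  ⟨fun _ => 1, Cfsg.Agent.Lib.Char.RealChar.isIrr_one'⟩

/-- The permutation character minus one. -/
noncomputable def chi0 (z : ZC G a b Q) : IrrCharacter G :=
  ⟨fun g => (Nat.card (fixedBy Ω g) : ℂ) - 1, by
    haveI := z.pretrans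
    exact (Cfsg.Agent.S0157.result Ω z.two_le).2 z.hZ.2.1⟩

theorem chi0_apply (z : ZC G a b Q) (g : G) :
    ((chi0 z : IrrCharacter G) : G → ℂ) g = (Nat.card (fixedBy Ω g) : ℂ) - 1 := rfl

theorem chi0_one (z : ZC G a b Q) : ((chi0 z : IrrCharacter G) : G → ℂ) 1 = (Nat.card Q : ℂ) := by
  rw [chi0_apply]
  have h1 : Nat.card (fixedBy Ω (1 : G)) = Fintype.card Ω := by
    rw [MulAction.fixedBy_one_eq_univ]
    simp
  rw [h1, ← z.Qcard]
  push_cast
  ring

theorem chi0_ker (z : ZC G a b Q) {u : G} (hu : u ∈ Q) (hu1 : u ≠ 1) :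
    ((chi0 z : IrrCharacter G) : G → ℂ) u = 0 := by
  rw [chi0_apply]
  have h1 : Nat.card (fixedBy Ω u) = 1 := by
    rw [Nat.card_eq_one_iff_unique]
    refine ⟨⟨fun x y => ?_⟩, ⟨⟨a, z.Qa hu⟩⟩⟩
    apply Subtype.ext
    rw [z.Qfix u hu hu1 x.1 x.2, z.Qfix u hu hu1 y.1 y.2]
  rw [h1]
  simp

open scoped Classical in
/-- The characters induced from non-principal linear characters of the stabiliser. -/
noncomputable def setA (G : Type u) [Group G] [Fintype G] [Fintype (IrrCharacter G)] (Q : Subgroup G) :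
    Finset (IrrCharacter G) :=
  univ.filter (fun θ => (θ : G → ℂ) 1 = (Nat.card Q : ℂ) + 1 ∧ ∀ u ∈ Q, u ≠ 1 → (θ : G → ℂ) u = 1)

theorem mem_setA {θ : IrrCharacter G} : θ ∈ setA G Q ↔
    (θ : G → ℂ) 1 = (Nat.card Q : ℂ) + 1 ∧ ∀ u ∈ Q, u ≠ 1 → (θ : G → ℂ) u = 1 := by
  simp [setA]

/-- **All the special characters.** -/
theorem hall [IsSimpleGroup G] (z : ZC G a b Q) (θ : IrrCharacter G)
    (h : mn θ (1 : Q →* ℤˣ) ≠ 0) : θ = oneI G ∨ θ = chi0 z ∨ θ ∈ setA G Q := by
  classical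
  letI : Fintype (stabilizer G a) := Fintype.ofFinite _
  have hpre := z.pretrans
  let K : Subgroup (stabilizer G a) := Q.subgroupOf (stabilizer G a)
  haveI hK : K.Normal := by
    refine ⟨fun n hn g => ?_⟩
    rw [Subgroup.mem_subgroupOf] at hn ⊢
    exact z.Qnorm g g.2 n hn
  have hcomm : ∀ x y : stabilizer G a ⧸ K, x * y = y * x := by
    intro x y
    induction x using QuotientGroup.induction_on with
    | H x =>
    induction y using QuotientGroup.induction_on with
    | H y =>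
    rw [← QuotientGroup.mk_mul, ← QuotientGroup.mk_mul, QuotientGroup.eq]
    show (((x * y)⁻¹ * (y * x) : stabilizer G a) : G) ∈ Q
    have h1 := z.Qcomm _ ((stabilizer G a).inv_mem y.2) _ ((stabilizer G a).inv_mem x.2)
    have h2 : (((x * y)⁻¹ * (y * x) : stabilizer G a) : G)
        = (y : G)⁻¹ * (x : G)⁻¹ * (y : G)⁻¹⁻¹ * (x : G)⁻¹⁻¹ := by
      push_cast
      group
    rw [h2]
    exact h1
  let f : stabilizer G a → ℂ := fun x => conj ((θ : G → ℂ) x)
  have hsum : ∑ x : stabilizer G a, (if x ∈ K then f x else 0) = ∑ u : Q, conj ((θ : G → ℂ) u) := by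
    rw [← Finset.sum_filter]
    let i : Q → stabilizer G a := fun u => ⟨u, z.Qa u.2⟩
    have hi : (univ.filter (fun x : stabilizer G a => x ∈ K)) = (univ : Finset Q).image i := by
      ext x
      simp only [mem_filter, mem_univ, true_and, mem_image, K, Subgroup.mem_subgroupOf]
      constructor
      · intro hx
        exact ⟨⟨x, hx⟩, rfl⟩
      · rintro ⟨u, rfl⟩
        exact u.2
    rw [hi, sum_image]
    intro u _ v _ huv
    apply Subtype.ext
    exact congrArg (fun y : stabilizer G a => (y : G)) huv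
  have hne : ∑ x : stabilizer G a, (if x ∈ K then f x else 0) ≠ 0 := by
    rw [hsum]
    intro h0
    apply h
    have h1 := mc_eq θ (1 : Q →* ℤˣ)
    rw [mc, classInner_subgroup_eq, hat_one_hom] at h1
    simp only [one_mul] at h1
    have h2 : ∑ u : Q, conj (res θ u) = ∑ u : Q, conj ((θ : G → ℂ) u) := rfl
    rw [h2, h0, mul_zero] at h1
    exact_mod_cast h1.symm
  obtain ⟨ν, hν, hνs⟩ := exists_linear_of_sum K hcomm f hne
  let μ : stabilizer G a → ℂ := fun x => ((ν x : ℂˣ) : ℂ)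
  have hcl : IsClassFunction G (θ : G → ℂ) := isClassFunction_of_isIrrCharacter θ.2
  have hinner : classInner (indFun (stabilizer G a) μ) (θ : G → ℂ) ≠ 0 := by
    rw [classInner_indFun_left _ _ _ hcl, classInner_subgroup_eq]
    exact mul_ne_zero (inv_ne_zero (card_subgroup_ne_zero _)) hνs
  by_cases hνt : ν = 1
  · -- the permutation character
    have hμ1 : μ = fun _ => 1 := by
      funext x
      simp [μ, hνt]
    have h1 : indFun (stabilizer G a) μ = (fun _ => (1 : ℂ)) + ((chi0 z : IrrCharacter G) : G → ℂ) := by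
      funext g
      rw [hμ1, ← Cfsg.Agent.Lib.Char.PermChar.card_fixedBy_eq_indFun Ω a g, Pi.add_apply, chi0_apply]
      ring
    rw [h1, classInner_add_left] at hinner
    by_cases h2 : θ = oneI G
    · exact Or.inl h2
    by_cases h3 : θ = chi0 z
    · exact Or.inr (Or.inl h3)
    exfalso
    apply hinner
    have h4 : classInner (fun _ : G => (1 : ℂ)) (θ : G → ℂ) = 0 :=
      classInner_eq_zero_of_isIrr_of_ne (oneI G).2 θ.2 (fun h5 => h2 (Subtype.ext h5.symm))
    have h5 : classInner (((chi0 z : IrrCharacter G)) : G → ℂ) (θ : G → ℂ) = 0 :=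
      classInner_eq_zero_of_isIrr_of_ne (chi0 z).2 θ.2 (fun h5 => h3 (Subtype.ext h5.symm))
    rw [h4, h5, add_zero]
  · -- an induced character
    right; right
    have hμne : μ ≠ fun _ => 1 := by
      intro h1
      apply hνt
      ext x
      have h2 : ((ν x : ℂˣ) : ℂ) = 1 := congrFun h1 x
      have h3 : ν x = 1 := Units.ext h2
      simp [h3]
    have hμc : IsCharacter (stabilizer G a) μ ∧ μ 1 = 1 :=
      ⟨isCharacter_of_isIrrCharacter (isIrrCharacter_of_hom ν), by simp [μ]⟩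
    obtain ⟨h1, h2⟩ := Cfsg.Agent.S0881.result z.hZ z.hab z.hodd z.hlt Q z.Qa z.Qcard z.Qfix μ hμc
      (by
        intro x hx
        have h3 : ν x = 1 := hν x (Subgroup.mem_subgroupOf.2 hx)
        simp [μ, h3])
      hμne
    have h3 : θ = ⟨_, h1⟩ := by
      by_contra hne'
      exact hinner (classInner_eq_zero_of_isIrr_of_ne h1 θ.2 (fun h5 => hne' (Subtype.ext h5.symm)))
    rw [mem_setA, h3]
    refine ⟨?_, h2⟩
    show indFun (stabilizer G a) μ 1 = _
    rw [indFun_one, hμc.2, mul_one, MulAction.index_stabilizer_of_transitive G a,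
      Nat.card_eq_fintype_card, ← z.Qcard]
    push_cast
    rfl

end Main

end Cfsg.Agent.Lib.Suz.Spec
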